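import Cfsg.Agent.CentFour.Main
import Cfsg.Agent.ZJ.DihedralSection

/-!
# A self-centralising four group with fused involutions and no inverted element of order three
-/

set_option autoImplicit false
set_option linter.unusedSectionVars false

namespace CfsgLib.GoldFree

open Subgroup

universe u

theorem inverts_altFive : CfsgLib.ZJ.Inverts 3 ↥(alternatingGroup (Fin 5)) := by
  refine ⟨⟨Equiv.swap 0 1 * Equiv.swap 2 3, Equiv.Perm.mem_alternatingGroup.2 (by decide)⟩,
    ⟨Equiv.swap 0 4 * Equiv.swap 0 1, Equiv.Perm.mem_alternatingGroup.2 (by decide)⟩,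
    by decide, ⟨1, by decide⟩, by decide⟩

theorem inverts_of_mulEquiv {A B : Type*} [Group A] [Group B] {p : ℕ} (e : A ≃* B)
    (h : CfsgLib.ZJ.Inverts p A) : CfsgLib.ZJ.Inverts p B := by
  obtain ⟨g, x, hx, ⟨k, hk⟩, hgx⟩ := h
  exact ⟨e g, e x, by simpa using hx, ⟨k, by rw [← map_pow, hk, map_one]⟩,
    by rw [← map_inv, ← map_mul, ← map_mul, hgx, map_inv]⟩

variable {Q : Type u} [Group Q] [Finite Q]

theorem four_core {v w z : Q} (hv : v * v = 1) (hv1 : v ≠ 1) (hw : w * w = 1) (hvw : v ≠ w)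
    (hz1 : z * v * z⁻¹ = w) (hz2 : z * w * z⁻¹ = v * w) (hcomm : v * w = w * v)
    (h2 : ∀ (x : Q) (k : ℕ), x ^ 2 ^ k = 1 → x * x = 1)
    (hC : ∀ x : Q, x * v = v * x → x = 1 ∨ x = v ∨ x = w ∨ x = v * w)
    (hno : ¬ CfsgLib.ZJ.Inverts 3 Q) :
    (∀ x : Q, x * x = 1 → x = 1 ∨ x = v ∨ x = w ∨ x = v * w) ∧
      ∀ (x : Q) (k : ℕ), Nat.Coprime k 6 → x ^ k = 1 → x = 1 := by
  classical
  haveI : Fact (Nat.Prime 2) := ⟨Nat.prime_two⟩
  have hw1 : w ≠ 1 := fun e => hv1 (conj_eq_one_iff.1 (hz1.trans e))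
  have hvw1 : v * w ≠ 1 := fun e => hvw (by rw [eq_inv_of_mul_eq_one_right e,
    inv_eq_of_mul_eq_one_right hv])
  -- the four group
  let V : Subgroup Q := centralizer ({v} : Set Q)
  have hVmem : ∀ x, x ∈ V ↔ (x = 1 ∨ x = v ∨ x = w ∨ x = v * w) := by
    intro x
    rw [mem_centralizer_singleton_iff]
    refine ⟨hC x, ?_⟩
    rintro (rfl | rfl | rfl | rfl)
    · rw [one_mul, mul_one]
    · rfl
    · exact hcomm.symm
    · rw [mul_assoc, ← hcomm]
  have hVe : (V : Set Q) = {1, v, w, v * w} := by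
    ext x; simp [hVmem]
  have hV4 : Nat.card V = 4 := by
    rw [← SetLike.coe_sort_coe, hVe, Nat.card_coe_set_eq]
    have e1 : v ≠ v * w := fun e => hw1 (left_eq_mul.1 e)
    have e2 : w ≠ v * w := fun e => hv1 (right_eq_mul.1 e)
    rw [Set.ncard_insert_of_notMem (by simp [Ne.symm hv1, Ne.symm hw1, Ne.symm hvw1]),
      Set.ncard_insert_of_notMem (by simp [hvw, e1]), Set.ncard_pair e2]
  have hsq2 : ∀ P : Subgroup Q, IsPGroup 2 P → ∀ a ∈ P, a * a = 1 := fun P hP a ha => by
    obtain ⟨k, hk⟩ := hP ⟨a, ha⟩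
    exact h2 a k (by simpa using congrArg Subtype.val hk)
  have hab2 : ∀ P : Subgroup Q, IsPGroup 2 P → ∀ a ∈ P, ∀ b ∈ P, a * b = b * a := by
    intro P hP a ha b hb
    rw [← inv_eq_of_mul_eq_one_right (hsq2 P hP _ (mul_mem ha hb)), mul_inv_rev,
      inv_eq_of_mul_eq_one_right (hsq2 P hP a ha), inv_eq_of_mul_eq_one_right (hsq2 P hP b hb)]
  obtain ⟨S, hVS⟩ := (IsPGroup.of_card (n := 2) (by rw [hV4]; norm_num) : IsPGroup 2 V).exists_le_sylow
  have hvV : v ∈ V := (hVmem v).2 (Or.inr (Or.inl rfl))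
  have hSV : (S : Subgroup Q) = V := le_antisymm (fun x hx => mem_centralizer_singleton_iff.2
    (hab2 _ S.isPGroup' x hx v (hVS hvV))) hVS
  -- every involution is conjugate to `v`
  have hconj : ∀ x : Q, x * x = 1 → x ≠ 1 → ∃ g : Q, g * v * g⁻¹ = x := by
    intro x hx hx1
    have hp : IsPGroup 2 (zpowers x) := IsPGroup.of_card (n := 1) (by
      rw [Nat.card_zpowers, pow_one]; exact orderOf_eq_prime (by rw [pow_two, hx]) hx1)
    obtain ⟨R, hR⟩ := hp.exists_le_sylow
    obtain ⟨g, hg⟩ := MulAction.exists_smul_eq Q S R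
    have hxR : x ∈ (R : Subgroup Q) := hR (mem_zpowers x)
    rw [← hg, Sylow.coe_subgroup_smul] at hxR
    obtain ⟨y, hy, rfl⟩ := hxR
    have hy' : y ∈ V := hSV ▸ hy
    have hyc : ∃ h : Q, h * v * h⁻¹ = y := by
      rcases (hVmem y).1 hy' with rfl | rfl | rfl | rfl
      · exact absurd (map_one _) hx1
      · exact ⟨1, by group⟩
      · exact ⟨z, hz1⟩
      · exact ⟨z * z, by rw [← hz2, ← hz1]; group⟩
    obtain ⟨h, rfl⟩ := hyc
    exact ⟨g * h, by simp [MulAut.conj_apply, mul_assoc]⟩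
  by_cases hE : ∃ E : Subgroup Q, E.Normal ∧ Cfsg.IsElementaryAbelian 2 E ∧
      (Nat.card E = 2 ∨ Nat.card E = 4)
  swap
  · exfalso
    apply hno
    have hnc : ¬ Cfsg.HasNormalPComplement 2 Q := by
      rintro ⟨P, N, hN, hc⟩
      haveI := hN
      have hcop : Odd (Nat.card N) := by
        have hP : Nat.card (P : Subgroup Q) = 4 := by
          rw [P.card_eq_multiplicity, ← S.card_eq_multiplicity, hSV, hV4]
        rw [Nat.odd_iff, ← Nat.two_dvd_ne_zero]
        intro h2N
        refine P.not_dvd_index ?_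
        rwa [hc.index_eq_card]
      have hcomm' : ∀ a b : Q ⧸ N, a * b = b * a := by
        intro a b
        obtain ⟨a', rfl⟩ := QuotientGroup.mk_surjective a
        obtain ⟨b', rfl⟩ := QuotientGroup.mk_surjective b
        obtain ⟨⟨n1, p1⟩, h1⟩ := hc.2 a'
        obtain ⟨⟨n2, p2⟩, h2'⟩ := hc.2 b'
        simp only at h1 h2'
        rw [← h1, ← h2', QuotientGroup.mk_mul, QuotientGroup.mk_mul,
          (QuotientGroup.eq_one_iff (n1 : Q)).2 n1.2, (QuotientGroup.eq_one_iff (n2 : Q)).2 n2.2,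
          one_mul, one_mul, ← QuotientGroup.mk_mul, ← QuotientGroup.mk_mul,
          hab2 _ P.isPGroup' p1 p1.2 p2 p2.2]
      have hm : v * w ∈ N := by
        rw [← QuotientGroup.eq_one_iff, QuotientGroup.mk_mul, ← hz1, QuotientGroup.mk_mul,
          QuotientGroup.mk_mul, QuotientGroup.mk_inv, hcomm' (z : Q ⧸ N), mul_inv_cancel_right,
          ← QuotientGroup.mk_mul, hv, QuotientGroup.mk_one]
      have hsq : (v * w) * (v * w) = 1 := by
        rw [mul_assoc, ← mul_assoc w, ← hcomm, mul_assoc v w w, hw, mul_one, hv]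
      exact hvw1 (CfsgLib.CentFour.eq_one_of_sq_of_odd hcop hm (by rw [pow_two]; exact hsq))
    obtain ⟨e⟩ := CfsgLib.CentFour.nonempty_iso (x := v)
      (orderOf_eq_prime (by rw [pow_two, hv]) hv1) hV4
      (fun c hc => by rw [pow_two]; exact hsq2 V (hSV ▸ S.isPGroup') c hc) hnc
      (fun E hn he => ⟨fun h => hE ⟨E, hn, he, Or.inl h⟩, fun h => hE ⟨E, hn, he, Or.inr h⟩⟩)
    exact inverts_of_mulEquiv e.symm inverts_altFive
  obtain ⟨E, hEn, hEe, hEc⟩ := hE
  have hne : E ≠ ⊥ := fun h => by rw [h, card_bot] at hEc; omega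
  obtain ⟨e, heE, he1⟩ := (bot_or_exists_ne_one E).resolve_left hne
  obtain ⟨g, hg⟩ := hconj e (by rw [← pow_two]; exact hEe.2 e heE) he1
  have hvE : v ∈ E := by
    have := hEn.conj_mem e heE g⁻¹
    rw [← hg] at this
    simpa [mul_assoc] using this
  have hwE : w ∈ E := hz1 ▸ hEn.conj_mem v hvE z
  have hVE : V ≤ E := fun x hx => by
    rcases (hVmem x).1 hx with rfl | rfl | rfl | rfl
    exacts [one_mem _, hvE, hwE, mul_mem hvE hwE]
  have hEV : V = E := Subgroup.eq_of_le_of_card_ge hVE (by rw [hV4]; omega)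
  have hVn : V.Normal := hEV ▸ hEn
  refine ⟨fun x hx => ?_, fun x k hk hxk => ?_⟩
  · by_cases hx1 : x = 1
    · exact Or.inl hx1
    obtain ⟨h, rfl⟩ := hconj x hx hx1
    exact (hVmem _).1 (hVn.conj_mem v hvV h)
  · have key : x ^ 6 ∈ V := by
      let s : Set Q := {v, w, v * w}
      have hmaps : ∀ a : Q, a ∈ s → x * a * x⁻¹ ∈ s := by
        intro a ha
        have haV : a ∈ V := (hVmem a).2 (Or.inr ha)
        rcases (hVmem _).1 (hVn.conj_mem a haV x) with h | h
        · rcases ha with rfl | rfl | rfl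
          exacts [absurd (conj_eq_one_iff.1 h) hv1, absurd (conj_eq_one_iff.1 h) hw1,
            absurd (conj_eq_one_iff.1 h) hvw1]
        · exact h
      let f : s → s := fun a => ⟨x * a * x⁻¹, hmaps a a.2⟩
      have hf : Function.Bijective f := by
        refine Finite.injective_iff_bijective.1 fun a b h => ?_
        exact Subtype.ext (mul_left_cancel (mul_right_cancel (congrArg Subtype.val h)))
      set π : Equiv.Perm s := Equiv.ofBijective f hf with hπ
      have hiter : ∀ (n : ℕ) (a : s), (((π ^ n) a : s) : Q) = x ^ n * a * (x ^ n)⁻¹ := by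
        intro n
        induction n with
        | zero => intro a; simp
        | succ n ih =>
          intro a
          rw [pow_succ', Equiv.Perm.mul_apply]
          show x * (((π ^ n) a : s) : Q) * x⁻¹ = _
          rw [ih, pow_succ']; group
      have h6 : π ^ 6 = 1 := by
        have hc : Nat.card (Equiv.Perm s) ∣ 6 := by
          rw [Nat.card_perm]
          have : Nat.card s ≤ 3 := by
            rw [Nat.card_coe_set_eq]
            exact (Set.ncard_insert_le _ _).trans (Nat.succ_le_succ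
              ((Set.ncard_insert_le _ _).trans (by rw [Set.ncard_singleton])))
          exact Nat.factorial_dvd_factorial this
        obtain ⟨c, hc⟩ := (orderOf_dvd_natCard π).trans hc
        rw [hc, pow_mul, pow_orderOf_eq_one, one_pow]
      have h := hiter 6 ⟨v, Or.inl rfl⟩
      rw [h6, Equiv.Perm.one_apply] at h
      show x ^ 6 ∈ centralizer ({v} : Set Q)
      exact mem_centralizer_singleton_iff.2 (mul_inv_eq_iff_eq_mul.1 h.symm)
    have h12 : x ^ 12 = 1 := by
      rw [show 12 = 6 * 2 from rfl, pow_mul, pow_two]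
      exact hsq2 V (hSV ▸ S.isPGroup') _ key
    have hcop : Nat.Coprime k 12 := by
      rw [show 12 = 6 * 2 from rfl]
      exact Nat.Coprime.mul_right hk (Nat.Coprime.coprime_dvd_right (by norm_num) hk)
    exact orderOf_eq_one_iff.1 (Nat.eq_one_of_dvd_coprimes hcop (orderOf_dvd_of_pow_eq_one hxk)
      (orderOf_dvd_of_pow_eq_one h12))

end CfsgLib.GoldFree
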