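import Cfsg.Agent.GLElem.PSL2Classes
import Cfsg.Agent.Classical.PSLTwo
import Cfsg.Agent.Char.FourTransitive

/-!
# The facts about `PSL₂(q)`, `q = 3^odd`, used for groups of Ree type
-/

set_option autoImplicit false
set_option linter.unusedSectionVars false

namespace CfsgLib.GoldFree

open scoped Classical
open Matrix Subgroup CfsgLib.SL2C
open CfsgLib.Linear.SmallSub (proj P2)

/-- The facts about `K ≅ PSL₂(q)`. -/
structure KFacts (K : Type*) [Group K] (q : ℕ) : Prop where
  card_eq : 2 * Nat.card K + q = q ^ 3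
  card_inv : 2 * Nat.card {k : K // k * k = 1 ∧ k ≠ 1} + q = q ^ 2
  klein : ∃ a b w : K, a * a = 1 ∧ a ≠ 1 ∧ b * b = 1 ∧ b ≠ 1 ∧ a ≠ b ∧ a * b = b * a ∧
    w ^ 3 = 1 ∧ w * a * w⁻¹ = b ∧ w * b * w⁻¹ = a * b
  torus : ∀ x : K, x * x = 1 → x ≠ 1 → ∃ U : Subgroup K, x ∈ U ∧ IsCyclic U ∧
    2 * Nat.card U = q + 1 ∧ U ≤ centralizer {x} ∧ Nat.card (centralizer ({x} : Set K)) = q + 1 ∧
    (∀ c ∈ centralizer ({x} : Set K), c ∉ U → c * c = 1 ∧ ∀ y ∈ U, c * y * c⁻¹ = y⁻¹) ∧
    ∀ y ∈ U, y ≠ 1 → ∀ k, k * y * k⁻¹ ∈ U → k ∈ centralizer ({x} : Set K)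
  card3 : Nat.card {k : K // orderOf k = 3} + 1 = q ^ 2
  cent3 : ∀ k : K, orderOf k = 3 → Nat.card (centralizer ({k} : Set K)) = q ∧
    ∀ a ∈ centralizer ({k} : Set K), ∀ b ∈ centralizer ({k} : Set K), a * b = b * a
  no_inv : ∀ k : K, orderOf k = 3 → ∀ i : K, i * i = 1 → i * k * i ≠ k⁻¹
  gen : ∃ g0 : K → ℂ, Cfsg.IsGeneralizedCharacter K g0 ∧ g0 1 = (q : ℂ) ^ 2 - 1 ∧
    (∀ k, orderOf k = 3 → g0 k = -1) ∧ ∀ k, k ≠ 1 → orderOf k ≠ 3 → g0 k = 0

section Transfer

variable {K L : Type*} [Group K] [Group L]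

theorem card_centralizer_map (e : K ≃* L) (x : K) :
    Nat.card (centralizer ({e x} : Set L)) = Nat.card (centralizer ({x} : Set K)) := by
  refine (Nat.card_congr (e.toEquiv.subtypeEquiv fun c => ?_)).symm
  show c ∈ centralizer _ ↔ e c ∈ centralizer _
  rw [mem_centralizer_singleton_iff, mem_centralizer_singleton_iff, ← map_mul, ← map_mul,
    e.injective.eq_iff]

/-- The facts transfer along isomorphisms. -/
theorem KFacts.of_mulEquiv {q : ℕ} (h : KFacts K q) (e : K ≃* L) : KFacts L q := by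
  have hmem : ∀ (x k : K), e k ∈ centralizer ({e x} : Set L) ↔ k ∈ centralizer ({x} : Set K) := by
    intro x k
    rw [mem_centralizer_singleton_iff, mem_centralizer_singleton_iff, ← map_mul, ← map_mul,
      e.injective.eq_iff]
  constructor
  · rw [← Nat.card_congr e.toEquiv]; exact h.card_eq
  · rw [← Nat.card_congr (e.toEquiv.subtypeEquiv (p := fun k : K => k * k = 1 ∧ k ≠ 1) fun k => by
      show _ ↔ e k * e k = 1 ∧ e k ≠ 1
      rw [← map_mul, ne_eq, ne_eq, MulEquiv.map_eq_one_iff, MulEquiv.map_eq_one_iff])]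
    exact h.card_inv
  · obtain ⟨a, b, w, h1, h2, h3, h4, h5, h6, h7, h8, h9⟩ := h.klein
    refine ⟨e a, e b, e w, ?_, ?_, ?_, ?_, ?_, ?_, ?_, ?_, ?_⟩
    · rw [← map_mul, h1, map_one]
    · simpa using h2
    · rw [← map_mul, h3, map_one]
    · simpa using h4
    · exact fun he => h5 (e.injective he)
    · rw [← map_mul, h6, map_mul]
    · rw [← map_pow, h7, map_one]
    · rw [← map_inv, ← map_mul, ← map_mul, h8]
    · rw [← map_inv, ← map_mul, ← map_mul, h9, map_mul]
  · intro x hx hx1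
    obtain ⟨x, rfl⟩ := e.surjective x
    obtain ⟨U, h1, h2, h3, h4, h5, h6, h7⟩ := h.torus x
      (e.injective (by rw [map_mul, map_one]; exact hx)) fun he => hx1 (by rw [he, map_one])
    refine ⟨U.map e.toMonoidHom, ⟨x, h1, rfl⟩, ?_, ?_, ?_, ?_, ?_, ?_⟩
    · haveI := h2
      exact isCyclic_of_surjective (e.toMonoidHom.subgroupMap U)
        (e.toMonoidHom.subgroupMap_surjective U)
    · rw [Subgroup.card_map_of_injective e.injective]; exact h3
    · rintro _ ⟨k, hk, rfl⟩
      exact (hmem x k).2 (h4 hk)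
    · rw [card_centralizer_map]; exact h5
    · intro c hc hcU
      obtain ⟨c, rfl⟩ := e.surjective c
      obtain ⟨k1, k2⟩ := h6 c ((hmem x c).1 hc) fun hm => hcU ⟨c, hm, rfl⟩
      refine ⟨by rw [← map_mul, k1, map_one], ?_⟩
      rintro _ ⟨y, hy, rfl⟩
      show e c * e y * (e c)⁻¹ = (e y)⁻¹
      rw [← map_inv, ← map_mul, ← map_mul, k2 y hy, map_inv]
    · rintro _ ⟨y, hy, rfl⟩ hy1 k hk
      obtain ⟨k, rfl⟩ := e.surjective k
      obtain ⟨z, hz, hz'⟩ := hk
      refine (hmem x k).2 (h7 y hy (fun he => hy1 (by rw [he, map_one])) k ?_)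
      have : k * y * k⁻¹ = z := e.injective (by
        rw [map_mul, map_mul, map_inv]; exact hz'.symm)
      rw [this]; exact hz
  · rw [← Nat.card_congr (e.toEquiv.subtypeEquiv (p := fun k : K => orderOf k = 3) fun k => by
      show _ ↔ orderOf (e k) = 3
      rw [e.orderOf_eq])]
    exact h.card3
  · intro k hk
    obtain ⟨k, rfl⟩ := e.surjective k
    rw [e.orderOf_eq] at hk
    refine ⟨by rw [card_centralizer_map]; exact (h.cent3 k hk).1, fun a ha b hb => ?_⟩
    obtain ⟨a, rfl⟩ := e.surjective a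
    obtain ⟨b, rfl⟩ := e.surjective b
    rw [← map_mul, (h.cent3 k hk).2 a ((hmem k a).1 ha) b ((hmem k b).1 hb), map_mul]
  · intro k hk i hi hik
    obtain ⟨k, rfl⟩ := e.surjective k
    obtain ⟨i, rfl⟩ := e.surjective i
    rw [e.orderOf_eq] at hk
    exact h.no_inv k hk i (e.injective (by rw [map_mul, map_one]; exact hi))
      (e.injective (by rw [map_mul, map_mul, map_inv]; exact hik))
  · obtain ⟨g0, h1, h2, h3, h4⟩ := h.gen
    refine ⟨fun l => g0 (e.symm l), CfsgLib.Char.IsGeneralized.comp h1 e.symm.toMonoidHom,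
      by simpa using h2, fun l hl => h3 _ (by rw [e.symm.orderOf_eq]; exact hl), fun l hl hl3 =>
        h4 _ (by simpa using hl) (by rw [e.symm.orderOf_eq]; exact hl3)⟩

end Transfer

variable {F : Type*} [Field F] [Fintype F]

theorem four_dvd_succ (hm : Fintype.card F % 4 = 3) : 4 ∣ Fintype.card F + 1 := by omega

theorem mem_map_proj {T : Subgroup (SL F)} (hT : center (SL F) ≤ T) {g : SL F}
    (h : proj g ∈ T.map (proj (F := F))) : g ∈ T := by
  obtain ⟨s, hs, he⟩ := h
  have : s⁻¹ * g ∈ center (SL F) := by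
    rw [← CfsgLib.Linear.FourGroups.proj_eq_one, map_mul, map_inv, he, inv_mul_cancel]
  have := mul_mem hs (hT this)
  rwa [mul_inv_cancel_left] at this

theorem card_map_proj (hodd : Odd (Fintype.card F)) {T : Subgroup (SL F)}
    (hle : center (SL F) ≤ T) : Nat.card T = 2 * Nat.card (T.map (proj (F := F))) := by
  have hker : (proj (F := F)).ker = center (SL F) := QuotientGroup.ker_mk' _
  have e := Subgroup.card_eq_card_quotient_mul_card_subgroup ((proj (F := F)).comp T.subtype).ker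
  rw [Nat.card_congr (QuotientGroup.quotientKerEquivRange _).toEquiv, MonoidHom.range_comp,
    Subgroup.range_subtype, ← MonoidHom.comap_ker, hker] at e
  rw [e, mul_comm]
  congr 1
  rw [show (center (SL F)).comap T.subtype = (center (SL F)).subgroupOf T from rfl,
    Nat.card_congr (Subgroup.subgroupOfEquivOfLe hle).toEquiv, CfsgLib.Linear.card_center_SL,
    Fintype.card_fin, Nat.card_eq_fintype_card (α := F)]
  exact Nat.gcd_eq_left (by obtain ⟨k, hk⟩ := hodd; omega)

theorem torus_std (hm : Fintype.card F % 4 = 3) :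
    ∃ (x : P2 F) (U : Subgroup (P2 F)), x * x = 1 ∧ x ≠ 1 ∧ x ∈ U ∧ IsCyclic U ∧
      2 * Nat.card U = Fintype.card F + 1 ∧ U ≤ centralizer {x} ∧
      Nat.card (centralizer ({x} : Set (P2 F))) = Fintype.card F + 1 ∧
      (∀ c ∈ centralizer ({x} : Set (P2 F)), c ∉ U → c * c = 1 ∧ ∀ y ∈ U, c * y * c⁻¹ = y⁻¹) ∧
      ∀ y ∈ U, y ≠ 1 → ∀ k, k * y * k⁻¹ ∈ U → k ∈ centralizer ({x} : Set (P2 F)) := by
  have hodd : Odd (Fintype.card F) := ⟨Fintype.card F / 2, by omega⟩
  obtain ⟨T, s, hT, hs, hts, hcard⟩ := CfsgLib.Linear.FourGroups.exists_torus (F := F) hodd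
  rw [if_neg (by omega)] at hcard
  obtain ⟨hx, hx1⟩ := (CfsgLib.Linear.FourGroups.proj_involution_iff hodd s).2 hts
  set x := proj s with hxdef
  have hN : ∀ g ∈ normalizer (T : Set (SL F)), proj g ∈ centralizer ({x} : Set (P2 F)) := by
    intro g hg
    rw [mem_centralizer_singleton_iff, hxdef, ← map_mul, ← map_mul]
    rcases hT.normalizer_dichotomy hg with h | h
    · rw [hT.comm h hs]
    · rw [mul_inv_eq_iff_eq_mul.1 (h s hs), map_mul, map_mul]
      congr 1
      rw [map_inv]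
      exact inv_eq_of_mul_eq_one_right hx
  have hF5 : ∀ y ∈ T.map (proj (F := F)), y ≠ 1 → ∀ g : SL F,
      proj g * y * (proj g)⁻¹ ∈ T.map (proj (F := F)) → g ∈ normalizer (T : Set (SL F)) := by
    rintro _ ⟨r, hr, rfl⟩ hr1 g hg
    rw [← map_inv, ← map_mul, ← map_mul] at hg
    exact hT.mem_normalizer_of_mem hr
      (fun h => hr1 (CfsgLib.Linear.FourGroups.proj_eq_one.2 h)) (mem_map_proj hT.center_le hg)
  have hxU : x ∈ T.map (proj (F := F)) := ⟨s, hs, rfl⟩
  have hC : centralizer ({x} : Set (P2 F)) =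
      (normalizer (T : Set (SL F))).map (proj (F := F)) := by
    refine le_antisymm (fun c hc => ?_) ?_
    · obtain ⟨g, rfl⟩ := CfsgLib.Linear.FourGroups.proj_surj c
      refine ⟨g, hF5 x hxU hx1 g ?_, rfl⟩
      rw [mem_centralizer_singleton_iff] at hc
      rw [hc, mul_inv_cancel_right]
      exact hxU
    · rintro _ ⟨g, hg, rfl⟩
      exact hN g hg
  refine ⟨x, T.map (proj (F := F)), hx, hx1, hxU, ?_, ?_, ?_, ?_, ?_, ?_⟩
  · haveI := hT.cyc
    exact isCyclic_of_surjective ((proj (F := F)).subgroupMap T) (proj.subgroupMap_surjective T)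
  · rw [← card_map_proj hodd hT.center_le, hcard]
  · rw [hC]; exact map_mono le_normalizer
  · have h := card_map_proj hodd (T := normalizer (T : Set (SL F)))
      (hT.center_le.trans le_normalizer)
    rw [hT.card_normalizer hodd, hcard] at h
    rw [hC]; omega
  · intro c hc hcU
    rw [hC] at hc
    obtain ⟨g, hg, rfl⟩ := hc
    have hgT : g ∉ T := fun h => hcU ⟨g, h, rfl⟩
    refine ⟨?_, ?_⟩
    · rw [← map_mul, hT.sq_eq_negOne hodd hg hgT]
      exact CfsgLib.Linear.FourGroups.proj_eq_one.2 negOne_mem_center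
    · rintro _ ⟨r, hr, rfl⟩
      rw [← map_inv, ← map_inv, ← map_mul, ← map_mul,
        (hT.normalizer_dichotomy hg).resolve_left hgT r hr]
  · intro y hy hy1 k hk
    obtain ⟨g, rfl⟩ := CfsgLib.Linear.FourGroups.proj_surj k
    exact hN g (hF5 y hy hy1 g hk)

theorem torus_all (hm : Fintype.card F % 4 = 3) (x : P2 F) (hx : x * x = 1) (hx1 : x ≠ 1) :
    ∃ U : Subgroup (P2 F), x ∈ U ∧ IsCyclic U ∧
      2 * Nat.card U = Fintype.card F + 1 ∧ U ≤ centralizer {x} ∧
      Nat.card (centralizer ({x} : Set (P2 F))) = Fintype.card F + 1 ∧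
      (∀ c ∈ centralizer ({x} : Set (P2 F)), c ∉ U → c * c = 1 ∧ ∀ y ∈ U, c * y * c⁻¹ = y⁻¹) ∧
      ∀ y ∈ U, y ≠ 1 → ∀ k, k * y * k⁻¹ ∈ U → k ∈ centralizer ({x} : Set (P2 F)) := by
  have hodd : Odd (Fintype.card F) := ⟨Fintype.card F / 2, by omega⟩
  obtain ⟨x0, U, h0, h01, h1, h2, h3, h4, h5, h6, h7⟩ := torus_std hm
  obtain ⟨g, rfl⟩ := isConj_iff.1
    (CfsgLib.Linear.FourGroups.involutions_conj hodd h0 h01 hx hx1)
  have hmem : ∀ k, MulAut.conj g k ∈ centralizer ({g * x0 * g⁻¹} : Set (P2 F)) ↔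
      k ∈ centralizer ({x0} : Set (P2 F)) := by
    intro k
    rw [mem_centralizer_singleton_iff, mem_centralizer_singleton_iff,
      show g * x0 * g⁻¹ = MulAut.conj g x0 from rfl, ← map_mul, ← map_mul,
      (MulAut.conj g).injective.eq_iff]
  refine ⟨U.map (MulAut.conj g).toMonoidHom, ⟨x0, h1, rfl⟩, ?_, ?_, ?_, ?_, ?_, ?_⟩
  · haveI := h2
    exact isCyclic_of_surjective ((MulAut.conj g).toMonoidHom.subgroupMap U)
      ((MulAut.conj g).toMonoidHom.subgroupMap_surjective U)
  · rw [Subgroup.card_map_of_injective (MulAut.conj g).injective]; exact h3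
  · rintro _ ⟨k, hk, rfl⟩
    exact (hmem k).2 (h4 hk)
  · rw [show g * x0 * g⁻¹ = MulAut.conj g x0 from rfl, card_centralizer_map]; exact h5
  · intro c hc hcU
    obtain ⟨c, rfl⟩ := (MulAut.conj g).surjective c
    obtain ⟨k1, k2⟩ := h6 c ((hmem c).1 hc) fun hm => hcU ⟨c, hm, rfl⟩
    refine ⟨by rw [← map_mul, k1, map_one], ?_⟩
    rintro _ ⟨y, hy, rfl⟩
    show MulAut.conj g c * MulAut.conj g y * (MulAut.conj g c)⁻¹ = (MulAut.conj g y)⁻¹
    rw [← map_inv, ← map_mul, ← map_mul, k2 y hy, map_inv]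
  · rintro _ ⟨y, hy, rfl⟩ hy1 k hk
    obtain ⟨k, rfl⟩ := (MulAut.conj g).surjective k
    obtain ⟨z, hz, hz'⟩ := hk
    refine (hmem k).2 (h7 y hy (fun he => hy1 (by rw [he, map_one])) k ?_)
    have : k * y * k⁻¹ = z := (MulAut.conj g).injective (by
      rw [map_mul, map_mul, map_inv]; exact hz'.symm)
    rw [this]; exact hz

section Char3

variable [CharP F 3]

theorem three_eq_zero : (3 : F) = 0 := by
  have := CharP.cast_eq_zero F 3
  exact_mod_cast this

theorem two_ne : (2 : F) ≠ 0 := fun h => one_ne_zero (α := F) (by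
  linear_combination three_eq_zero (F := F) - h)

theorem trace_of_orderOf {g : SL F} (hg : orderOf g = 3) : (mt g).trace = 2 := by
  haveI : Fact (Nat.Prime 3) := ⟨Nat.prime_three⟩
  obtain ⟨b, -, h⟩ := exists_isConj_of_orderOf 3 hg
  rw [← trace_eq_of_isConj h, trace_mt_bor]
  simp; norm_num

theorem cube_of_trace {g : SL F} (ht : (mt g).trace = 2) : g ^ 3 = 1 := by
  apply mt_injective
  have h := CfsgLib.Linear.SmallSub.mul_self_eq g
  rw [show (g : Matrix (Fin 2) (Fin 2) F).trace = 2 from ht] at h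
  show ((g ^ 3 : SL F) : Matrix (Fin 2) (Fin 2) F) = 1
  rw [Matrix.SpecialLinearGroup.coe_pow, pow_succ, pow_two, h, sub_mul, one_mul, smul_mul_assoc, h]
  ext i j
  simp only [Matrix.sub_apply, Matrix.smul_apply, smul_eq_mul]
  linear_combination ((g : Matrix (Fin 2) (Fin 2) F) i j - (1 : Matrix (Fin 2) (Fin 2) F) i j) *
    three_eq_zero (F := F)

theorem orderOf_three_iff {g : SL F} : orderOf g = 3 ↔ (mt g).trace = 2 ∧ g ≠ 1 := by
  haveI : Fact (Nat.Prime 3) := ⟨Nat.prime_three⟩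
  exact ⟨fun h => ⟨trace_of_orderOf h, fun e => by rw [e, orderOf_one] at h; norm_num at h⟩,
    fun h => orderOf_eq_prime (cube_of_trace h.1) h.2⟩

theorem card_order_three_SL :
    Nat.card {g : SL F // orderOf g = 3} + 1 = Fintype.card F ^ 2 := by
  have hsum : Nat.card {g : SL F // orderOf g = 3} + 1 =
      Nat.card {g : SL F // (mt g).trace = 2} := by
    rw [← Finite.card_option]
    refine Nat.card_congr
      { toFun := fun o => o.elim ⟨1, by rw [mt_one, trace_one, Fintype.card_fin]; norm_num⟩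
          fun g => ⟨g.1, (orderOf_three_iff.1 g.2).1⟩
        invFun := fun g => if h : g.1 = 1 then none else some ⟨g.1, orderOf_three_iff.2 ⟨g.2, h⟩⟩
        left_inv := fun o => by
          rcases o with _ | ⟨g, hg⟩
          · simp
          · exact dif_neg (orderOf_three_iff.1 hg).2
        right_inv := fun g => by
          obtain ⟨g, hg⟩ := g
          by_cases h : g = 1 <;> simp [h] }
  rw [hsum, pow_two]
  have key : Nat.card {g : SL F // (mt g).trace = 2} =
      Nat.card {p : F × F × F // p.1 * p.1 + p.2.1 * p.2.2 = 0} := by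
    refine Nat.card_congr
      { toFun := fun g => ⟨(mt g.1 0 0 - 1, mt g.1 0 1, mt g.1 1 0), ?_⟩
        invFun := fun p => ⟨⟨!![1 + p.1.1, p.1.2.1; p.1.2.2, 1 - p.1.1], ?_⟩, ?_⟩
        left_inv := fun g => ?_
        right_inv := fun p => ?_ }
    · have hd := det_mt g.1
      have ht := g.2
      rw [Matrix.det_fin_two] at hd
      rw [Matrix.trace_fin_two] at ht
      linear_combination (mt g.1 0 0) * ht - hd
    · rw [Matrix.det_fin_two_of]; linear_combination -p.2
    · rw [mt_mk, Matrix.trace_fin_two]; simp; ring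
    · apply Subtype.ext; apply mt_injective
      have ht := g.2
      rw [Matrix.trace_fin_two] at ht
      rw [mt_mk]
      ext i j
      fin_cases i <;> fin_cases j <;> simp
      linear_combination -ht
    · ext <;> simp
  rw [key, ← Nat.card_eq_fintype_card (α := F), ← Nat.card_prod]
  refine Nat.card_congr
    { toFun := fun p => if p.1.2.1 = 0 then (p.1.2.1, p.1.2.2) else (p.1.2.1, p.1.1)
      invFun := fun r => if h : r.1 = 0 then ⟨(0, r.1, r.2), ?_⟩
        else ⟨(r.2, r.1, -(r.2 * r.2) / r.1), ?_⟩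
      left_inv := fun p => ?_
      right_inv := fun r => ?_ }
  · simp [h]
  · field_simp; ring
  · obtain ⟨⟨a, b, c⟩, hp⟩ := p
    by_cases hb : b = 0
    · subst hb
      have ha : a = 0 := by simpa using hp
      simp [ha]
    · simp only [hb, if_false, dif_neg, not_false_eq_true]
      apply Subtype.ext
      refine Prod.ext rfl (Prod.ext rfl ?_)
      show -(a * a) / b = c
      simp only at hp
      rw [div_eq_iff hb]; linear_combination -hp
  · by_cases h : r.1 = 0 <;> simp [h]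
    exact Prod.ext h.symm rfl

theorem exists_lift {k : P2 F} (hk : orderOf k = 3) :
    ∃ g : SL F, orderOf g = 3 ∧ proj g = k := by
  haveI : Fact (Nat.Prime 3) := ⟨Nat.prime_three⟩
  obtain ⟨g, rfl⟩ := CfsgLib.Linear.FourGroups.proj_surj k
  have h3 : g ^ 3 ∈ center (SL F) := by
    rw [← CfsgLib.Linear.FourGroups.proj_eq_one, map_pow, ← hk, pow_orderOf_eq_one]
  have hne : proj g ≠ 1 := fun e => by rw [e, orderOf_one] at hk; norm_num at hk
  rcases center_cases h3 with e | e
  · exact ⟨g, orderOf_eq_prime e fun h => hne (by rw [h, map_one]), rfl⟩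
  · refine ⟨negOne F * g, orderOf_eq_prime ?_ fun h => hne ?_, ?_⟩
    · rw [(show Commute (negOne F) g from (mem_center_iff.1 negOne_mem_center g).symm).mul_pow, e,
        pow_succ, pow_two, mul_self_eq_one_of_center negOne_mem_center, one_mul,
        mul_self_eq_one_of_center negOne_mem_center]
    · have := congrArg proj h
      rwa [map_mul, CfsgLib.Linear.FourGroups.proj_eq_one.2 negOne_mem_center, one_mul,
        map_one] at this
    · rw [map_mul, CfsgLib.Linear.FourGroups.proj_eq_one.2 negOne_mem_center, one_mul]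

theorem orderOf_proj {g : SL F} (hg : orderOf g = 3) : orderOf (proj g) = 3 := by
  haveI : Fact (Nat.Prime 3) := ⟨Nat.prime_three⟩
  refine orderOf_eq_prime (by rw [← map_pow, ← hg, pow_orderOf_eq_one, map_one]) fun h => ?_
  have := orderOf_dvd_of_pow_eq_one (n := 2) (show g ^ 2 = 1 by
    rw [pow_two]; exact mul_self_eq_one_of_center (CfsgLib.Linear.FourGroups.proj_eq_one.1 h))
  rw [hg] at this
  norm_num at this

theorem trace_negOne_mul (g : SL F) : (mt (negOne F * g)).trace = -(mt g).trace := by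
  rw [mt_mul, mt_negOne, neg_one_mul, Matrix.trace_neg]

theorem proj_eq_of_orderOf {g h : SL F} (hg : orderOf g = 3) (hh : orderOf h = 3)
    (he : proj g = proj h) : g = h := by
  have hc : g * h⁻¹ ∈ center (SL F) := by
    rw [← CfsgLib.Linear.FourGroups.proj_eq_one, map_mul, map_inv, he, mul_inv_cancel]
  rcases center_cases hc with e | e
  · exact mul_inv_eq_one.1 e
  · exfalso
    have h1 := trace_negOne_mul h
    rw [← mul_inv_eq_iff_eq_mul.1 e, trace_of_orderOf hg, trace_of_orderOf hh] at h1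
    exact two_ne (F := F) (by linear_combination three_eq_zero (F := F) * 2 - h1)

theorem card_order_three : Nat.card {k : P2 F // orderOf k = 3} + 1 = Fintype.card F ^ 2 := by
  rw [← card_order_three_SL (F := F)]
  congr 1
  exact (Nat.card_eq_of_bijective
    (fun g : {g : SL F // orderOf g = 3} =>
      (⟨proj g.1, orderOf_proj g.2⟩ : {k : P2 F // orderOf k = 3}))
    ⟨fun g h e => Subtype.ext (proj_eq_of_orderOf g.2 h.2 (congrArg Subtype.val e)),
      fun k => let ⟨g, hg, hk⟩ := exists_lift k.2; ⟨⟨g, hg⟩, Subtype.ext hk⟩⟩).symm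

theorem centralizer_three (hodd : Odd (Fintype.card F)) {k : P2 F} (hk : orderOf k = 3) :
    Nat.card (centralizer ({k} : Set (P2 F))) = Fintype.card F ∧
      ∀ a ∈ centralizer ({k} : Set (P2 F)), ∀ b ∈ centralizer ({k} : Set (P2 F)),
        a * b = b * a := by
  haveI : Fact (Nat.Prime 3) := ⟨Nat.prime_three⟩
  obtain ⟨g, hg, rfl⟩ := exists_lift hk
  have ht : (mt g).trace ≠ 0 := by rw [trace_of_orderOf hg]; exact two_ne
  have hC : centralizer ({proj g} : Set (P2 F)) =
      (centralizer ({g} : Set (SL F))).map (proj (F := F)) := by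
    refine le_antisymm (fun c hc => ?_) ?_
    · obtain ⟨x, rfl⟩ := CfsgLib.Linear.FourGroups.proj_surj c
      exact ⟨x, mem_centralizer_singleton_iff.2 (CfsgLib.PSL2Classes.commute_of_proj
        (Or.inr ht) (mem_centralizer_singleton_iff.1 hc)), rfl⟩
    · rintro _ ⟨x, hx, rfl⟩
      rw [mem_centralizer_singleton_iff, ← map_mul, mem_centralizer_singleton_iff.1 hx, map_mul]
  obtain ⟨b, hb, hconj⟩ := exists_isConj_of_orderOf 3 hg
  obtain ⟨y, hy⟩ := isConj_iff.1 hconj
  have hcard : Nat.card (centralizer ({g} : Set (SL F))) = 2 * Fintype.card F := by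
    rw [← hy, show y * bor 1 b * y⁻¹ = MulAut.conj y (bor 1 b) from rfl, card_centralizer_map,
      natCard_centralizer_bor (mul_one 1) hb, card_sgn_odd hodd]
  have hab : ∀ x ∈ centralizer ({g} : Set (SL F)), ∀ x' ∈ centralizer ({g} : Set (SL F)),
      x * x' = x' * x := by
    intro x hx x' hx'
    refine commute_of_commute (g := g) (fun hc => ?_)
      (mem_centralizer_singleton_iff.1 hx).symm (mem_centralizer_singleton_iff.1 hx').symm
    have := orderOf_dvd_of_pow_eq_one (n := 2) (show g ^ 2 = 1 by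
      rw [pow_two]; exact mul_self_eq_one_of_center hc)
    rw [hg] at this
    norm_num at this
  refine ⟨?_, ?_⟩
  · have h := card_map_proj hodd (T := centralizer ({g} : Set (SL F)))
      (center_le_centralizer _)
    rw [hC]; omega
  · rw [hC]
    rintro _ ⟨x, hx, rfl⟩ _ ⟨x', hx', rfl⟩
    rw [← map_mul, hab x hx x' hx', map_mul]

theorem no_inverted (hm : Fintype.card F % 4 = 3) {k : P2 F} (hk : orderOf k = 3) {i : P2 F}
    (hi : i * i = 1) : i * k * i ≠ k⁻¹ := by
  haveI : Fact (Nat.Prime 3) := ⟨Nat.prime_three⟩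
  intro hik
  obtain ⟨g, hg, rfl⟩ := exists_lift hk
  obtain ⟨x, rfl⟩ := CfsgLib.Linear.FourGroups.proj_surj i
  obtain ⟨b, hb, hconj⟩ := exists_isConj_of_orderOf 3 hg
  have hxg : x * g * x⁻¹ = g⁻¹ := by
    refine proj_eq_of_orderOf ?_ (by rw [orderOf_inv]; exact hg) ?_
    · rw [show x * g * x⁻¹ = MulAut.conj x g from rfl, MulEquiv.orderOf_eq]; exact hg
    · rw [map_mul, map_mul, map_inv, map_inv, inv_eq_of_mul_eq_one_right hi]; exact hik
  obtain ⟨y, hy⟩ := isConj_iff.1 hconj
  have hbi : (bor (1 : Fˣ) b)⁻¹ = bor 1 (-b) := by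
    refine inv_eq_of_mul_eq_one_right ?_
    rw [bor_mul, one_mul, inv_one, Units.val_one, one_mul, mul_one, neg_add_cancel, bor_one_zero]
  have hc : IsConj (bor (1 : Fˣ) b) (bor 1 (-b)) := by
    rw [← hbi]
    refine isConj_iff.2 ⟨y⁻¹ * x * y, ?_⟩
    calc y⁻¹ * x * y * bor 1 b * (y⁻¹ * x * y)⁻¹ = y⁻¹ * (x * (y * bor 1 b * y⁻¹) * x⁻¹) * y := by
          group
      _ = (bor 1 b)⁻¹ := by rw [hy, hxg, ← hy]; group
  obtain ⟨w, hw⟩ := (isConj_bor_iff (mul_one 1) hb (neg_ne_zero.2 hb)).1 hc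
  have hsq : IsSquare (-1 : F) := by
    refine ⟨w / b, ?_⟩
    field_simp
    linear_combination hw
  exact FiniteField.isSquare_neg_one_iff.1 hsq hm

theorem klein_P2 (hm : Fintype.card F % 4 = 3) :
    ∃ a b w : P2 F, a * a = 1 ∧ a ≠ 1 ∧ b * b = 1 ∧ b ≠ 1 ∧ a ≠ b ∧ a * b = b * a ∧
      w ^ 3 = 1 ∧ w * a * w⁻¹ = b ∧ w * b * w⁻¹ = a * b := by
  haveI : Fact (Nat.Prime 3) := ⟨Nat.prime_three⟩
  have hodd : Odd (Fintype.card F) := ⟨Fintype.card F / 2, by omega⟩
  have h3 := three_eq_zero (F := F)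
  -- the quaternion units `i`, `j`, `ij` over the prime field
  let I : SL F := ⟨!![0, 1; -1, 0], by rw [Matrix.det_fin_two_of]; ring⟩
  let J : SL F := ⟨!![1, 1; 1, -1], by rw [Matrix.det_fin_two_of]; linear_combination -h3⟩
  let W : SL F := ⟨!![1, 0; 1, 1], by rw [Matrix.det_fin_two_of]; ring⟩
  have hI := (CfsgLib.Linear.FourGroups.proj_involution_iff hodd I).2 (by
    simp [I, Matrix.trace_fin_two])
  have hJ := (CfsgLib.Linear.FourGroups.proj_involution_iff hodd J).2 (by
    simp [J, Matrix.trace_fin_two])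
  have hIJ := (CfsgLib.Linear.FourGroups.proj_involution_iff hodd (I * J)).2 (by
    rw [mt_mul]
    show (!![0, 1; -1, 0] * !![1, 1; 1, -1] : Matrix (Fin 2) (Fin 2) F).trace = 0
    simp [Matrix.trace_fin_two, Matrix.mul_apply, Fin.sum_univ_two])
  have e1 : W * I = negOne F * (I * J * W) := by
    apply mt_injective
    rw [mt_mul, mt_mul, mt_mul, mt_mul, mt_negOne]
    show (!![1, 0; 1, 1] * !![0, 1; -1, 0] : Matrix (Fin 2) (Fin 2) F) =
      -1 * (!![0, 1; -1, 0] * !![1, 1; 1, -1] * !![1, 0; 1, 1])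
    ext i j
    fin_cases i <;> fin_cases j <;> simp [Matrix.mul_apply, Fin.sum_univ_two] <;>
      first | ring1 | linear_combination h3 | linear_combination -h3
  have e2 : W * (I * J) = negOne F * (J * W) := by
    apply mt_injective
    rw [mt_mul, mt_mul, mt_mul, mt_mul, mt_negOne]
    show (!![1, 0; 1, 1] * (!![0, 1; -1, 0] * !![1, 1; 1, -1]) : Matrix (Fin 2) (Fin 2) F) =
      -1 * (!![1, 1; 1, -1] * !![1, 0; 1, 1])
    ext i j
    fin_cases i <;> fin_cases j <;> simp [Matrix.mul_apply, Fin.sum_univ_two] <;>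
      first | ring1 | linear_combination h3 | linear_combination -h3
  have hn : proj (negOne F) = (1 : P2 F) :=
    CfsgLib.Linear.FourGroups.proj_eq_one.2 negOne_mem_center
  rw [map_mul] at hIJ
  refine ⟨proj I, proj I * proj J, proj W, hI.1, hI.2, hIJ.1, hIJ.2, ?_, ?_, ?_, ?_, ?_⟩
  · intro e
    exact hJ.2 (left_eq_mul.1 e)
  · have hc : proj I * proj J = proj J * proj I := by
      rw [← inv_eq_of_mul_eq_one_right hIJ.1, _root_.mul_inv_rev, inv_eq_of_mul_eq_one_right hI.1,
        inv_eq_of_mul_eq_one_right hJ.1]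
    calc proj I * (proj I * proj J) = proj J := by rw [← mul_assoc, hI.1, one_mul]
      _ = proj I * proj J * proj I := by rw [hc, mul_assoc, hI.1, mul_one]
  · rw [← map_pow, cube_of_trace (g := W) (by simp [W, Matrix.trace_fin_two]; norm_num), map_one]
  · rw [← map_mul, e1, map_mul, hn, one_mul, map_mul, map_mul, mul_inv_cancel_right]
  · rw [← map_mul (proj (F := F)) I J, ← map_mul, e2, map_mul, hn, one_mul, map_mul, mul_inv_cancel_right, map_mul,
      ← mul_assoc, hI.1, one_mul]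

theorem card_inv_P2 (hm : Fintype.card F % 4 = 3) :
    2 * Nat.card {k : P2 F // k * k = 1 ∧ k ≠ 1} + Fintype.card F = Fintype.card F ^ 2 := by
  have hodd : Odd (Fintype.card F) := ⟨Fintype.card F / 2, by omega⟩
  obtain ⟨x, U, hx, hx1, -⟩ := torus_std hm
  have e : Nat.card {k : P2 F // k * k = 1 ∧ k ≠ 1} =
      (centralizer ({x} : Set (P2 F))).index := by
    rw [← CfsgLib.Char.card_conj_class]
    refine Nat.card_congr (Equiv.subtypeEquivRight fun k => ⟨fun h =>
      CfsgLib.Linear.FourGroups.involutions_conj hodd hx hx1 h.1 h.2, fun h => ?_⟩)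
    obtain ⟨g, rfl⟩ := isConj_iff.1 h
    constructor
    · calc g * x * g⁻¹ * (g * x * g⁻¹) = g * (x * x) * g⁻¹ := by group
        _ = 1 := by rw [hx, mul_one, mul_inv_cancel]
    · intro he
      rw [mul_inv_eq_one, mul_eq_left] at he
      exact hx1 he
  rw [e, CfsgLib.PSL2Classes.index_involution hodd hx hx1, if_neg (by omega), Nat.mul_sub,
    mul_one, pow_two, Nat.sub_add_cancel]
  exact Nat.le_mul_self _

theorem fixed_three {k : P2 F} (hk : orderOf k = 3) :
    letI := CfsgLib.Linear.PSLTwo.lineAction (F := F)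
    Nat.card (MulAction.fixedBy (OnePoint F) k) = 1 := by
  letI := CfsgLib.Linear.PSLTwo.lineAction (F := F)
  haveI : Fact (Nat.Prime 3) := ⟨Nat.prime_three⟩
  haveI : Finite (OnePoint F) := inferInstanceAs (Finite (Option F))
  set g := Matrix.ProjectiveSpecialLinearGroup.toPGL k with hg
  have hne : g ≠ 1 := by
    intro e
    have := Matrix.ProjectiveSpecialLinearGroup.toPGL_injective (e.trans (map_one _).symm)
    rw [this, orderOf_one] at hk; norm_num at hk
  have hord : orderOf g = 3 := by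
    rw [hg, orderOf_injective _ Matrix.ProjectiveSpecialLinearGroup.toPGL_injective, hk]
  have hfix : MulAction.fixedBy (OnePoint F) k = CfsgLib.Dickson.fix g := rfl
  have hle : (CfsgLib.Dickson.fix g).ncard ≤ 2 := by
    have := CfsgLib.Dickson.encard_fix_le_two hne
    rw [← (CfsgLib.Dickson.fix_finite hne).cast_ncard_eq] at this
    exact_mod_cast this
  have hmod : Nat.card (OnePoint F) ≡ (CfsgLib.Dickson.fix g).ncard [MOD 3] := by
    have hP : IsPGroup 3 (zpowers k) :=
      IsPGroup.of_card (n := 1) (by rw [Nat.card_zpowers, hk, pow_one])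
    have h := hP.card_modEq_card_fixedPoints (OnePoint F)
    have e : MulAction.fixedPoints (zpowers k) (OnePoint F) = CfsgLib.Dickson.fix g := by
      ext p
      constructor
      · exact fun h => h ⟨k, mem_zpowers k⟩
      · intro hp ⟨c, hc⟩
        obtain ⟨n, rfl⟩ := mem_zpowers_iff.1 hc
        show (k ^ n) • p = p
        exact MulAction.mem_fixedBy.1 (MulAction.fixedBy_subset_fixedBy_zpow (OnePoint F) k n hp)
    rwa [e, Nat.card_coe_set_eq] at h
  have hcard : Nat.card (OnePoint F) = Fintype.card F + 1 := by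
    show Nat.card (Option F) = _
    rw [Finite.card_option, Nat.card_eq_fintype_card]
  rw [hfix, Nat.card_coe_set_eq]
  obtain ⟨d, hd⟩ := card_dvd_char (F := F) 3
  rw [hcard, hd] at hmod
  rcases Nat.lt_or_ge (CfsgLib.Dickson.fix g).ncard 2 with h | h
  · unfold Nat.ModEq at hmod
    omega
  · exfalso
    obtain ⟨a, ha, b, hb, hab⟩ := (Set.one_lt_ncard (CfsgLib.Dickson.fix_finite hne)).1 h
    exact CfsgLib.Dickson.not_dvd_orderOf_of_two 3 hab ha hb (by rw [hord]; norm_num)
      (by rw [hord])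

theorem gen_P2 :
    ∃ g0 : P2 F → ℂ, Cfsg.IsGeneralizedCharacter (P2 F) g0 ∧
      g0 1 = (Fintype.card F : ℂ) ^ 2 - 1 ∧ (∀ k, orderOf k = 3 → g0 k = -1) ∧
      ∀ k, k ≠ 1 → orderOf k ≠ 3 → g0 k = 0 := by
  letI := CfsgLib.Linear.PSLTwo.lineAction (F := F)
  haveI : Fact (Nat.Prime 3) := ⟨Nat.prime_three⟩
  haveI : Finite (OnePoint F) := inferInstanceAs (Finite (Option F))
  haveI : Nonempty (OnePoint F) := ⟨OnePoint.infty⟩
  haveI : MulAction.IsPretransitive (P2 F) (OnePoint F) := ⟨fun x y => by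
    obtain ⟨g, hg⟩ := CfsgLib.Linear.PSLTwo.exists_to x
    obtain ⟨h, hh⟩ := CfsgLib.Linear.PSLTwo.exists_to y
    refine ⟨h * g⁻¹, ?_⟩
    show Matrix.ProjectiveSpecialLinearGroup.toPGL (h * g⁻¹) • x = y
    rw [map_mul, mul_smul, ← hg, map_inv, inv_smul_smul, hh]⟩
  haveI : Fintype (P2 F) := Fintype.ofFinite _
  set π : P2 F → ℂ := fun k => (Nat.card (MulAction.fixedBy (OnePoint F) k) : ℂ) with hπ
  have hπg : Cfsg.IsGeneralizedCharacter (P2 F) π :=
    CfsgLib.Char.IsCharacter.isGeneralized CfsgLib.Char.FourTrans.isCharacter_perm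
  refine ⟨π * π - ((2 : ℤ) : ℂ) • π, CfsgLib.Char.IsGeneralized.sub
    (CfsgLib.Char.IsGeneralized.mul hπg hπg) (CfsgLib.Char.IsGeneralized.intCast_smul hπg 2),
    ?_, fun k hk => ?_, fun k hk1 hk3 => ?_⟩
  · have h1 : π 1 = (Fintype.card F : ℂ) + 1 := by
      have e : MulAction.fixedBy (OnePoint F) (1 : P2 F) = Set.univ :=
        Set.eq_univ_of_forall fun x => one_smul _ x
      simp only [hπ]
      rw [e, Nat.card_coe_set_eq, Set.ncard_univ]
      show (Nat.card (Option F) : ℂ) = _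
      rw [Finite.card_option, Nat.card_eq_fintype_card]
      push_cast; ring
    simp only [Pi.sub_apply, Pi.mul_apply, Pi.smul_apply, smul_eq_mul, h1]
    push_cast; ring
  · simp only [Pi.sub_apply, Pi.mul_apply, Pi.smul_apply, smul_eq_mul, hπ, fixed_three hk]
    norm_num
  · set g := Matrix.ProjectiveSpecialLinearGroup.toPGL k with hg
    have hne : g ≠ 1 := fun e =>
      hk1 (Matrix.ProjectiveSpecialLinearGroup.toPGL_injective (e.trans (map_one _).symm))
    have hv : (CfsgLib.Dickson.fix g).ncard = 0 ∨ (CfsgLib.Dickson.fix g).ncard = 2 := by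
      have h2 := CfsgLib.Dickson.encard_fix_le_two hne
      rw [← (CfsgLib.Dickson.fix_finite hne).cast_ncard_eq] at h2
      have h2' : (CfsgLib.Dickson.fix g).ncard ≤ 2 := by exact_mod_cast h2
      by_contra hc
      obtain ⟨a, ha⟩ := Set.ncard_eq_one.1 (show (CfsgLib.Dickson.fix g).ncard = 1 by omega)
      refine hk3 ?_
      rw [← orderOf_injective _ Matrix.ProjectiveSpecialLinearGroup.toPGL_injective k]
      exact CfsgLib.Dickson.orderOf_of_fix_eq_singleton 3 hne ha
    have hfix : MulAction.fixedBy (OnePoint F) k = CfsgLib.Dickson.fix g := rfl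
    simp only [Pi.sub_apply, Pi.mul_apply, Pi.smul_apply, smul_eq_mul, hπ, hfix,
      Nat.card_coe_set_eq]
    rcases hv with e | e <;> rw [e] <;> norm_num

theorem kfacts_P2 (hm : Fintype.card F % 4 = 3) : KFacts (P2 F) (Fintype.card F) := by
  have hodd : Odd (Fintype.card F) := ⟨Fintype.card F / 2, by omega⟩
  refine ⟨?_, card_inv_P2 hm, klein_P2 hm, torus_all hm, card_order_three,
    fun k hk => centralizer_three hodd hk, fun k hk i hi => no_inverted hm hk hi, gen_P2⟩
  rw [CfsgLib.PSL2Classes.card_P2_mul hodd, Nat.mul_sub, mul_one, ← pow_succ',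
    Nat.sub_add_cancel]
  exact Nat.le_self_pow (by norm_num) _

end Char3

end CfsgLib.GoldFree
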