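import Cfsg.Agent.GoldschmidtFree.Sections
import Cfsg.Agent.GoldschmidtFree.ReeK
import Cfsg.Agent.GoldschmidtFree.ReeFour
import Cfsg.Agent.QdUnitary.SUThree
import Cfsg.Agent.PrimeGraph.PSL2Spectrum
import Cfsg.Prelude.Def_Classical
import Mathlib.FieldTheory.Finite.Basic

/-!
# Sections of `PSL₂(q)` and `PSU₃(2ⁿ)`
-/

set_option autoImplicit false
set_option linter.unusedSectionVars false
set_option linter.style.haveILetI false

namespace CfsgLib.GoldFree

open Subgroup Matrix
open CfsgLib.ZJ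

/-- No inverted element of 3-power order in a group with the facts of `PSL₂(3^odd)`. -/
theorem not_inverts_of_kfacts {K : Type*} [Group K] [Finite K] {q : ℕ} (hk : KFacts K q)
    (hq : Odd q) : ¬ Inverts 3 K := by
  rintro ⟨g, x, hx, ⟨j, hj⟩, hgx⟩
  obtain ⟨r, -, hr⟩ := (Nat.dvd_prime_pow Nat.prime_three).1 (orderOf_dvd_of_pow_eq_one hj)
  rcases r with _ | r
  · exact hx (orderOf_eq_one_iff.1 (by simpa using hr))
  set k := x ^ 3 ^ r with hkdef
  have hk3 : orderOf k = 3 := by
    rw [hkdef, orderOf_pow_of_dvd (by positivity) (by rw [hr, pow_succ]; exact Dvd.intro 3 rfl), hr,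
      pow_succ, Nat.mul_div_cancel_left _ (by positivity)]
  have hgk : g * k * g⁻¹ = k⁻¹ := by rw [hkdef, ← conj_pow, hgx, inv_pow]
  have hg2 : g ^ 2 ∈ centralizer ({k} : Set K) := by
    rw [mem_centralizer_singleton_iff, ← mul_inv_eq_iff_eq_mul]
    calc g ^ 2 * k * (g ^ 2)⁻¹ = g * (g * k * g⁻¹) * g⁻¹ := by rw [pow_two]; group
      _ = g * k⁻¹ * g⁻¹ := by rw [hgk]
      _ = (g * k * g⁻¹)⁻¹ := by group
      _ = k := by rw [hgk, inv_inv]
  have hgq : (g ^ q) * (g ^ q) = 1 := by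
    have h : (⟨g ^ 2, hg2⟩ : centralizer ({k} : Set K)) ^
        Nat.card (centralizer ({k} : Set K)) = 1 := pow_card_eq_one'
    rw [(hk.cent3 k hk3).1] at h
    have h' : (g ^ 2) ^ q = 1 := (SubmonoidClass.coe_pow _ _).symm.trans (congrArg Subtype.val h)
    rw [← pow_mul] at h'
    rw [← pow_add, ← two_mul]; exact h'
  refine hk.no_inv k hk3 (g ^ q) hgq ?_
  obtain ⟨b, rfl⟩ := hq
  have he : g ^ (2 * b) * k = k * g ^ (2 * b) := by
    rw [pow_mul]
    exact mem_centralizer_singleton_iff.1 (pow_mem hg2 b)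
  have e1 : g ^ (2 * b + 1) * k * (g ^ (2 * b + 1))⁻¹ = k⁻¹ := by
    calc g ^ (2 * b + 1) * k * (g ^ (2 * b + 1))⁻¹
        = g * (g ^ (2 * b) * k * (g ^ (2 * b))⁻¹) * g⁻¹ := by rw [pow_succ']; group
      _ = k⁻¹ := by rw [he, mul_inv_cancel_right, hgk]
  rwa [inv_eq_of_mul_eq_one_right hgq] at e1

section LTwo

variable {F : Type*} [Field F] [Fintype F]

/-- `PSL₂(q)` has no element of order four if `q ≡ 3, 5 (mod 8)` or `q` is even. -/
theorem psl_two_orders (hq : Even (Fintype.card F) ∨ Fintype.card F % 8 = 3 ∨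
    Fintype.card F % 8 = 5) (g : Matrix.ProjectiveSpecialLinearGroup (Fin 2) F) : orderOf g ≠ 4 := by
  obtain ⟨p, hp⟩ := CharP.exists F
  obtain ⟨r, hpp, hpr⟩ := FiniteField.card F p
  haveI := Fact.mk hpp
  have h1 := Fintype.one_lt_card (α := F)
  intro hg
  rcases CfsgLib.PSL2Spec.orderOf_dvd p g with h | h | h <;> rw [hg] at h
  · rcases (Nat.dvd_prime hpp).1 h with h' | h'
    · norm_num at h'
    · exact absurd (h' ▸ hpp) (by norm_num)
  all_goals
    rcases hq with ⟨b, hb⟩ | hq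
    · have hgcd : Nat.gcd 2 (Fintype.card F - 1) = 1 :=
        (Nat.Prime.coprime_iff_not_dvd Nat.prime_two).2 (by omega)
      rw [hgcd, Nat.div_one] at h
      omega
    · have hgcd : Nat.gcd 2 (Fintype.card F - 1) = 2 :=
        Nat.gcd_eq_left (Nat.dvd_of_mod_eq_zero (by omega))
      rw [hgcd] at h
      omega

/-- If the characteristic is not three, `PSL₂(q)` has an inverted element of order three. -/
theorem psl_two_inverts (h3 : (3 : F) ≠ 0) :
    Inverts 3 (Matrix.ProjectiveSpecialLinearGroup (Fin 2) F) := by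
  classical
  obtain ⟨a, c, hac⟩ : ∃ a c : F, a * a + a * c + c * c = -1 := by
    by_cases h2 : (2 : F) = 0
    · exact ⟨1, 0, by linear_combination h2⟩
    · have h4 : (4 : F) ≠ 0 := by
        rw [show (4 : F) = 2 * 2 by norm_num]; exact mul_ne_zero h2 h2
      obtain ⟨x, y, hxy⟩ := FiniteField.exists_root_sum_quadratic
        (f := Polynomial.X ^ 2)
        (g := Polynomial.C (3 / 4 : F) * Polynomial.X ^ 2 + Polynomial.C 1)
        (Polynomial.degree_X_pow 2)
        (by
          rw [Polynomial.degree_add_C (by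
              rw [Polynomial.degree_C_mul_X_pow 2 (div_ne_zero h3 h4)]; norm_num),
            Polynomial.degree_C_mul_X_pow 2 (div_ne_zero h3 h4)]
          norm_num)
        (FiniteField.odd_card_of_char_ne_two (fun h => h2 (by
          haveI := ringChar.of_eq h
          exact CharP.cast_eq_zero F 2)))
      simp only [Polynomial.eval_add, Polynomial.eval_mul, Polynomial.eval_C, Polynomial.eval_pow,
        Polynomial.eval_X] at hxy
      refine ⟨x - y / 2, y, ?_⟩
      field_simp at hxy ⊢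
      linear_combination hxy
  let X : Matrix.SpecialLinearGroup (Fin 2) F :=
    ⟨!![0, 1; -1, -1], by rw [Matrix.det_fin_two_of]; ring⟩
  let W : Matrix.SpecialLinearGroup (Fin 2) F :=
    ⟨!![a, a + c; c, -a], by rw [Matrix.det_fin_two_of]; linear_combination -hac⟩
  let π : Matrix.SpecialLinearGroup (Fin 2) F →* Matrix.ProjectiveSpecialLinearGroup (Fin 2) F :=
    CfsgLib.Linear.SmallSub.proj
  have hX3 : X ^ 3 = 1 := by
    apply Subtype.ext
    rw [Matrix.SpecialLinearGroup.coe_pow]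
    show (!![0, 1; -1, -1] : Matrix (Fin 2) (Fin 2) F) ^ 3 = 1
    rw [pow_succ, pow_two]
    ext i j
    fin_cases i <;> fin_cases j <;> simp [Matrix.mul_apply, Fin.sum_univ_two]
  have hinv : W * X * W⁻¹ = X⁻¹ := by
    rw [mul_inv_eq_iff_eq_mul, eq_inv_mul_iff_mul_eq]
    apply Subtype.ext
    show (!![0, 1; -1, -1] : Matrix (Fin 2) (Fin 2) F) *
      (!![a, a + c; c, -a] * !![0, 1; -1, -1]) = !![a, a + c; c, -a]
    ext i j
    fin_cases i <;> fin_cases j <;> simp [Matrix.mul_apply, Fin.sum_univ_two] <;> ring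
  refine ⟨π W, π X, CfsgLib.Linear.SmallSub.proj_ne_one (Or.inl ?_), ⟨1, ?_⟩, ?_⟩
  · show (!![0, 1; -1, -1] : Matrix (Fin 2) (Fin 2) F) 0 1 ≠ 0
    simp
  · rw [pow_one, ← map_pow, hX3, map_one]
  · rw [← map_inv, ← map_mul, ← map_mul, hinv, map_inv]

end LTwo

section Unitary

variable {F : Type*} [Field F] [Fintype F]

/-- A permutation matrix as an element of `SL₃` in characteristic two. -/
noncomputable def permSL (h2 : (2 : F) = 0) : Equiv.Perm (Fin 3) →* Matrix.SpecialLinearGroup (Fin 3) F where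
  toFun σ := ⟨(σ⁻¹).permMatrix F, by
    rw [Matrix.det_permutation]
    rcases Int.units_eq_one_or (Equiv.Perm.sign σ⁻¹) with h | h <;> rw [h]
    · simp
    · simp only [Units.val_neg, Units.val_one, Int.cast_neg, Int.cast_one]
      linear_combination -h2⟩
  map_one' := Subtype.ext (by simp)
  map_mul' σ τ := Subtype.ext (by
    show (σ * τ)⁻¹.permMatrix F = σ⁻¹.permMatrix F * τ⁻¹.permMatrix F
    rw [_root_.mul_inv_rev]
    exact Matrix.permMatrix_mul _ _)

theorem permSL_mem (h2 : (2 : F) = 0) (q : ℕ) (σ : Equiv.Perm (Fin 3)) :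
    permSL h2 σ ∈ Cfsg.SU 3 F q := by
  intro u v
  show Cfsg.hermForm 3 F q (((σ⁻¹).permMatrix F) *ᵥ u) (((σ⁻¹).permMatrix F) *ᵥ v) =
    Cfsg.hermForm 3 F q u v
  rw [Matrix.permMatrix_mulVec, Matrix.permMatrix_mulVec]
  exact Equiv.sum_comp σ⁻¹ (fun i => u i * v i ^ q)

theorem permSL_injective (h2 : (2 : F) = 0) : Function.Injective (permSL (F := F) h2) := by
  refine (injective_iff_map_eq_one _).2 fun σ h => ?_
  have hm : (σ⁻¹).permMatrix F = (1 : Matrix (Fin 3) (Fin 3) F) := congrArg Subtype.val h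
  refine inv_eq_one.1 (Equiv.ext fun i => ?_)
  have := congrFun (congrFun hm i) (σ⁻¹ i)
  rw [Equiv.Perm.permMatrix, PEquiv.toMatrix_apply, if_pos (by simp)] at this
  by_contra hne
  rw [Matrix.one_apply_ne (fun e => hne (by simpa using e.symm))] at this
  exact one_ne_zero this

theorem psu_three_inverts (h2 : (2 : F) = 0) (q : ℕ) : Inverts 3 (Cfsg.PSU 3 F q) := by
  let ι : Equiv.Perm (Fin 3) →* Cfsg.SU 3 F q :=
    (permSL h2).codRestrict _ (permSL_mem h2 q)
  let π : Cfsg.SU 3 F q →* Cfsg.PSU 3 F q := QuotientGroup.mk' _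
  refine ⟨π (ι (Equiv.swap 0 1)), π (ι (Equiv.swap 0 1 * Equiv.swap 1 2)), ?_, ⟨1, ?_⟩, ?_⟩
  · intro h
    rw [QuotientGroup.mk'_apply, QuotientGroup.eq_one_iff] at h
    have hc := Subgroup.mem_center_iff.1 h (ι (Equiv.swap 0 1))
    rw [← map_mul, ← map_mul] at hc
    have := permSL_injective h2 (congrArg Subtype.val hc)
    revert this
    decide
  · rw [pow_one, ← map_pow, ← map_pow,
      show (Equiv.swap (0 : Fin 3) 1 * Equiv.swap 1 2) ^ 3 = 1 from by decide, map_one, map_one]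
  · rw [← map_inv, ← map_mul, ← map_mul, ← map_inv, ← map_mul, ← map_mul, ← map_inv π, ← map_inv ι]
    congr 2
    decide

/-- `PSU₃(2ⁿ)` involves no symmetric group of degree four. -/
theorem psu_three_not_involves_four {n : ℕ} (hF : Fintype.card F = (2 ^ n) ^ 2)
    [CharP F 2] : ¬ Cfsg.Involves (Equiv.Perm (Fin 4)) (Cfsg.PSU 3 F (2 ^ n)) := by
  haveI : Fact (Nat.Prime 2) := ⟨Nat.prime_two⟩
  intro h
  refine not_involves_four_of_condition ?_
    (CfsgLib.QdUnitary.not_involves_of_surjective (QuotientGroup.mk' _)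
      (QuotientGroup.mk'_surjective _) h)
  exact CfsgLib.QdUnitary.su_condition (F := F) (p := 2) (by rw [Nat.card_eq_fintype_card]; exact hF)

end Unitary

end CfsgLib.GoldFree
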