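import Cfsg.Agent.GoldschmidtFree.ReeLocal

/-!
# Groups of Ree type involve the symmetric group of degree three
-/

set_option autoImplicit false
set_option linter.unusedSectionVars false
set_option linter.style.haveILetI false
set_option linter.style.setOption false
set_option maxHeartbeats 1000000

namespace CfsgLib.GoldFree

open Subgroup CfsgLib.ZJ

universe u

variable {G : Type u} [Group G]

/-- The torus through `u`: the subgroup `Y` of order `(q + 1) / 4`. -/
structure YData (t u : G) (K Y : Subgroup G) (q : ℕ) : Prop where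
  ysplit : TwoSplit u Y (K ⊓ centralizer (Y : Set G))
  cardY : 4 * Nat.card Y = q + 1
  oddY : Odd (Nat.card Y)
  cyclicY : IsCyclic Y
  conj_y : ∀ y ∈ Y, ∀ k ∈ K, k * y * k⁻¹ ∈ Y → k * y * k⁻¹ = y ∨ k * y * k⁻¹ = y⁻¹
  cent_y : ∀ y ∈ Y, y ≠ 1 → ∀ k ∈ K, k * y * k⁻¹ = y → k ∈ K ⊓ centralizer (Y : Set G)
  inv_card : ∀ y ∈ Y, y ≠ 1 → 2 * Nat.card {k : K // (k : G) * y * (k : G)⁻¹ = y⁻¹} = q + 1
  inv_sq : ∀ y ∈ Y, y ≠ 1 → ∀ k ∈ K, k * y * k⁻¹ = y⁻¹ → k * k = 1
  mem : ∀ c, c * t = t * c → c * u = u * c → c ^ Nat.card Y = 1 → c ∈ Y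

namespace RS

variable [Finite G] {t : G} {K : Subgroup G} {q : ℕ} (hs : RS t K q)

include hs

/-- An element of order three permuting `t`, `u`, `tu`. -/
theorem exists_z : ∃ u z : G, u ∈ K ∧ u * u = 1 ∧ u ≠ 1 ∧ z * t * z⁻¹ = u ∧
    z * u * z⁻¹ = t * u ∧ z ^ 3 = 1 := by
  obtain ⟨a, b, w, ha, hb, hw, a2, a1, b2, b1, hab, hcomm, w3, hwa, hwb⟩ := hs.klein
  obtain ⟨g, hg⟩ := isConj_iff.1 (hs.conj_t a a2 a1).symm
  set σ := MulAut.conj g with hσ
  have hσa : σ a = t := hg
  have ht2 := hs.t_sq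
  have hu'2 : σ b * σ b = 1 := by rw [← map_mul, b2, map_one]
  have hu'1 : σ b ≠ 1 := fun e => b1 (by
    rw [← map_one σ] at e; exact σ.injective e)
  have hu't : σ b * t = t * σ b := by rw [← hσa, ← map_mul, ← hcomm, map_mul]
  have hne : σ b ≠ t := fun e => hab (σ.injective (hσa.trans e.symm))
  have z1 : σ w * t * (σ w)⁻¹ = σ b := by rw [← hσa, ← map_inv, ← map_mul, ← map_mul, hwa]
  have z2 : σ w * σ b * (σ w)⁻¹ = t * σ b := by
    rw [← map_inv, ← map_mul, ← map_mul, hwb, map_mul, hσa]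
  have z3 : σ w ^ 3 = 1 := by rw [← map_pow, w3, map_one]
  by_cases hK : σ b ∈ K
  · exact ⟨σ b, σ w, hK, hu'2, hu'1, z1, z2, z3⟩
  · have hu : t * σ b ∈ K := hs.split.mul_mem_of_notMem (mem_centralizer_singleton_iff.2 hu't) hK
    have z4 : σ w * (t * σ b) * (σ w)⁻¹ = t := by
      calc σ w * (t * σ b) * (σ w)⁻¹
          = (σ w * t * (σ w)⁻¹) * (σ w * σ b * (σ w)⁻¹) := by group
        _ = σ b * (t * σ b) := by rw [z1, z2]
        _ = t := by rw [← mul_assoc, hu't, mul_assoc, hu'2, mul_one]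
    refine ⟨t * σ b, (σ w)⁻¹, hu, ?_, ?_, ?_, ?_, ?_⟩
    · calc t * σ b * (t * σ b) = t * (σ b * t) * σ b := by group
        _ = t * t * (σ b * σ b) := by rw [hu't]; group
        _ = 1 := by rw [ht2, hu'2, one_mul]
    · intro e
      exact hne (by rw [eq_inv_of_mul_eq_one_right e, inv_eq_of_mul_eq_one_right ht2])
    · calc (σ w)⁻¹ * t * (σ w)⁻¹⁻¹
          = (σ w)⁻¹ * (σ w * (t * σ b) * (σ w)⁻¹) * σ w := by rw [z4, inv_inv]
        _ = t * σ b := by group
    · rw [hs.split.cancel, ← z2]; group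
    · rw [inv_pow, z3, inv_one]

theorem exists_Y {u : G} (hu : u ∈ K) (hu2 : u * u = 1) (hu1 : u ≠ 1) :
    ∃ Y : Subgroup G, YData t u K Y q := by
  classical
  obtain ⟨U', hxU, hcyc, hUcard, hUC, hCcard, hout, hkey⟩ :=
    hs.kf.torus ⟨u, hu⟩ (Subtype.ext hu2) (fun e => hu1 (congrArg Subtype.val e))
  set x : K := ⟨u, hu⟩ with hx
  obtain ⟨a, ha⟩ : ∃ a, q = 8 * a + 3 := ⟨q / 8, by have := hs.qmod; omega⟩
  set m := 2 * a + 1 with hm
  have hUm : Nat.card U' = 2 * m := by omega
  have hq27 := hs.q_ge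
  haveI := hcyc
  have hcommU : ∀ p ∈ U', ∀ r ∈ U', p * r = r * p := fun p hp r hr => by
    letI := IsCyclic.commGroup (α := U')
    exact congrArg Subtype.val (mul_comm (⟨p, hp⟩ : U') ⟨r, hr⟩)
  -- the only involution of `U'`
  have huniq : ∀ p ∈ U', p * p = 1 → p = 1 ∨ p = x := by
    intro p hp hp2
    by_contra hcon
    push Not at hcon
    obtain ⟨hp1, hpx⟩ := hcon
    let s : Finset U' := {1, ⟨p, hp⟩, ⟨x, hxU⟩}
    have hs3 : s.card = 3 := by
      have e1 : (1 : U') ∉ ({⟨p, hp⟩, ⟨x, hxU⟩} : Finset U') := by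
        simp only [Finset.mem_insert, Finset.mem_singleton, Subtype.ext_iff, Subgroup.coe_one,
          not_or]
        exact ⟨fun e => hp1 (Subtype.ext e.symm), fun e => hu1 e.symm⟩
      rw [Finset.card_insert_of_notMem e1, Finset.card_pair (fun e => hpx (congrArg Subtype.val e))]
    haveI := Fintype.ofFinite U'
    have hle := IsCyclic.card_pow_eq_one_le (α := U') (n := 2) (by norm_num)
    have hsub : s ⊆ Finset.univ.filter (fun r : U' => r ^ 2 = 1) := by
      intro r hr
      simp only [s, Finset.mem_insert, Finset.mem_singleton] at hr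
      refine Finset.mem_filter.2 ⟨Finset.mem_univ _, ?_⟩
      rcases hr with rfl | rfl | rfl
      · exact one_pow 2
      · exact Subtype.ext (by rw [SubmonoidClass.coe_pow, pow_two]; exact hp2)
      · exact Subtype.ext (by rw [SubmonoidClass.coe_pow, pow_two]; exact Subtype.ext hu2)
    have := (Finset.card_le_card hsub).trans hle
    omega
  have hpowU : ∀ p ∈ U', p ^ (2 * m) = 1 := fun p hp => by
    have h : (⟨p, hp⟩ : U') ^ Nat.card U' = 1 := pow_card_eq_one'
    rw [hUm] at h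
    simpa using congrArg Subtype.val h
  let Y' : Subgroup K :=
    { carrier := {p | p ∈ U' ∧ p ^ m = 1}
      one_mem' := ⟨one_mem _, one_pow _⟩
      mul_mem' := fun {p r} hp hr => ⟨mul_mem hp.1 hr.1, by
        rw [(show Commute p r from hcommU p hp.1 r hr.1).mul_pow, hp.2, hr.2, one_mul]⟩
      inv_mem' := fun {p} hp => ⟨inv_mem hp.1, by rw [inv_pow, hp.2, inv_one]⟩ }
  have hY'U : Y' ≤ U' := fun p hp => hp.1
  have hxm : x ^ m = x := by
    rw [hm, pow_succ, pow_mul, pow_two, show x * x = 1 from Subtype.ext hu2, one_pow, one_mul]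
  have hx1 : x ≠ 1 := fun e => hu1 (congrArg Subtype.val e)
  have hsplitU : TwoSplit x Y' U' := by
    refine ⟨hY'U, hxU, fun h => hx1 (hxm.symm.trans h.2), Subtype.ext hu2,
      fun p hp => hcommU x hxU p hp.1, fun p hp => ?_⟩
    have h2 : p ^ m * p ^ m = 1 := by rw [← pow_two, ← pow_mul, mul_comm]; exact hpowU p hp
    rcases huniq _ (pow_mem hp m) h2 with h | h
    · exact Or.inl ⟨hp, h⟩
    · refine Or.inr ⟨mul_mem hxU hp, ?_⟩
      rw [(show Commute x p from hcommU x hxU p hp).mul_pow, hxm, h]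
      exact Subtype.ext hu2
  have hY'card : Nat.card Y' = m := by
    have := hsplitU.card_eq; omega
  obtain ⟨y0, hy0, hy01⟩ := (bot_or_exists_ne_one Y').resolve_left fun h => by
    rw [h, card_bot] at hY'card; omega
  have hodd_ne : ∀ p ∈ Y', p ≠ 1 → p⁻¹ ≠ p := fun p hp hp1 e => hp1 (by
    have h2 : p ^ 2 = 1 := by rw [pow_two]; exact inv_eq_iff_mul_eq_one.1 e
    have h := hp.2
    rwa [hm, pow_succ, pow_mul, h2, one_pow, one_mul] at h)
  have hcent : ∀ p ∈ Y', p ≠ 1 → ∀ k : K, k * p * k⁻¹ = p → k ∈ U' := by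
    intro p hp hp1 k hk
    by_contra hkU
    obtain ⟨-, hinv⟩ := hout k (hkey p hp.1 hp1 k (by rw [hk]; exact hp.1)) hkU
    exact hodd_ne p hp hp1 ((hinv p hp.1).symm.trans hk)
  set Y := Y'.map K.subtype with hY
  have hmemY : ∀ {k : G} (hk : k ∈ K), k ∈ Y ↔ (⟨k, hk⟩ : K) ∈ Y' := fun {k} hk =>
    ⟨fun ⟨r, hr, he⟩ => (show r = ⟨k, hk⟩ from Subtype.ext he) ▸ hr, fun h => ⟨_, h, rfl⟩⟩
  have hYcard : Nat.card Y = m := by
    rw [hY, card_map_of_injective K.subtype_injective, hY'card]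
  have hYK : Y ≤ K := map_subtype_le _
  have hcentU : ∀ {k : G} (hk : k ∈ K), k ∈ centralizer (Y : Set G) ↔ (⟨k, hk⟩ : K) ∈ U' := by
    intro k hk
    rw [mem_centralizer_iff]
    constructor
    · intro h
      refine hcent y0 hy0 hy01 _ (Subtype.ext ?_)
      show k * (y0 : G) * k⁻¹ = y0
      rw [← h y0 ⟨y0, hy0, rfl⟩, mul_inv_cancel_right]
    · rintro h _ ⟨r, hr, rfl⟩
      exact congrArg Subtype.val (hcommU r hr.1 _ h)
  refine ⟨Y, ⟨⟨fun k hk => ⟨hYK hk, (hcentU (hYK hk)).2 (((hmemY _).1 hk).1)⟩,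
    ⟨hu, (hcentU hu).2 hxU⟩, fun h => hsplitU.notMem ((hmemY hu).1 h), hu2, ?_, ?_⟩,
    by rw [hYcard]; omega, by rw [hYcard]; exact ⟨a, rfl⟩, ?_, ?_, ?_, ?_, ?_, ?_⟩⟩
  · rintro _ ⟨r, hr, rfl⟩
    exact congrArg Subtype.val (hsplitU.comm r hr)
  · rintro k ⟨hkK, hkc⟩
    exact (hsplitU.cover _ ((hcentU hkK).1 hkc)).imp (hmemY hkK).2
      fun h => (hmemY (mul_mem hu hkK)).2 h
  · haveI : IsCyclic Y' := isCyclic_of_injective (Subgroup.inclusion hY'U)
      (Subgroup.inclusion_injective hY'U)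
    exact isCyclic_of_surjective (K.subtype.subgroupMap Y') (K.subtype.subgroupMap_surjective Y')
  · rintro _ ⟨p, hp, rfl⟩ k hk hm'
    by_cases hp1 : p = 1
    · subst hp1; left; simp
    set k' : K := ⟨k, hk⟩
    have hmem : k' * p * k'⁻¹ ∈ Y' := (hmemY (k' * p * k'⁻¹).2).1 hm'
    by_cases hkU : k' ∈ U'
    · left
      exact congrArg Subtype.val (show k' * p * k'⁻¹ = p by
        rw [hcommU k' hkU p hp.1, mul_inv_cancel_right])
    · right
      exact congrArg Subtype.val ((hout k' (hkey p hp.1 hp1 k' hmem.1) hkU).2 p hp.1)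
  · rintro _ ⟨p, hp, rfl⟩ hp1 k hk hkp
    exact ⟨hk, (hcentU hk).2 (hcent p hp (fun e => hp1 (by rw [e, map_one])) ⟨k, hk⟩
      (Subtype.ext hkp))⟩
  · rintro _ ⟨p, hp, rfl⟩ hp1
    have hp1' : p ≠ 1 := fun e => hp1 (by rw [e, map_one])
    have e : Nat.card {k : K // (k : G) * K.subtype p * (k : G)⁻¹ = (K.subtype p)⁻¹} =
        Nat.card {k : K // k ∈ centralizer ({x} : Set K) ∧ k ∉ U'} := by
      refine Nat.card_congr (Equiv.subtypeEquivRight fun k => ⟨fun h => ?_, fun h => ?_⟩)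
      · have h' : k * p * k⁻¹ = p⁻¹ := Subtype.ext h
        refine ⟨hkey p hp.1 hp1' k (by rw [h']; exact inv_mem hp.1), fun hkU => ?_⟩
        rw [hcommU k hkU p hp.1, mul_inv_cancel_right] at h'
        exact hodd_ne p hp hp1' h'.symm
      · exact congrArg Subtype.val ((hout k h.1 h.2).2 p hp.1)
    rw [e]
    have hsum : Nat.card {k : K // k ∈ centralizer ({x} : Set K) ∧ k ∉ U'} + Nat.card U' =
        Nat.card (centralizer ({x} : Set K)) := by
      have h := Set.ncard_sdiff_add_ncard_of_subset (s := (U' : Set K))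
        (t := (centralizer ({x} : Set K) : Set K)) (fun k hk => hUC hk)
      simp only [← Nat.card_coe_set_eq] at h
      exact h
    omega
  · rintro _ ⟨p, hp, rfl⟩ hp1 k hk hkp
    have hp1' : p ≠ 1 := fun e => hp1 (by rw [e, map_one])
    have h' : (⟨k, hk⟩ : K) * p * (⟨k, hk⟩ : K)⁻¹ = p⁻¹ := Subtype.ext hkp
    have hkU : (⟨k, hk⟩ : K) ∉ U' := fun hkU => by
      rw [hcommU _ hkU p hp.1, mul_inv_cancel_right] at h'
      exact hodd_ne p hp hp1' h'.symm
    exact congrArg Subtype.val (hout _ (hkey p hp.1 hp1' _ (by rw [h']; exact inv_mem hp.1)) hkU).1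
  · intro c hct hcu hcm
    rw [hYcard] at hcm
    have hcK : c ∈ K := by
      by_contra hcK
      have h := hs.split.mul_mem_of_notMem (mem_centralizer_singleton_iff.2 hct) hcK
      have e : (t * c) ^ m = t := by
        rw [(show Commute t c from hct.symm).mul_pow, hcm, mul_one, hm, pow_succ, pow_mul, pow_two,
          hs.t_sq, one_pow, one_mul]
      exact hs.split.notMem (e ▸ pow_mem h m)
    have hcm' : (⟨c, hcK⟩ : K) ^ m = 1 := Subtype.ext (by simpa using hcm)
    refine (hmemY hcK).2 ⟨?_, hcm'⟩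
    by_contra hcU
    obtain ⟨h2, -⟩ := hout _ (mem_centralizer_singleton_iff.2 (Subtype.ext hcu)) hcU
    refine hcU ?_
    rw [hm, pow_succ, pow_mul, pow_two, h2, one_pow, one_mul] at hcm'
    rw [hcm']
    exact one_mem _

/-- The case in which `z` centralises `Y`. -/
theorem false_of_centralizing (hno : ¬ Inverts 3 G) (h3 : ¬ 3 ∣ (centralizer ({t} : Set G)).index)
    {u z : G} (hu : u ∈ K) (hu2 : u * u = 1) (hu1 : u ≠ 1) (hzt : z * t * z⁻¹ = u)
    (hzu : z * u * z⁻¹ = t * u) (hz3 : z ^ 3 = 1) {Y : Subgroup G} (hY : YData t u K Y q)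
    (hzY : ∀ y ∈ Y, z * y * z⁻¹ = y) : False := by
  classical
  haveI : Fact (Nat.Prime 3) := ⟨Nat.prime_three⟩
  haveI : Fact (Nat.Prime 2) := ⟨Nat.prime_two⟩
  have ht2 := hs.t_sq
  have htu : t * u = u * t := hs.tK hu
  have hz1 : z ≠ 1 := by
    rintro rfl
    rw [one_mul, inv_one, mul_one] at hzt
    exact hs.split.notMem (hzt ▸ hu)
  have hzord : orderOf z = 3 := orderOf_eq_prime hz3 hz1
  obtain ⟨a, ha⟩ : ∃ a, q = 8 * a + 3 := ⟨q / 8, by have := hs.qmod; omega⟩
  have hq27 := hs.q_ge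
  set m := Nat.card Y with hm
  have hmq : 4 * m = q + 1 := hY.cardY
  have hm3 : Nat.Coprime m 3 := by
    obtain ⟨b, hb⟩ := hs.three_dvd
    exact (Nat.prime_three.coprime_iff_not_dvd.2 (by omega)).symm
  have hmodd : Odd m := hY.oddY
  have hm6 : Nat.Coprime m 6 := by
    rw [show 6 = 2 * 3 from rfl]
    exact Nat.Coprime.mul_right (Nat.coprime_two_right.2 hmodd) hm3
  have hYK : Y ≤ K := fun y hy => (hY.ysplit.le hy).1
  have hYcomm : ∀ y ∈ Y, ∀ r ∈ Y, y * r = r * y := fun y hy r hr =>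
    (mem_centralizer_iff.1 (hY.ysplit.le hy).2 r hr).symm
  have hypow : ∀ y ∈ Y, y ^ m = 1 := fun y hy => by
    have h : (⟨y, hy⟩ : Y) ^ Nat.card Y = 1 := pow_card_eq_one'
    exact (SubmonoidClass.coe_pow (⟨y, hy⟩ : Y) _).symm.trans (congrArg Subtype.val h)
  have hvodd : ∀ g : G, g * g = 1 → g ^ m = g := fun g hg => by
    obtain ⟨b, hb⟩ := hmodd
    rw [hb, pow_succ, pow_mul, pow_two, hg, one_pow, one_mul]
  set L := centralizer (Y : Set G) with hL
  have hzL : z ∈ L := mem_centralizer_iff.2 fun y hy => by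
    calc y * z = z * y * z⁻¹ * z := by rw [hzY y hy]
      _ = z * y := by group
  have htL : t ∈ L := mem_centralizer_iff.2 fun y hy => (hs.tK (hYK hy)).symm
  have huL : u ∈ L := hY.ysplit.mem.2
  have hYL : Y ≤ L := fun y hy => (hY.ysplit.le hy).2
  let Y₁ : Subgroup L := Y.subgroupOf L
  haveI hY₁n : Y₁.Normal := ⟨fun y hy g => by
    have h : (g : G) * y * (g : G)⁻¹ = y := by
      rw [← mem_centralizer_iff.1 g.2 y hy, mul_inv_cancel_right]
    rw [mem_subgroupOf] at hy ⊢
    simp only [Subgroup.coe_mul, Subgroup.coe_inv, h]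
    exact hy⟩
  set π := QuotientGroup.mk' Y₁ with hπ
  have hπ1 : ∀ x : L, π x = 1 ↔ (x : G) ∈ Y := fun x => by
    rw [hπ, QuotientGroup.mk'_apply, QuotientGroup.eq_one_iff]; rfl
  have hlift : ∀ x g : L, π x = π g → ∃ y ∈ Y, (x : G) = y * g := fun x g h => by
    refine ⟨(x : G) * (g : G)⁻¹, ?_, by group⟩
    have : π (x * g⁻¹) = 1 := by rw [map_mul, map_inv, h, mul_inv_cancel]
    simpa using (hπ1 _).1 this
  let tt : L := ⟨t, htL⟩
  let uu : L := ⟨u, huL⟩
  let zz : L := ⟨z, hzL⟩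
  have hQno : ¬ Inverts 3 (L ⧸ Y₁) := fun h => hno (involves_perm_three_iff.1
    (involves_of_subgroup L (involves_of_quotient Y₁ (involves_perm_three_iff.2 h))))
  have hshape : ∀ x : L, (x : G) * t = t * x →
      π x = 1 ∨ π x = π tt ∨ π x = π uu ∨ π x = π tt * π uu := by
    intro x hx
    rcases hs.split.cover x (mem_centralizer_singleton_iff.2 hx) with h | h
    · rcases hY.ysplit.cover x ⟨h, x.2⟩ with h' | h'
      · exact Or.inl ((hπ1 x).2 h')
      · refine Or.inr (Or.inr (Or.inl ?_))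
        have e : π (uu * x) = 1 := (hπ1 _).2 h'
        rw [map_mul] at e
        rw [eq_inv_of_mul_eq_one_right e, ← map_inv,
          show uu⁻¹ = uu from inv_eq_of_mul_eq_one_right (Subtype.ext hu2)]
    · have hti : tt⁻¹ = tt := inv_eq_of_mul_eq_one_right (Subtype.ext ht2)
      rcases hY.ysplit.cover (t * x) ⟨h, mul_mem htL x.2⟩ with h' | h'
      · refine Or.inr (Or.inl ?_)
        have e : π (tt * x) = 1 := (hπ1 _).2 h'
        rw [map_mul] at e
        rw [eq_inv_of_mul_eq_one_right e, ← map_inv, hti]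
      · refine Or.inr (Or.inr (Or.inr ?_))
        have e : π (uu * (tt * x)) = 1 := (hπ1 _).2 h'
        rw [← mul_assoc, map_mul] at e
        rw [eq_inv_of_mul_eq_one_right e, ← map_inv, mul_inv_rev, hti,
          show uu⁻¹ = uu from inv_eq_of_mul_eq_one_right (Subtype.ext hu2), map_mul]
  have hnotY : ∀ g : G, g * g = 1 → g ≠ 1 → g ∉ Y := fun g hg hg1 hgY =>
    hg1 ((hvodd g hg).symm.trans (hypow g hgY))
  obtain ⟨hA, hB⟩ := four_core (v := π tt) (w := π uu) (z := π zz)
    (by rw [← map_mul, show tt * tt = 1 from Subtype.ext ht2, map_one])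
    (fun e => hnotY t ht2 hs.t_ne ((hπ1 _).1 e))
    (by rw [← map_mul, show uu * uu = 1 from Subtype.ext hu2, map_one])
    (fun e => by
      have hm1 : π (tt * uu) = 1 := by
        rw [map_mul, e, ← map_mul, show uu * uu = 1 from Subtype.ext hu2, map_one]
      refine hnotY (t * u) ?_ ?_ ((hπ1 _).1 hm1)
      · calc t * u * (t * u) = t * (u * t) * u := by group
          _ = t * t * (u * u) := by rw [← htu]; group
          _ = 1 := by rw [ht2, hu2, one_mul]
      · intro e'
        exact hs.split.notMem (by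
          rw [eq_inv_of_mul_eq_one_left e']; exact inv_mem hu))
    (by rw [← map_inv, ← map_mul, ← map_mul]; exact congrArg π (Subtype.ext hzt))
    (by rw [← map_inv, ← map_mul, ← map_mul, ← map_mul]; exact congrArg π (Subtype.ext hzu))
    (by rw [← map_mul, ← map_mul]; exact congrArg π (Subtype.ext htu))
    (fun x k hx => by
      obtain ⟨l, rfl⟩ := QuotientGroup.mk'_surjective Y₁ x
      have hmem : (l : G) ^ 2 ^ k ∈ Y := by
        rw [← map_pow] at hx
        simpa using (hπ1 _).1 hx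
      set g := (l : G) ^ m with hg
      have hg2 : g ^ 2 ^ k = 1 := by rw [hg, pow_right_comm, hypow _ hmem]
      have hp : IsPGroup 2 (zpowers g) := by
        obtain ⟨r, -, hr⟩ := (Nat.dvd_prime_pow Nat.prime_two).1 (orderOf_dvd_of_pow_eq_one hg2)
        exact IsPGroup.of_card (n := r) (by rw [Nat.card_zpowers, hr])
      have hgg := hs.two_group_sq hp (mem_zpowers g)
      have h2m : π (l * l) ^ m = 1 := by
        rw [← map_pow, show (l * l) ^ m = 1 from Subtype.ext (by
          rw [SubmonoidClass.coe_pow, Subgroup.coe_mul, Subgroup.coe_one,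
            (Commute.refl (l : G)).mul_pow]
          exact hgg), map_one]
      have h2k : π (l * l) ^ 2 ^ k = 1 := by
        rw [map_mul, (Commute.refl (π l)).mul_pow, hx, one_mul]
      have hcop : Nat.Coprime m (2 ^ k) := (Nat.coprime_two_right.2 hmodd).pow_right k
      rw [← map_mul]
      exact orderOf_eq_one_iff.1 (Nat.eq_one_of_dvd_coprimes hcop
        (orderOf_dvd_of_pow_eq_one h2m) (orderOf_dvd_of_pow_eq_one h2k)))
    (fun x hx => by
      obtain ⟨l, rfl⟩ := QuotientGroup.mk'_surjective Y₁ x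
      rw [← map_mul, ← map_mul] at hx
      obtain ⟨y, hy, he⟩ := hlift _ _ hx
      simp only [Subgroup.coe_mul] at he
      have e2 : (l : G) * t * (l : G)⁻¹ = y * t := by
        rw [he]
        simp only [tt]; group
      have h1 : ((l : G) * t * (l : G)⁻¹) ^ m = (y * t) ^ m := congrArg (fun g => g ^ m) e2
      rw [conj_pow, hvodd t ht2, (show Commute y t from (hs.tK (hYK hy)).symm).mul_pow,
        hypow y hy, hvodd t ht2, one_mul] at h1
      exact hshape l (mul_inv_eq_iff_eq_mul.1 h1))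
    hQno
  -- involutions of `L`
  have hinvL : ∀ g : G, g ∈ L → g * g = 1 → g = 1 ∨ g = t ∨ g = u ∨ g = t * u := by
    intro g hg hg2
    have key : ∀ v : L, (v : G) * v = 1 → π ⟨g, hg⟩ = π v → g = v := by
      intro v hv he
      obtain ⟨y, hy, he'⟩ := hlift _ _ he
      have h := congrArg (fun x => x ^ m) he'
      simp only at h
      rw [hvodd g hg2, (show Commute y (v : G) from mem_centralizer_iff.1 v.2 y hy).mul_pow,
        hypow y hy, one_mul, hvodd _ hv] at h
      exact h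
    rcases hA (π ⟨g, hg⟩) (by rw [← map_mul, show (⟨g, hg⟩ : L) * ⟨g, hg⟩ = 1 from
        Subtype.ext hg2, map_one]) with h | h | h | h
    · exact Or.inl (key 1 (one_mul 1) (by rw [h, map_one]))
    · exact Or.inr (Or.inl (key tt ht2 h))
    · exact Or.inr (Or.inr (Or.inl (key uu hu2 h)))
    · refine Or.inr (Or.inr (Or.inr (key (tt * uu) ?_ (by rw [h, map_mul]))))
      show t * u * (t * u) = 1
      calc t * u * (t * u) = t * (u * t) * u := by group
        _ = t * t * (u * u) := by rw [← htu]; group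
        _ = 1 := by rw [ht2, hu2, one_mul]
  -- transport `T0` to `z`
  obtain ⟨T0, hT0K, hT0card, hT0p, hT0ab, hT0c⟩ := hs.exists_T0
  have hGq : ∀ R : Subgroup G, IsPGroup 3 R → Nat.card R ≤ q := by
    intro R hR
    obtain ⟨r, hr⟩ := IsPGroup.iff_card.1 hR
    have hd : Nat.card R ∣ Nat.card (centralizer ({t} : Set G)) *
        (centralizer ({t} : Set G)).index := by
      rw [card_mul_index]; exact card_subgroup_dvd_card R
    rw [hr] at hd ⊢
    have hd' : 3 ^ r ∣ Nat.card (centralizer ({t} : Set G)) :=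
      ((Nat.prime_three.coprime_iff_not_dvd.2 h3).pow_left r).dvd_of_dvd_mul_right hd
    obtain ⟨S⟩ := (inferInstance : Nonempty (Sylow 3 (centralizer ({t} : Set G))))
    have hS := hs.three_group_le (S.isPGroup'.map (centralizer ({t} : Set G)).subtype)
      (map_subtype_le _)
    rw [card_map_of_injective (centralizer ({t} : Set G)).subtype_injective,
      S.card_eq_multiplicity] at hS
    refine le_trans ?_ hS
    exact Nat.pow_le_pow_right (by norm_num)
      ((Nat.prime_three.pow_dvd_iff_le_factorization Nat.card_pos.ne').1 hd')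
  obtain ⟨S0, hS0⟩ := hT0p.exists_le_sylow
  have hS0T : T0 = (S0 : Subgroup G) :=
    eq_of_le_of_card_ge hS0 (by rw [hT0card]; exact hGq _ S0.isPGroup')
  obtain ⟨S1, hS1⟩ := (IsPGroup.of_card (n := 1) (by rw [Nat.card_zpowers, hzord, pow_one]) :
    IsPGroup 3 (zpowers z)).exists_le_sylow
  obtain ⟨g, hg⟩ := MulAction.exists_smul_eq G S0 S1
  have hzS := hS1 (mem_zpowers z)
  rw [← hg, Sylow.coe_subgroup_smul] at hzS
  obtain ⟨a', ha'S, ha'z⟩ := hzS
  set σ : G ≃* G := MulAut.conj g with hσ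
  have ha'T : a' ∈ T0 := hS0T ▸ ha'S
  have hza : σ a' = z := ha'z
  have ha'3 : orderOf a' = 3 := by
    rw [← hzord, ← hza, σ.orderOf_eq]
  set t' := σ t with ht'
  set T := T0.map σ.toMonoidHom with hTdef
  have ht'2 : t' * t' = 1 := by rw [ht', ← map_mul, ht2, map_one]
  have ht'1 : t' ≠ 1 := fun e => hs.t_ne (σ.injective (e.trans (map_one σ).symm))
  have hTcard : Nat.card T = q := by rw [hTdef, card_map_of_injective σ.injective, hT0card]
  have hTab : ∀ x ∈ T, ∀ y ∈ T, x * y = y * x := by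
    rintro _ ⟨x, hx, rfl⟩ _ ⟨y, hy, rfl⟩
    rw [← map_mul, hT0ab x hx y hy, map_mul]
  have hTt : ∀ x ∈ T, t' * x = x * t' := by
    rintro _ ⟨x, hx, rfl⟩
    show σ t * σ x = σ x * σ t
    rw [← map_mul, hs.tK (hT0K hx), map_mul]
  have hTz : ∀ x ∈ T, z * x = x * z := fun x hx => hTab z ⟨a', ha'T, hza⟩ x hx
  have hTpow : ∀ x ∈ T, x ^ q = 1 := fun x hx => by
    have h : (⟨x, hx⟩ : T) ^ Nat.card T = 1 := pow_card_eq_one'
    rw [hTcard] at h
    simpa using congrArg Subtype.val h
  have hcap : ∀ x, x * z = z * x → x * t' = t' * x → x ∈ T ∨ t' * x ∈ T := by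
    intro x hxz hxt
    obtain ⟨r, rfl⟩ := σ.surjective x
    have hrt : r * t = t * r := σ.injective (by rw [map_mul, map_mul]; exact hxt)
    have hra : r * a' = a' * r := σ.injective (by rw [map_mul, map_mul, hza]; exact hxz)
    rcases hs.split.cover r (mem_centralizer_singleton_iff.2 hrt) with h | h
    · exact Or.inl ⟨r, hT0c a' ha'T ha'3 r h hra, rfl⟩
    · refine Or.inr ⟨t * r, hT0c a' ha'T ha'3 _ h ?_, map_mul σ t r⟩
      rw [mul_assoc, hra, ← mul_assoc, hs.tK (hT0K ha'T), mul_assoc]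
  set Cz := centralizer ({z} : Set G) with hCz
  have hzt' : z * t' = t' * z := (hTt z ⟨a', ha'T, hza⟩).symm
  have hqodd : Odd q := ⟨4 * a + 1, by omega⟩
  have hTsq : ∀ x ∈ T, x * x = 1 → x = 1 := fun x hx h2 => by
    obtain ⟨b, hb⟩ := hqodd
    have h := hTpow x hx
    rwa [hb, pow_succ, pow_mul, pow_two, h2, one_pow, one_mul] at h
  obtain ⟨D, hDCz, hDodd, ht'D, hDcov, hDn, hDodd'⟩ := hs.exists_half Cz
    (mem_centralizer_singleton_iff.2 hzt'.symm) ht'2 ht'1 (fun x hx hx2 hxt => by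
      rcases hcap x (mem_centralizer_singleton_iff.1 hx) hxt with h | h
      · exact Or.inl (hTsq x h hx2)
      · refine Or.inr ?_
        have h' := hTsq _ h (by
          calc t' * x * (t' * x) = t' * (x * t') * x := by group
            _ = t' * t' * (x * x) := by rw [hxt]; group
            _ = 1 := by rw [ht'2, hx2, one_mul])
        rw [eq_inv_of_mul_eq_one_right h', inv_eq_of_mul_eq_one_right ht'2])
  have ht'Cz : t' ∈ Cz := mem_centralizer_singleton_iff.2 hzt'.symm
  have hTD : T ≤ D := fun x hx =>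
    hDodd' x (mem_centralizer_singleton_iff.2 (hTz x hx).symm) q hqodd (hTpow x hx)
  have hconjD : ∀ x ∈ D, t' * x * t' ∈ D := fun x hx => by
    have h := hDn t' ht'Cz x hx
    rwa [inv_eq_of_mul_eq_one_right ht'2] at h
  have hfix : ∀ x ∈ D, t' * x * t' = x → x ∈ T := by
    intro x hx hxt
    have hc : x * t' = t' * x := by
      calc x * t' = t' * x * t' * t' := by rw [hxt]
        _ = t' * x := by rw [mul_assoc, ht'2, mul_one]
    rcases hcap x (mem_centralizer_singleton_iff.1 (hDCz hx)) hc with h | h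
    · exact h
    · exfalso
      have := (Subgroup.mul_mem_cancel_right D hx).1 (hTD h)
      exact ht'D this
  -- transfer in `D`
  let T' : Subgroup D := T.subgroupOf D
  have hT'card : Nat.card T' = q := by
    rw [Nat.card_congr (subgroupOfEquivOfLe hTD).toEquiv, hTcard]
  have hTsyl : Nat.card T' = 3 ^ (Nat.card D).factorization 3 := by
    obtain ⟨f, hf⟩ := hs.qpow
    refine le_antisymm ?_ ?_
    · rw [hT'card, hf]
      refine Nat.pow_le_pow_right (by norm_num)
        ((Nat.prime_three.pow_dvd_iff_le_factorization Nat.card_pos.ne').1 ?_)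
      rw [← hf, ← hT'card]; exact card_subgroup_dvd_card T'
    · rw [hT'card]
      obtain ⟨S⟩ := (inferInstance : Nonempty (Sylow 3 D))
      have := hGq _ (S.isPGroup'.map D.subtype)
      rwa [card_map_of_injective D.subtype_injective, S.card_eq_multiplicity] at this
  let P : Sylow 3 D := Sylow.ofCard T' hTsyl
  have hle : normalizer ((P : Subgroup D) : Set D) ≤ centralizer ((P : Subgroup D) : Set D) := by
    intro x hx
    have hxT : ∀ s ∈ T, (x : G) * s * (x : G)⁻¹ ∈ T := fun s hs' =>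
      (mem_normalizer_iff.1 hx ⟨s, hTD hs'⟩).1 hs'
    set M0 := D ⊓ centralizer (T : Set G) with hM0
    have hyM : (x : G)⁻¹ * (t' * x * t') ∈ M0 := by
      refine mem_inf.2 ⟨mul_mem (inv_mem x.2) (hconjD x x.2), mem_centralizer_iff.2 fun s hs' => ?_⟩
      have h1 : t' * x * t' * s * (t' * x * t')⁻¹ = (x : G) * s * (x : G)⁻¹ := by
        calc t' * x * t' * s * (t' * x * t')⁻¹
            = t' * x * (t' * s * t'⁻¹) * (x : G)⁻¹ * t'⁻¹ := by group
          _ = t' * ((x : G) * s * (x : G)⁻¹) * t'⁻¹ := by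
            rw [hTt s hs', mul_inv_cancel_right]; group
          _ = _ := by rw [hTt _ (hxT s hs'), mul_inv_cancel_right]
      calc s * ((x : G)⁻¹ * (t' * x * t'))
          = (x : G)⁻¹ * ((x : G) * s * (x : G)⁻¹) * (t' * x * t') := by group
        _ = (x : G)⁻¹ * (t' * x * t') * s := by rw [← h1]; group
    obtain ⟨c, hc, hc1, -⟩ := sqrt_fix (M := M0)
      (by
        obtain ⟨d, hd⟩ := card_dvd_of_le (inf_le_left : M0 ≤ D)
        exact (Nat.odd_mul.1 (hd ▸ hDodd)).1) ht'2 hyM
    have hxc := hfix _ (mul_mem x.2 hc.1) hc1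
    refine mem_centralizer_iff.2 fun s hs' => Subtype.ext ?_
    show (s : G) * x = x * s
    have hs'' : (s : G) ∈ T := hs'
    have e1 := hTab _ hxc _ hs''
    have e2 := mem_centralizer_iff.1 hc.2 _ hs''
    calc (s : G) * x = (s : G) * ((x : G) * c) * c⁻¹ := by group
      _ = (x : G) * (c * s) * c⁻¹ := by rw [← e1]; group
      _ = x * s := by rw [← e2]; group
  have hc := MonoidHom.ker_transferSylow_isComplement' P hle
  set M' := (MonoidHom.transferSylow P hle).ker with hM'
  haveI hMn : M'.Normal := MonoidHom.normal_ker _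
  set e := Nat.card M' with he
  have hMidx : M'.index = q := by
    rw [hc.symm.index_eq_card]; exact hT'card
  have hcop : Nat.Coprime e 3 := by
    refine (Nat.prime_three.coprime_iff_not_dvd.2 fun h => P.not_dvd_index ?_).symm
    rwa [hc.index_eq_card]
  have hMmem : ∀ x : D, x ∈ M' ↔ x ^ e = 1 := by
    intro x
    constructor
    · intro hx
      have h : (⟨x, hx⟩ : M') ^ e = 1 := pow_card_eq_one'
      simpa using congrArg Subtype.val h
    · intro hx
      rw [← QuotientGroup.eq_one_iff]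
      have h1 : (x : D ⧸ M') ^ e = 1 := by rw [← QuotientGroup.mk_pow, hx, QuotientGroup.mk_one]
      have h2 : (x : D ⧸ M') ^ q = 1 := by
        rw [← hMidx, index_eq_card]; exact pow_card_eq_one'
      obtain ⟨f, hf⟩ := hs.qpow
      exact orderOf_eq_one_iff.1 (Nat.eq_one_of_dvd_coprimes
        (hf ▸ hcop.pow_right f : Nat.Coprime e q)
        (orderOf_dvd_of_pow_eq_one h1) (orderOf_dvd_of_pow_eq_one h2))
  set M := M'.map D.subtype with hMdef
  have hMmemG : ∀ g : G, g ∈ M ↔ g ∈ D ∧ g ^ e = 1 := by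
    intro g
    constructor
    · rintro ⟨x, hx, rfl⟩
      exact ⟨x.2, by simpa using congrArg Subtype.val ((hMmem x).1 hx)⟩
    · rintro ⟨hg, hge⟩
      exact ⟨⟨g, hg⟩, (hMmem _).2 (Subtype.ext (by simpa using hge)), rfl⟩
  have hMcard : Nat.card M = e := by rw [hMdef, card_map_of_injective D.subtype_injective]
  have hMD : M ≤ D := map_subtype_le _
  have hMinv : ∀ x ∈ M, t' * x * t' = x⁻¹ := by
    intro x hx
    have ht'x : t' * x * t' ∈ M := by
      obtain ⟨h1, h2⟩ := (hMmemG x).1 hx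
      refine (hMmemG _).2 ⟨hconjD x h1, ?_⟩
      have h := conj_pow (i := e) (a := t') (b := x)
      rw [inv_eq_of_mul_eq_one_right ht'2, h2, mul_one, ht'2] at h
      exact h
    have hMo : Odd (Nat.card M) := by
      obtain ⟨d, hd⟩ := card_dvd_of_le hMD
      exact (Nat.odd_mul.1 (hd ▸ hDodd)).1
    obtain ⟨c, hcM, hc1, hc2⟩ := sqrt_fix hMo ht'2 (mul_mem (inv_mem hx) ht'x)
    have hxc : x * c = 1 := by
      have hT := hfix _ (hMD (mul_mem hx hcM)) hc1
      have h1 := ((hMmemG _).1 (mul_mem hx hcM)).2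
      have h2 := hTpow _ hT
      obtain ⟨f, hf⟩ := hs.qpow
      exact orderOf_eq_one_iff.1 (Nat.eq_one_of_dvd_coprimes
        (hf ▸ hcop.pow_right f : Nat.Coprime e q)
        (orderOf_dvd_of_pow_eq_one h1) (orderOf_dvd_of_pow_eq_one h2))
    rw [eq_inv_of_mul_eq_one_left hxc, inv_inv]
    calc t' * c⁻¹ * t' = (t'⁻¹ * c * t'⁻¹)⁻¹ := by group
      _ = c := by rw [inv_eq_of_mul_eq_one_right ht'2, hc2, inv_inv]
  have hMab : ∀ x ∈ M, ∀ y ∈ M, x * y = y * x := by
    intro x hx y hy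
    have h : t' * (x * y) * t' = x⁻¹ * y⁻¹ := by
      calc t' * (x * y) * t' = t' * x * (t' * t') * y * t' := by rw [ht'2, mul_one]; group
        _ = (t' * x * t') * (t' * y * t') := by group
        _ = x⁻¹ * y⁻¹ := by rw [hMinv x hx, hMinv y hy]
    rw [hMinv _ (mul_mem hx hy), mul_inv_rev] at h
    calc x * y = (y⁻¹ * x⁻¹)⁻¹ := by group
      _ = (x⁻¹ * y⁻¹)⁻¹ := by rw [h]
      _ = y * x := by group
  have hYM : Y ≤ M := by
    intro y hy
    have hyD : y ∈ D := hDodd' y (mem_centralizer_singleton_iff.2 (by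
      calc y * z = z * y * z⁻¹ * z := by rw [hzY y hy]
        _ = z * y := by group)) m hmodd (hypow y hy)
    refine (hMmemG y).2 ⟨hyD, orderOf_dvd_iff_pow_eq_one.1 ?_⟩
    have h1 : orderOf y ∣ Nat.card D := by
      rw [← Subgroup.orderOf_mk y hyD]; exact orderOf_dvd_natCard _
    rw [← M'.card_mul_index, hMidx, ← he] at h1
    obtain ⟨f, hf⟩ := hs.qpow
    exact (Nat.Coprime.coprime_dvd_left (orderOf_dvd_of_pow_eq_one (hypow y hy))
      (hf ▸ hm3.pow_right f : Nat.Coprime m q)).dvd_of_dvd_mul_right h1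
  have hMY : M ≤ Y := by
    intro x hx
    have hxL : x ∈ L := mem_centralizer_iff.2 fun y hy => hMab y (hYM hy) x hx
    have h6 : Nat.Coprime e 6 := by
      rw [show 6 = 2 * 3 from rfl]
      refine Nat.Coprime.mul_right (Nat.coprime_two_right.2 ?_) hcop
      obtain ⟨d, hd⟩ := card_dvd_of_le hMD
      rw [hMcard] at hd
      exact (Nat.odd_mul.1 (hd ▸ hDodd)).1
    refine (hπ1 ⟨x, hxL⟩).1 (hB _ e h6 ?_)
    rw [← map_pow, show (⟨x, hxL⟩ : L) ^ e = 1 from Subtype.ext (by
      simpa using ((hMmemG x).1 hx).2), map_one]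
  -- `T` normalises `Y`, hence `{t, u, tu}`
  have hTY : ∀ s ∈ T, ∀ y ∈ Y, s * y * s⁻¹ ∈ Y := by
    intro s hs' y hy
    refine hMY ?_
    obtain ⟨r, hr, hry⟩ := hYM hy
    refine ⟨(⟨s, hTD hs'⟩ : D) * r * (⟨s, hTD hs'⟩ : D)⁻¹, hMn.conj_mem r hr _, ?_⟩
    rw [← hry]; rfl
  have hTL : ∀ s ∈ T, ∀ l ∈ L, s * l * s⁻¹ ∈ L := by
    intro s hs' l hl
    refine mem_centralizer_iff.2 fun y hy => ?_
    have h := mem_centralizer_iff.1 hl _ (hTY s⁻¹ (inv_mem hs') y hy)
    rw [inv_inv] at h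
    calc y * (s * l * s⁻¹) = s * (s⁻¹ * y * s * l) * s⁻¹ := by group
      _ = s * (l * (s⁻¹ * y * s)) * s⁻¹ := by rw [h]
      _ = s * l * s⁻¹ * y := by group
  let V : Set G := {t, u, t * u}
  have hV3 : Nat.card V ≤ 3 := by
    rw [Nat.card_coe_set_eq]
    exact (Set.ncard_insert_le _ _).trans (Nat.succ_le_succ
      ((Set.ncard_insert_le _ _).trans (by rw [Set.ncard_singleton])))
  have htV : ∀ v : G, v ∈ L → v * v = 1 → v ≠ 1 → ∀ s ∈ T, s * v * s⁻¹ ∈ V := by
    intro v hvL hv2 hv1 s hs'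
    rcases hinvL _ (hTL s hs' v hvL) (by
      calc s * v * s⁻¹ * (s * v * s⁻¹) = s * (v * v) * s⁻¹ := by group
        _ = 1 := by rw [hv2, mul_one, mul_inv_cancel]) with h | h | h | h
    · exact absurd (conj_eq_one_iff.1 h) hv1
    · exact Or.inl h
    · exact Or.inr (Or.inl h)
    · exact Or.inr (Or.inr h)
  let F : T → V × V := fun s => (⟨_, htV t htL ht2 hs.t_ne s s.2⟩, ⟨_, htV u huL hu2 hu1 s s.2⟩)
  have hF : Function.Injective F := by
    intro s r h
    have h1 : (s : G) * t * (s : G)⁻¹ = r * t * (r : G)⁻¹ :=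
      congrArg (fun x : V × V => (x.1 : G)) h
    have h2 : (s : G) * u * (s : G)⁻¹ = r * u * (r : G)⁻¹ :=
      congrArg (fun x : V × V => (x.2 : G)) h
    set w := (r : G)⁻¹ * s with hw
    have hwt : w * t = t * w := by
      calc w * t = (r : G)⁻¹ * ((s : G) * t * (s : G)⁻¹) * s := by rw [hw]; group
        _ = t * w := by rw [h1, hw]; group
    have hwu : w * u = u * w := by
      calc w * u = (r : G)⁻¹ * ((s : G) * u * (s : G)⁻¹) * s := by rw [hw]; group
        _ = u * w := by rw [h2, hw]; group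
    obtain ⟨f, hf⟩ := hs.qpow
    have hwq : w ^ q = 1 := hTpow w (mul_mem (inv_mem r.2) s.2)
    have hcard : orderOf w ∣ 2 * (q + 1) := by
      obtain ⟨U', -, -, -, -, hCc, -, -⟩ := hs.kf.torus ⟨u, hu⟩ (Subtype.ext hu2)
        (fun e => hu1 (congrArg Subtype.val e))
      have hwK : ∃ k : K, k ∈ centralizer ({(⟨u, hu⟩ : K)} : Set K) ∧
          ((k : G) = w ∨ (k : G) = t * w) := by
        rcases hs.split.cover w (mem_centralizer_singleton_iff.2 hwt) with hk | hk
        · exact ⟨⟨w, hk⟩, mem_centralizer_singleton_iff.2 (Subtype.ext hwu), Or.inl rfl⟩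
        · refine ⟨⟨t * w, hk⟩, mem_centralizer_singleton_iff.2 (Subtype.ext ?_), Or.inr rfl⟩
          show t * w * u = u * (t * w)
          rw [mul_assoc, hwu, ← mul_assoc, htu, mul_assoc]
      obtain ⟨k, hkc, hk⟩ := hwK
      have hkp : (k : G) ^ (q + 1) = 1 := by
        have h : (⟨k, hkc⟩ : centralizer ({(⟨u, hu⟩ : K)} : Set K)) ^
            Nat.card (centralizer ({(⟨u, hu⟩ : K)} : Set K)) = 1 := pow_card_eq_one'
        rw [hCc] at h
        simpa using congrArg (fun r => ((r.1 : K) : G)) h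
      refine orderOf_dvd_of_pow_eq_one ?_
      rcases hk with hk | hk <;> rw [hk] at hkp
      · rw [mul_comm, pow_mul, hkp, one_pow]
      · rw [(show Commute t w from hwt.symm).mul_pow] at hkp
        have ht2' : t ^ 2 = 1 := by rw [pow_two, ht2]
        calc w ^ (2 * (q + 1)) = (t ^ (q + 1) * w ^ (q + 1)) ^ 2 := by
              rw [((show Commute t w from hwt.symm).pow_pow _ _).mul_pow, ← pow_mul t, mul_comm _ 2,
                pow_mul t, ht2', one_pow, one_mul, ← pow_mul, mul_comm (q + 1)]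
          _ = 1 := by rw [hkp, one_pow]
    have hcop' : Nat.Coprime q (2 * (q + 1)) :=
      Nat.Coprime.mul_right (Nat.coprime_two_right.2 hqodd) (by simp)
    have hw1 := orderOf_eq_one_iff.1 (Nat.eq_one_of_dvd_coprimes hcop'
      (orderOf_dvd_of_pow_eq_one hwq) hcard)
    exact Subtype.ext (inv_mul_eq_one.1 hw1).symm
  have := Nat.card_le_card_of_injective F hF
  rw [Nat.card_prod, hTcard] at this
  have : Nat.card V * Nat.card V ≤ 3 * 3 := Nat.mul_le_mul hV3 hV3
  omega

/-- A group of Ree type has an inverted element of order a power of three. -/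
theorem inverts : Inverts 3 G := by
  classical
  by_cases h3 : 3 ∣ (centralizer ({t} : Set G)).index
  · exact hs.inverts_of_dvd h3
  by_contra hno
  obtain ⟨u, z, hu, hu2, hu1, hzt, hzu, hz3⟩ := hs.exists_z
  obtain ⟨Y, hY⟩ := hs.exists_Y hu hu2 hu1
  have htu : t * u = u * t := hs.tK hu
  have hYK : Y ≤ K := fun y hy => (hY.ysplit.le hy).1
  have hz4 : z * (t * u) * z⁻¹ = t := by
    calc z * (t * u) * z⁻¹ = (z * t * z⁻¹) * (z * u * z⁻¹) := by group
      _ = u * (t * u) := by rw [hzt, hzu]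
      _ = t := by rw [← mul_assoc, ← htu, mul_assoc, hu2, mul_one]
  have hzY : ∀ y ∈ Y, z * y * z⁻¹ ∈ Y := by
    intro y hy
    have hyu : u * y = y * u := hY.ysplit.comm y hy
    have hyt : t * y = y * t := hs.tK (hYK hy)
    refine hY.mem _ ?_ ?_ ?_
    · calc z * y * z⁻¹ * t = z * y * z⁻¹ * (z * (t * u) * z⁻¹) := by rw [hz4]
        _ = z * (y * t * u) * z⁻¹ := by group
        _ = z * (t * u * y) * z⁻¹ := by rw [← hyt, mul_assoc t y u, ← hyu, ← mul_assoc t u y]
        _ = z * (t * u) * z⁻¹ * (z * y * z⁻¹) := by group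
        _ = t * (z * y * z⁻¹) := by rw [hz4]
    · calc z * y * z⁻¹ * u = z * y * z⁻¹ * (z * t * z⁻¹) := by rw [hzt]
        _ = z * (y * t) * z⁻¹ := by group
        _ = z * (t * y) * z⁻¹ := by rw [hyt]
        _ = z * t * z⁻¹ * (z * y * z⁻¹) := by group
        _ = u * (z * y * z⁻¹) := by rw [hzt]
    · have h : (⟨y, hy⟩ : Y) ^ Nat.card Y = 1 := pow_card_eq_one'
      have h' : y ^ Nat.card Y = 1 :=
        (SubmonoidClass.coe_pow (⟨y, hy⟩ : Y) _).symm.trans (congrArg Subtype.val h)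
      rw [conj_pow, h', mul_one, mul_inv_cancel]
  by_cases hcent : ∀ y ∈ Y, z * y * z⁻¹ = y
  · exact hs.false_of_centralizing hno h3 hu hu2 hu1 hzt hzu hz3 hY hcent
  push Not at hcent
  obtain ⟨g0, hgen⟩ := hs.kf.gen
  have hh : ReeHyp t u z K Y q :=
    { tsplit := hs.split
      ysplit := hY.ysplit
      two_le := by have := hs.q_ge; omega
      three_dvd := hs.three_dvd
      cardK := hs.kf.card_eq
      conj_t := hs.conj_t
      cardInv := hs.kf.card_inv
      card3 := hs.kf.card3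
      cardY := hY.cardY
      oddY := hY.oddY
      cyclicY := hY.cyclicY
      conj_y := hY.conj_y
      cent_y := hY.cent_y
      inv_card := hY.inv_card
      inv_sq := hY.inv_sq
      no_inv := fun k hk hk3 i hi hi2 he =>
        hs.kf.no_inv ⟨k, hk⟩ (by rw [← orderOf_submonoid]; exact hk3) ⟨i, hi⟩ (Subtype.ext hi2)
          (Subtype.ext he)
      zt := hzt
      zu := hzu
      z3 := hz3
      zY := hzY
      zne := hcent
      gen := ⟨g0, hgen⟩ }
  exact hh.not_coprime (hs.coprime_of_not_three_dvd h3)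

end RS

/-- The local data of a group of Ree type. -/
theorem exists_rs [Finite G] (hG : Cfsg.IsReeType G) :
    ∃ (t : G) (K : Subgroup G) (q : ℕ), RS t K q := by
  obtain ⟨hsimple, hna, t, K, n, hn, ht, hodd, ⟨-, hK, hcomm, hinf, hsup⟩, F, _, _, hF, ⟨e⟩⟩ := hG
  classical
  set q := 3 ^ (2 * n + 1) with hq
  haveI : Fact (Nat.Prime 3) := ⟨Nat.prime_three⟩
  haveI : CharP F 3 := by
    obtain ⟨p, hp⟩ := CharP.exists F
    obtain ⟨r, hpp, hpr⟩ := FiniteField.card F p
    rw [hF] at hpr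
    have : p = 3 := (Nat.prime_dvd_prime_iff_eq hpp Nat.prime_three).1
      (hpp.dvd_of_dvd_pow (hpr ▸ dvd_pow_self p r.ne_zero))
    exact this ▸ hp
  have h8 : q % 8 = 3 := by
    rw [hq, pow_succ, pow_mul, Nat.mul_mod, Nat.pow_mod]
    norm_num
  have hm : Fintype.card F % 4 = 3 := by rw [hF]; omega
  have kf : KFacts K q := by
    rw [← hF]
    exact (kfacts_P2 (F := F) hm).of_mulEquiv e.symm
  have ht2 : t * t = 1 := by
    rw [← pow_two, ← ht]; exact pow_orderOf_eq_one t
  have ht1 : t ≠ 1 := fun h => by rw [h, orderOf_one] at ht; norm_num at ht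
  have hti : t⁻¹ = t := inv_eq_of_mul_eq_one_right ht2
  have hc : ∀ k ∈ K, t * k = k * t := fun k hk => hcomm t (mem_zpowers t) k hk
  refine ⟨t, K, q, ⟨hsimple, hna, ⟨hK, mem_centralizer_singleton_iff.2 rfl, fun h => ?_, ht2, hc,
    ?_⟩, hodd, kf, ⟨_, hq⟩, h8, ?_⟩⟩
  · have : t ∈ zpowers t ⊓ K := ⟨mem_zpowers t, h⟩
    rw [hinf, mem_bot] at this
    exact ht1 this
  · intro d hd
    rw [← hsup, sup_eq_closure] at hd
    induction hd using Subgroup.closure_induction with
    | mem x hx =>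
      rcases hx with hx | hx
      · obtain ⟨k, rfl⟩ := mem_zpowers_iff.1 hx
        rcases Int.even_or_odd k with ⟨r, rfl⟩ | ⟨r, rfl⟩
        · left
          rw [← two_mul, zpow_mul, zpow_two, ht2, one_zpow]; exact one_mem _
        · right
          rw [zpow_add, zpow_one, zpow_mul, zpow_two, ht2, one_zpow, one_mul, ht2]; exact one_mem _
      · exact Or.inl hx
    | one => exact Or.inl (one_mem _)
    | mul x y hx hy ihx ihy =>
      rcases ihx with a | a <;> rcases ihy with b | b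
      · exact Or.inl (mul_mem a b)
      · right; rw [← mul_assoc, hc x a, mul_assoc]; exact mul_mem a b
      · right; rw [← mul_assoc]; exact mul_mem a b
      · left
        have e1 : x * y = (t * x) * (t * y) := by
          have e2 : x * t = t * x := by
            calc x * t = t * (t * x) * t := by rw [← mul_assoc, ht2, one_mul]
              _ = t * (t * (t * x)) := by rw [mul_assoc t (t * x) t, ← hc _ a]
              _ = t * x := by rw [← mul_assoc t t, ht2, one_mul]
          calc x * y = t * t * (x * y) := by rw [ht2, one_mul]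
            _ = t * (t * x) * y := by group
            _ = t * (x * t) * y := by rw [e2]
            _ = (t * x) * (t * y) := by group
        rw [e1]; exact mul_mem a b
    | inv x hx ihx =>
      rcases ihx with a | a
      · exact Or.inl (inv_mem a)
      · right
        have h := inv_mem a
        rw [mul_inv_rev, hti] at h
        have h' := hc _ h
        rw [mul_assoc x⁻¹ t t, ht2, mul_one] at h'
        have e2 : t * x⁻¹ = x⁻¹ * t := by
          calc t * x⁻¹ = t * (t * (x⁻¹ * t)) := by rw [h']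
            _ = x⁻¹ * t := by rw [← mul_assoc, ht2, one_mul]
        rw [e2]; exact h
  · calc (27 : ℕ) = 3 ^ 3 := by norm_num
      _ ≤ q := Nat.pow_le_pow_right (by norm_num) (by omega)

/-- A group of Ree type involves the symmetric group of degree three. -/
theorem involves_three_of_ree [Finite G] (hG : Cfsg.IsReeType G) :
    Cfsg.Involves (Equiv.Perm (Fin 3)) G := by
  obtain ⟨t, K, q, hs⟩ := exists_rs hG
  exact CfsgLib.ZJ.involves_perm_three_iff.2 hs.inverts

end CfsgLib.GoldFree
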