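import Cfsg.Agent.GoldschmidtFree.Families
import Cfsg.Agent.GoldschmidtFree.Ree
import Cfsg.Agent.Suzuki.LieModel
import Cfsg.Agent.J1Orders.Main
import Cfsg.Agent.S2131
import Cfsg.Prelude.Def_LocalEven

/-!
# `S₄` and `S₃` sections of the Goldschmidt groups
-/

set_option autoImplicit false
set_option linter.unusedSectionVars false
set_option linter.style.haveILetI false

namespace CfsgLib.GoldFree

open Subgroup CfsgLib.ZJ

variable {G : Type*} [Group G] [Finite G]

theorem inverts_of_injective {A B : Type*} [Group A] [Group B] {p : ℕ} (f : A →* B)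
    (hf : Function.Injective f) (h : Inverts p A) : Inverts p B := by
  obtain ⟨g, x, hx, ⟨k, hk⟩, hgx⟩ := h
  exact ⟨f g, f x, fun e => hx (hf (e.trans (map_one f).symm)),
    ⟨k, by rw [← map_pow, hk, map_one]⟩, by rw [← map_inv, ← map_mul, ← map_mul, hgx, map_inv]⟩

theorem not_involves_three_iff : ¬ Cfsg.Involves (Equiv.Perm (Fin 3)) G ↔ ¬ Inverts 3 G :=
  not_congr involves_perm_three_iff

theorem not_involves_four_of_not_dvd (h : ¬ 3 ∣ Nat.card G) :
    ¬ Cfsg.Involves (Equiv.Perm (Fin 4)) G := by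
  intro hinv
  obtain ⟨K, f, hf⟩ := exists_surjective_of_involves hinv
  refine h ((?_ : 3 ∣ Nat.card K).trans (Subgroup.card_subgroup_dvd_card K))
  refine Dvd.dvd.trans ?_ (Subgroup.card_dvd_of_surjective f hf)
  rw [Nat.card_perm, Nat.card_fin]
  decide

theorem not_three_dvd_of_isoSuzuki (h : Cfsg.Lie.IsoSuzuki G) : ¬ 3 ∣ Nat.card G := by
  obtain ⟨F, _, _, m, hm, hF, ⟨e⟩⟩ := h
  have hz := CfsgLib.Suzuki.isSzField_of_card hm hF
  rw [Nat.card_congr e.toEquiv, ← Nat.card_congr (CfsgLib.Suzuki.lieEquiv hz).toEquiv,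
    CfsgLib.Suzuki.card_Sz hz, hz.card]
  have h4 : 2 ^ (2 * m + 1) % 3 = 2 := by
    rw [pow_succ, pow_mul, Nat.mul_mod, Nat.pow_mod]; norm_num
  have h1 : 1 ≤ 2 ^ (2 * m + 1) := Nat.one_le_two_pow
  intro hd
  rcases (Nat.prime_three.dvd_mul).1 hd with hd | hd
  · rcases (Nat.prime_three.dvd_mul).1 hd with hd | hd
    · have := Nat.prime_three.dvd_of_dvd_pow hd; omega
    · have := Nat.mod_eq_zero_of_dvd hd
      rw [Nat.add_mod, Nat.pow_mod, h4] at this
      norm_num at this
  · omega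

/-- No inverted element of order three in `PSL₂(3^odd)`. -/
theorem not_inverts_psl_three_odd {F : Type} [Field F] [Fintype F] {n : ℕ}
    (hF : Fintype.card F = 3 ^ (2 * n + 1))
    (e : G ≃* Matrix.ProjectiveSpecialLinearGroup (Fin 2) F) : ¬ Inverts 3 G := by
  classical
  have hodd : Odd (Fintype.card F) := by
    rw [hF]; exact (by decide : Odd 3).pow
  have hm : Fintype.card F % 4 = 3 := by
    rw [hF, pow_succ, pow_mul, Nat.mul_mod, Nat.pow_mod]; norm_num
  haveI : Fact (Nat.Prime 3) := ⟨Nat.prime_three⟩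
  haveI : CharP F 3 := charP_of_card_eq_prime_pow (f := 2 * n + 1) hF
  exact fun h => not_inverts_of_kfacts (kfacts_P2 hm) hodd (inverts_of_mulEquiv e h)

theorem not_involves_three_of_pred (h : Cfsg.IsSuzukiOrPSL2OddPowerThree G) :
    ¬ Cfsg.Involves (Equiv.Perm (Fin 3)) G := by
  rw [not_involves_three_iff]
  rcases h with h | ⟨F, _, _, n, hF, ⟨e⟩⟩
  · exact not_inverts_of_not_dvd (not_three_dvd_of_isoSuzuki h)
  · exact not_inverts_psl_three_odd hF e

theorem goldschmidt (hG : Cfsg.IsGoldschmidtGroup G) :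
    ¬ Cfsg.Involves (Equiv.Perm (Fin 4)) G ∧
      (Inverts 3 G ∨ Cfsg.IsSuzukiOrPSL2OddPowerThree G) := by
  rcases hG with h | ⟨F, _, _, n, hn, hF, ⟨e⟩⟩ | h | ⟨F, _, _, n, hn, hF, ⟨e⟩⟩ |
    ⟨F, _, _, q, hF, hq5, hq8, ⟨e⟩⟩ | ⟨⟨e⟩⟩
  · obtain ⟨t, K, q, hs⟩ := exists_rs h
    refine ⟨not_involves_four_of_orders fun g hg => ?_, Or.inl hs.inverts⟩
    haveI : Fact (Nat.Prime 2) := ⟨Nat.prime_two⟩
    have hP : IsPGroup 2 (zpowers g) := IsPGroup.of_card (n := 2) (by rw [Nat.card_zpowers, hg]; norm_num)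
    have := hs.two_group_sq hP (mem_zpowers g)
    have := orderOf_dvd_of_pow_eq_one ((pow_two g).trans this)
    rw [hg] at this
    norm_num at this
  · have hev : Even (Fintype.card F) := by
      rw [hF]; exact (by decide : Even 2).pow_of_ne_zero (by omega)
    refine ⟨not_involves_four_of_orders fun g hg => psl_two_orders (Or.inl hev) (e g)
      (by rw [e.orderOf_eq, hg]), Or.inl (inverts_of_mulEquiv e.symm (psl_two_inverts ?_))⟩
    haveI : Fact (Nat.Prime 2) := ⟨Nat.prime_two⟩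
    haveI : CharP F 2 := charP_of_card_eq_prime_pow (f := n) hF
    rw [show (3 : F) = 2 + 1 by norm_num, CharTwo.two_eq_zero, zero_add]
    exact one_ne_zero
  · exact ⟨not_involves_four_of_not_dvd (not_three_dvd_of_isoSuzuki h), Or.inr (Or.inl h)⟩
  · haveI : Fact (Nat.Prime 2) := ⟨Nat.prime_two⟩
    haveI : CharP F 2 := charP_of_card_eq_prime_pow (f := 2 * n) (by rw [hF, pow_mul]; norm_num)
    have hF' : Fintype.card F = (2 ^ n) ^ 2 := by
      rw [hF, ← pow_mul, mul_comm n 2, pow_mul]; norm_num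
    exact ⟨fun h => psu_three_not_involves_four hF'
        (CfsgLib.QdUnitary.not_involves_of_surjective e.symm.toMonoidHom e.symm.surjective h),
      Or.inl (inverts_of_mulEquiv e.symm (psu_three_inverts CharTwo.two_eq_zero _))⟩
  · refine ⟨not_involves_four_of_orders fun g hg => psl_two_orders
      (Or.inr (hF ▸ hq8)) (e g) (by rw [e.orderOf_eq, hg]), ?_⟩
    by_cases h3 : (3 : F) = 0
    · right; right
      haveI : Fact (Nat.Prime 3) := ⟨Nat.prime_three⟩
      haveI : CharP F 3 := (CharP.charP_iff_prime_eq_zero Nat.prime_three).2 h3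
      obtain ⟨r, -, hr⟩ := FiniteField.card F 3
      rcases Nat.even_or_odd' (r : ℕ) with ⟨b, hb | hb⟩
      · exfalso
        rw [hF, hb, pow_mul] at hr
        have : q % 8 = 1 := by rw [hr, Nat.pow_mod]; norm_num
        omega
      · exact ⟨F, inferInstance, inferInstance, b, by rw [hr, hb], ⟨e⟩⟩
    · exact Or.inl (inverts_of_mulEquiv e.symm (psl_two_inverts h3))
  · refine ⟨not_involves_four_of_orders fun g hg => ?_, Or.inl ?_⟩
    · have := CfsgLib.J1Orders.orderOf_mem (e g).2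
      rw [orderOf_submonoid, e.orderOf_eq, hg] at this
      simp at this
    · obtain ⟨t, -, ⟨f⟩⟩ := Cfsg.Agent.S2131.result
      exact inverts_of_mulEquiv e.symm (Inverts.of_subgroup (inverts_of_mulEquiv f.symm
        (inverts_of_injective (MonoidHom.inr (Multiplicative (ZMod 2)) _)
          (fun a b h => congrArg Prod.snd h) inverts_altFive)))

end CfsgLib.GoldFree
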