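import Cfsg.Agent.GoldschmidtFree.Split
import Cfsg.Agent.Char.Induction
import Cfsg.Agent.Char.ClassProducts
import Cfsg.Agent.Char.NormTwo
import Mathlib.GroupTheory.SpecificGroups.Cyclic
import Mathlib.RingTheory.RootsOfUnity.Complex
import Mathlib.RingTheory.IntegralDomain

/-!
# A group with involution centraliser `2 × PSL₂(q)`: the exceptional character argument

Under the hypotheses `ReeHyp` (the case where a four group's fusing element moves the torus) a
generalised character of norm two contradicts `gcd(|G : C(t)|, q) = 1`.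
-/

set_option autoImplicit false
set_option linter.unusedSectionVars false

namespace CfsgLib.GoldFree

open scoped ComplexConjugate Classical
open Subgroup CfsgLib.Char

universe u

variable {G : Type u} [Group G]

/-- The local data used by the character argument. -/
structure ReeHyp (t u z : G) (K Y : Subgroup G) (q : ℕ) : Prop where
  tsplit : TwoSplit t K (centralizer {t})
  ysplit : TwoSplit u Y (K ⊓ centralizer (Y : Set G))
  two_le : 2 ≤ q
  three_dvd : 3 ∣ q
  cardK : 2 * Nat.card K + q = q ^ 3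
  conj_t : ∀ i : G, i * i = 1 → i ≠ 1 → IsConj t i
  cardInv : 2 * Nat.card {k : K // k * k = 1 ∧ k ≠ 1} + q = q ^ 2
  card3 : Nat.card {k : K // orderOf k = 3} + 1 = q ^ 2
  cardY : 4 * Nat.card Y = q + 1
  oddY : Odd (Nat.card Y)
  cyclicY : IsCyclic Y
  conj_y : ∀ y ∈ Y, ∀ k ∈ K, k * y * k⁻¹ ∈ Y → k * y * k⁻¹ = y ∨ k * y * k⁻¹ = y⁻¹
  cent_y : ∀ y ∈ Y, y ≠ 1 → ∀ k ∈ K, k * y * k⁻¹ = y → k ∈ K ⊓ centralizer (Y : Set G)
  inv_card : ∀ y ∈ Y, y ≠ 1 → 2 * Nat.card {k : K // (k : G) * y * (k : G)⁻¹ = y⁻¹} = q + 1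
  inv_sq : ∀ y ∈ Y, y ≠ 1 → ∀ k ∈ K, k * y * k⁻¹ = y⁻¹ → k * k = 1
  no_inv : ∀ k ∈ K, orderOf k = 3 → ∀ i ∈ K, i * i = 1 → i * k * i ≠ k⁻¹
  zt : z * t * z⁻¹ = u
  zu : z * u * z⁻¹ = t * u
  z3 : z ^ 3 = 1
  zY : ∀ y ∈ Y, z * y * z⁻¹ ∈ Y
  zne : ∃ y ∈ Y, z * y * z⁻¹ ≠ y
  gen : ∃ g0 : K → ℂ, Cfsg.IsGeneralizedCharacter K g0 ∧ g0 1 = (q : ℂ) ^ 2 - 1 ∧
    (∀ k, orderOf k = 3 → g0 k = -1) ∧ ∀ k, k ≠ 1 → orderOf k ≠ 3 → g0 k = 0

/-- The number of ways to write `g` as a product of two conjugates of `t`. -/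
noncomputable def prods (t g : G) : ℕ :=
  Nat.card {p : G × G // IsConj t p.1 ∧ IsConj t p.2 ∧ p.1 * p.2 = g}

namespace ReeHyp

variable {t u z : G} {K Y : Subgroup G} {q : ℕ} (hh : ReeHyp t u z K Y q)

include hh

theorem t_sq : t * t = 1 := hh.tsplit.sq

theorem t_ne : t ≠ 1 := fun e => hh.tsplit.notMem (e ▸ one_mem K)

theorem u_ne : u ≠ 1 := fun e => hh.ysplit.notMem (e ▸ one_mem Y)

theorem u_mem : u ∈ K := hh.ysplit.mem.1

theorem u_sq : u * u = 1 := hh.ysplit.sq

theorem Y_le : Y ≤ K := fun _ hy => (hh.ysplit.le hy).1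

theorem K_le : K ≤ centralizer {t} := hh.tsplit.le

theorem t_comm_K {k : G} (hk : k ∈ K) : t * k = k * t := hh.tsplit.comm k hk

theorem Y_comm {a b : G} (ha : a ∈ Y) (hb : b ∈ Y) : a * b = b * a :=
  (mem_centralizer_iff.1 (hh.ysplit.le ha).2 b hb).symm

theorem t_mem_centY : t ∈ centralizer (Y : Set G) :=
  mem_centralizer_iff.2 fun y hy => (hh.t_comm_K (hh.Y_le hy)).symm

/-- The group `W = ⟨t, u⟩ × Y`. -/
theorem wsplit : TwoSplit t (K ⊓ centralizer (Y : Set G))
    (centralizer {t} ⊓ centralizer (Y : Set G)) where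
  le := inf_le_inf_right _ hh.K_le
  mem := ⟨hh.tsplit.mem, hh.t_mem_centY⟩
  notMem h := hh.tsplit.notMem h.1
  sq := hh.t_sq
  comm h hm := hh.t_comm_K hm.1
  cover d hd := (hh.tsplit.cover d hd.1).imp (fun h => ⟨h, hd.2⟩)
    fun h => ⟨h, mul_mem hh.t_mem_centY hd.2⟩

theorem pow_card_eq {y : G} (hy : y ∈ Y) : y ^ Nat.card Y = 1 := by
  have h : (⟨y, hy⟩ : Y) ^ Nat.card Y = 1 := pow_card_eq_one'
  exact (SubmonoidClass.coe_pow (⟨y, hy⟩ : Y) _).symm.trans (congrArg Subtype.val h)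

theorem coprime_six : Nat.Coprime (Nat.card Y) 6 := by
  obtain ⟨a, ha⟩ := hh.three_dvd
  obtain ⟨b, hb⟩ := hh.oddY
  have h := hh.cardY
  rw [show (6 : ℕ) = 2 * 3 from rfl, Nat.coprime_mul_iff_right]
  constructor
  · exact (Nat.prime_two.coprime_iff_not_dvd.2 (by omega)).symm
  · exact ((Nat.prime_three).coprime_iff_not_dvd.2 (by omega)).symm

theorem eq_one_of_pow_six {y : G} (hy : y ∈ Y) (h : y ^ 6 = 1) : y = 1 := by
  have h1 := Nat.Coprime.eq_one_of_dvd (Nat.Coprime.coprime_dvd_left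
    (orderOf_dvd_of_pow_eq_one (hh.pow_card_eq hy)) hh.coprime_six) (orderOf_dvd_of_pow_eq_one h)
  exact orderOf_eq_one_iff.1 h1

theorem eq_one_of_sq {y : G} (hy : y ∈ Y) (h : y * y = 1) : y = 1 :=
  hh.eq_one_of_pow_six hy (by rw [show 6 = 2 * 3 from rfl, pow_mul, pow_two, h, one_pow])

theorem pow_odd {a : G} (ha : a * a = 1) : a ^ Nat.card Y = a := by
  obtain ⟨b, hb⟩ := hh.oddY
  rw [hb, pow_succ, pow_mul, pow_two, ha, one_pow, one_mul]

theorem pow_mul_self {a y : G} (ha : a * a = 1) (hay : a * y = y * a) (hy : y ∈ Y) :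
    (a * y) ^ Nat.card Y = a := by
  rw [Commute.mul_pow hay, hh.pow_odd ha, hh.pow_card_eq hy, mul_one]

theorem tu_sq : t * u * (t * u) = 1 := by
  calc t * u * (t * u) = t * u * (u * t) := by rw [← hh.t_comm_K hh.u_mem]
    _ = t * (u * u) * t := by group
    _ = 1 := by rw [hh.u_sq, mul_one, hh.t_sq]

theorem u_comm {y : G} (hy : y ∈ Y) : u * y = y * u := hh.ysplit.comm y hy

theorem tu_comm {y : G} (hy : y ∈ Y) : t * u * y = y * (t * u) := by
  rw [mul_assoc, hh.u_comm hy, ← mul_assoc, hh.t_comm_K (hh.Y_le hy), mul_assoc]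

theorem t_ne_u : t ≠ u := fun e => hh.tsplit.notMem (e ▸ hh.u_mem)

theorem t_ne_tu : t ≠ t * u := fun e => hh.u_ne (left_eq_mul.1 e)

theorem u_ne_tu : u ≠ t * u := fun e => hh.t_ne (right_eq_mul.1 e)

theorem zzz (g : G) : z * (z * (z * g * z⁻¹) * z⁻¹) * z⁻¹ = g := by
  have h : z * z * z = 1 := by rw [← hh.z3, pow_succ, pow_two]
  calc z * (z * (z * g * z⁻¹) * z⁻¹) * z⁻¹ = (z * z * z) * g * (z * z * z)⁻¹ := by group
    _ = g := by rw [h, one_mul, inv_one, mul_one]

theorem z_tu : z * (t * u) * z⁻¹ = t := by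
  have := hh.zzz t
  rwa [hh.zt, hh.zu] at this

/-- Conjugation by `z` on `Y`. -/
def rho : Y →* Y where
  toFun y := ⟨z * y * z⁻¹, hh.zY y y.2⟩
  map_one' := Subtype.ext (by simp)
  map_mul' a b := Subtype.ext (show z * ((a : G) * b) * z⁻¹ = _ by
    simp only [Subgroup.coe_mul]; group)

theorem rho_cube (y : Y) : hh.rho (hh.rho (hh.rho y)) = y := Subtype.ext (hh.zzz y)

theorem rho_bijective : Function.Bijective hh.rho :=
  ⟨fun a b e => by rw [← hh.rho_cube a, e, hh.rho_cube],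
    fun b => ⟨hh.rho (hh.rho b), hh.rho_cube b⟩⟩

section chars

variable (ω : Y →* ℂˣ)

/-- `ω ∘ ρ`. -/
def wa : Y →* ℂˣ := ω.comp hh.rho

/-- `ω ∘ ρ²`. -/
def wb : Y →* ℂˣ := ω.comp (hh.rho.comp hh.rho)

/-- The functional representing the induced function. -/
noncomputable def phi (y : Y) : ℂ := -2 * ((hh.wa ω y : ℂ) + hh.wb ω y)

theorem phi_one : hh.phi ω 1 = -4 := by
  simp [phi]; norm_num

variable {ω}

theorem wa_mul_wb_ne (hω : Function.Injective ω) : hh.wa ω * hh.wb ω ≠ 1 := by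
  intro h
  obtain ⟨y, hy, hne⟩ := hh.zne
  have hinv : ∀ a : Y, hh.rho a = a⁻¹ := fun a => by
    have h1 := DFunLike.congr_fun h (hh.rho (hh.rho a))
    simp only [MonoidHom.mul_apply, wa, wb, MonoidHom.comp_apply, MonoidHom.one_apply,
      hh.rho_cube, ← map_mul] at h1
    have h2 : a * hh.rho a = 1 := hω (h1.trans (map_one ω).symm)
    exact (inv_eq_of_mul_eq_one_right h2).symm
  have h3 := hh.rho_cube ⟨y, hy⟩
  rw [hinv, hinv, hinv, inv_inv] at h3
  have h4 : (⟨y, hy⟩ : Y) * ⟨y, hy⟩ = 1 := inv_eq_iff_mul_eq_one.1 h3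
  have h5 := hh.eq_one_of_sq hy (congrArg Subtype.val h4)
  exact hne (by rw [h5, mul_one, mul_inv_cancel])

theorem wa_ne_wb (hω : Function.Injective ω) : hh.wa ω ≠ hh.wb ω := by
  intro h
  obtain ⟨y, hy, hne⟩ := hh.zne
  have h0 := DFunLike.congr_fun h (hh.rho (hh.rho ⟨y, hy⟩))
  simp only [wa, wb, MonoidHom.comp_apply, hh.rho_cube] at h0
  have h2 : (⟨y, hy⟩ : Y) = hh.rho ⟨y, hy⟩ := hω h0
  exact hne (congrArg Subtype.val h2).symm

theorem sq_ne_one (hω : Function.Injective ω) {f : Y →* Y} (hf : Function.Injective f) :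
    ω.comp f * ω.comp f ≠ 1 := by
  intro h
  obtain ⟨y, hy, hne⟩ := hh.zne
  have h1 := DFunLike.congr_fun h ⟨y, hy⟩
  simp only [MonoidHom.mul_apply, MonoidHom.comp_apply, MonoidHom.one_apply, ← map_mul] at h1
  have h2 : (⟨y, hy⟩ : Y) * ⟨y, hy⟩ = 1 := hf ((hω (h1.trans (map_one ω).symm)).trans (map_one f).symm)
  have h5 := hh.eq_one_of_sq hy (congrArg Subtype.val h2)
  exact hne (by rw [h5, mul_one, mul_inv_cancel])

theorem sum_hom [Fintype Y] {f : Y →* ℂˣ} (hf : f ≠ 1) : ∑ y, (f y : ℂ) = 0 := by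
  have h : (Units.coeHom ℂ).comp f ≠ 1 := fun e =>
    hf (MonoidHom.ext fun y => Units.ext (DFunLike.congr_fun e y))
  exact sum_hom_units_eq_zero _ h

theorem sum_phi [Fintype Y] (hω : Function.Injective ω) : ∑ y, hh.phi ω y = 0 := by
  have ha : hh.wa ω ≠ 1 := fun e => hh.sq_ne_one hω hh.rho_bijective.1 (by
    have : ω.comp hh.rho = 1 := e
    rw [this]; exact one_mul (1 : Y →* ℂˣ))
  have hb : hh.wb ω ≠ 1 := fun e => hh.sq_ne_one (f := hh.rho.comp hh.rho) hω
    (hh.rho_bijective.1.comp hh.rho_bijective.1) (by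
    have : ω.comp (hh.rho.comp hh.rho) = 1 := e
    rw [this]; exact one_mul (1 : Y →* ℂˣ))
  simp only [phi, ← Finset.mul_sum, Finset.sum_add_distrib, hh.sum_hom ha, hh.sum_hom hb]
  ring

theorem sum_phi_sq [Fintype Y] (hω : Function.Injective ω) :
    ∑ y, hh.phi ω y * hh.phi ω y = 0 := by
  have e : ∀ y, hh.phi ω y * hh.phi ω y = 4 * (((hh.wa ω * hh.wa ω) y : ℂˣ) : ℂ) +
      8 * (((hh.wa ω * hh.wb ω) y : ℂˣ) : ℂ) + 4 * (((hh.wb ω * hh.wb ω) y : ℂˣ) : ℂ) := fun y => by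
    simp only [phi, MonoidHom.mul_apply, Units.val_mul]; ring
  simp only [e, Finset.sum_add_distrib, ← Finset.mul_sum]
  have n1 : hh.wa ω * hh.wa ω ≠ 1 := hh.sq_ne_one hω hh.rho_bijective.1
  have n2 : hh.wb ω * hh.wb ω ≠ 1 :=
    hh.sq_ne_one (f := hh.rho.comp hh.rho) hω (hh.rho_bijective.1.comp hh.rho_bijective.1)
  rw [hh.sum_hom n1, hh.sum_hom (hh.wa_mul_wb_ne hω), hh.sum_hom n2]
  ring

theorem sum_phi_inv [Fintype Y] (hω : Function.Injective ω) :
    ∑ y, hh.phi ω y * hh.phi ω y⁻¹ = 8 * (Nat.card Y : ℂ) := by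
  have e : ∀ y, hh.phi ω y * hh.phi ω y⁻¹ = 8 + 4 * (((hh.wa ω * (hh.wb ω)⁻¹) y : ℂˣ) : ℂ) +
      4 * (((hh.wb ω * (hh.wa ω)⁻¹) y : ℂˣ) : ℂ) := fun y => by
    simp only [phi, MonoidHom.mul_apply, MonoidHom.inv_apply, Units.val_mul, map_inv,
      Units.val_inv_eq_inv_val]
    field_simp
    ring
  simp only [e, Finset.sum_add_distrib, ← Finset.mul_sum]
  rw [hh.sum_hom (fun h => hh.wa_ne_wb hω (mul_inv_eq_one.1 h)),
    hh.sum_hom (fun h => hh.wa_ne_wb hω (mul_inv_eq_one.1 h).symm)]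
  simp [Nat.card_eq_fintype_card, mul_comm]

theorem conj_phi [Finite G] (ω : Y →* ℂˣ) (y : Y) : conj (hh.phi ω y) = hh.phi ω y⁻¹ := by
  simp only [phi, map_mul, map_add, map_neg, map_ofNat, CfsgLib.Char.conj_eq_inv_hom]

end chars

/-! ### The function induced from `W` -/

/-- The function on `W`. -/
noncomputable def P (ω : Y →* ℂˣ) :
    ↥(centralizer {t} ⊓ centralizer (Y : Set G)) → ℂ := fun w =>
  (1 - (hh.ysplit.sign (hh.wsplit.proj w) : ℂ)) * (1 - (ω (hh.ysplit.proj (hh.wsplit.proj w)) : ℂ)) -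
    (1 + (hh.ysplit.sign (hh.wsplit.proj w) : ℂ)) * (1 - (hh.wsplit.sign w : ℂ))

variable (ω : Y →* ℂˣ)

theorem P_y (y : Y) : hh.P ω (hh.wsplit.incl (hh.ysplit.incl y)) = 0 := by
  simp [P, hh.wsplit.proj_incl, hh.wsplit.sign_incl, hh.ysplit.sign_incl]

theorem P_ty (y : Y) : hh.P ω (hh.wsplit.flip (hh.ysplit.incl y)) = -4 := by
  simp [P, hh.wsplit.proj_flip, hh.wsplit.sign_flip, hh.ysplit.sign_incl]; norm_num

theorem P_uy (y : Y) : hh.P ω (hh.wsplit.incl (hh.ysplit.flip y)) = 2 * (1 - (ω y : ℂ)) := by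
  simp [P, hh.wsplit.proj_incl, hh.wsplit.sign_incl, hh.ysplit.sign_flip, hh.ysplit.proj_flip]
  norm_num

theorem P_tuy (y : Y) : hh.P ω (hh.wsplit.flip (hh.ysplit.flip y)) = 2 * (1 - (ω y : ℂ)) := by
  simp [P, hh.wsplit.proj_flip, hh.ysplit.sign_flip, hh.ysplit.proj_flip]
  norm_num

theorem isGeneralized_P : Cfsg.IsGeneralizedCharacter _ (hh.P ω) := by
  have h1 : ∀ f : ↥(centralizer {t} ⊓ centralizer (Y : Set G)) →* ℂˣ,
      Cfsg.IsGeneralizedCharacter _ (fun w => (f w : ℂ)) := fun f =>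
    IsCharacter.isGeneralized (isCharacter_ofHom f)
  exact IsGeneralized.sub
    (IsGeneralized.mul
      (IsGeneralized.sub isGeneralized_one (h1 (hh.ysplit.sign.comp hh.wsplit.proj)))
      (IsGeneralized.sub isGeneralized_one
        (h1 ((ω.comp hh.ysplit.proj).comp hh.wsplit.proj))))
    (IsGeneralized.mul
      (IsGeneralized.add isGeneralized_one (h1 (hh.ysplit.sign.comp hh.wsplit.proj)))
      (IsGeneralized.sub isGeneralized_one (h1 hh.wsplit.sign)))

theorem card_W [Finite G] :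
    Nat.card ↥(centralizer {t} ⊓ centralizer (Y : Set G)) = q + 1 := by
  rw [hh.wsplit.card_eq, hh.ysplit.card_eq, ← hh.cardY]; ring

theorem card_C [Finite G] : Nat.card (centralizer ({t} : Set G)) + q = q ^ 3 := by
  rw [hh.tsplit.card_eq, hh.cardK]

/-- The function induced from `W`. -/
noncomputable def indW [Fintype G] : G → ℂ := Cfsg.indFun _ (hh.P ω)

/-- Inner products with the function induced from `W`. -/
theorem inner_indW [Fintype G] [Fintype Y] {ψ : G → ℂ} (hψ : Cfsg.IsClassFunction G ψ) :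
    Cfsg.classInner (hh.indW ω) ψ =
      ((q : ℂ) + 1)⁻¹ * ∑ y : Y, hh.phi ω y * conj (ψ (t * y)) := by
  classical
  haveI : Fintype ↥(K ⊓ centralizer (Y : Set G)) := Fintype.ofFinite _
  rw [indW, classInner_indFun _ hψ, classInner_def, hh.card_W, hh.wsplit.sum_eq, hh.ysplit.sum_eq]
  push_cast
  congr 1
  simp only [hh.P_y, hh.P_ty, hh.P_uy, hh.P_tuy, zero_mul, zero_add]
  have e1 : ∀ y : Y, ((hh.wsplit.flip (hh.ysplit.incl y) : ↥(_ : Subgroup G)) : G) = t * y :=
    fun y => rfl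
  have e2 : ∀ y : Y, ((hh.wsplit.incl (hh.ysplit.flip y) : ↥(_ : Subgroup G)) : G) = u * y :=
    fun y => rfl
  have e3 : ∀ y : Y, ((hh.wsplit.flip (hh.ysplit.flip y) : ↥(_ : Subgroup G)) : G) =
      t * (u * y) := fun y => rfl
  simp only [e1, e2, e3, Finset.sum_add_distrib]
  have hu : ∀ y : Y, u * (hh.rho y : G) = z * (t * y) * z⁻¹ := fun y => by
    rw [show ((hh.rho y : Y) : G) = z * y * z⁻¹ from rfl, ← hh.zt]; group
  have hv : ∀ y : Y, t * (u * (hh.rho (hh.rho y) : G)) = z * (z * (t * y) * z⁻¹) * z⁻¹ := fun y => by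
    rw [← hu, show ((hh.rho (hh.rho y) : Y) : G) = z * (hh.rho y : G) * z⁻¹ from rfl, ← mul_assoc,
      ← hh.zu]
    group
  rw [← Fintype.sum_bijective _ hh.rho_bijective _
      (fun y : Y => 2 * (1 - (ω y : ℂ)) * conj (ψ (u * y))) fun _ => rfl,
    ← Fintype.sum_bijective _ (hh.rho_bijective.comp hh.rho_bijective) _
      (fun y : Y => 2 * (1 - (ω y : ℂ)) * conj (ψ (t * (u * y)))) fun _ => rfl]
  simp only [← Finset.sum_add_distrib, Function.comp_apply, hv]
  simp only [hu]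
  refine Finset.sum_congr rfl fun y _ => ?_
  rw [hψ (z * (t * y) * z⁻¹) z, hψ (t * y) z]
  simp only [phi, wa, wb, MonoidHom.comp_apply]
  ring

theorem eq_one_or_of_mem_W {g : G} (hg : g ∈ centralizer {t} ⊓ centralizer (Y : Set G)) :
    ∃ a y : G, y ∈ Y ∧ (a = 1 ∨ a = t ∨ a = u ∨ a = t * u) ∧ g = a * y ∧ a * a = 1 ∧
      a * y = y * a := by
  rcases hh.wsplit.cover g hg with h | h <;> rcases hh.ysplit.cover _ h with h' | h'
  · exact ⟨1, g, h', Or.inl rfl, (one_mul g).symm, one_mul 1, (one_mul g).trans (mul_one g).symm⟩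
  · exact ⟨u, _, h', Or.inr (Or.inr (Or.inl rfl)), (hh.ysplit.cancel g).symm, hh.u_sq,
      hh.u_comm h'⟩
  · exact ⟨t, _, h', Or.inr (Or.inl rfl), (hh.tsplit.cancel g).symm, hh.t_sq,
      hh.t_comm_K (hh.Y_le h')⟩
  · exact ⟨t * u, _, h', Or.inr (Or.inr (Or.inr rfl)), by
      rw [mul_assoc, hh.ysplit.cancel, hh.tsplit.cancel], hh.tu_sq, hh.tu_comm h'⟩

theorem conj_mem_K {c k : G} (hc : c ∈ centralizer {t}) (hk : k ∈ K) : c⁻¹ * k * c ∈ K := by
  rcases hh.tsplit.cover c hc with h | h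
  · exact mul_mem (mul_mem (inv_mem h) hk) h
  · have e : c⁻¹ * k * c = (t * c)⁻¹ * k * (t * c) := by
      calc c⁻¹ * k * c = c⁻¹ * (t⁻¹ * (t * k)) * c := by rw [inv_mul_cancel_left]
        _ = c⁻¹ * (t⁻¹ * (k * t)) * c := by rw [hh.t_comm_K hk]
        _ = (t * c)⁻¹ * k * (t * c) := by group
    rw [e]
    exact mul_mem (mul_mem (inv_mem h) hk) h

theorem mem_Y_of_centralizes {e : G} (he : e ∈ K) (hm : e ^ Nat.card Y = 1)
    (hc : e ∈ centralizer (Y : Set G)) : e ∈ Y := by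
  by_contra h
  have h' := hh.ysplit.mul_mem_of_notMem ⟨he, hc⟩ h
  have := hh.pow_mul_self hh.u_sq (hh.u_comm h') h'
  rw [hh.ysplit.cancel, hm] at this
  exact hh.u_ne this.symm

open Classical in
/-- `phi` extended by zero. -/
noncomputable def Phi (g : G) : ℂ := if h : g ∈ Y then hh.phi ω ⟨g, h⟩ else 0

theorem indW_ty_sum [Fintype G] {y : G} (hy : y ∈ Y) :
    hh.indW ω (t * y) = ((q : ℂ) + 1)⁻¹ *
      ∑ c : ↥(centralizer ({t} : Set G)), hh.Phi ω ((c : G)⁻¹ * y * c) := by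
  classical
  rw [indW, indFun_def, hh.card_W]
  push_cast
  congr 1
  set E := Cfsg.extendByZero (centralizer {t} ⊓ centralizer (Y : Set G)) (hh.P ω) with hE
  set f : G → ℂ := fun x => E (x⁻¹ * (t * y) * x) with hf
  have hsupp : ∀ x, f x ≠ 0 → x⁻¹ * t * x = t ∨ x⁻¹ * t * x = u ∨ x⁻¹ * t * x = t * u := by
    intro x hx
    have hmem : x⁻¹ * (t * y) * x ∈ centralizer {t} ⊓ centralizer (Y : Set G) := by
      by_contra h
      exact hx (extendByZero_of_not_mem _ h)
    obtain ⟨a, y', hy', ha, he, ha2, hay⟩ := hh.eq_one_or_of_mem_W hmem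
    have h1 := congrArg (fun g => g ^ Nat.card Y) he
    simp only [hh.pow_mul_self ha2 hay hy'] at h1
    have h2 : (x⁻¹ * (t * y) * x) ^ Nat.card Y = x⁻¹ * t * x := by
      have := conj_pow (i := Nat.card Y) (a := x⁻¹) (b := t * y)
      rw [inv_inv] at this
      rw [this, hh.pow_mul_self hh.t_sq (hh.t_comm_K (hh.Y_le hy)) hy]
    rw [h2] at h1
    rcases ha with rfl | rfl | rfl | rfl
    · exact absurd (by rw [mul_eq_one_iff_eq_inv, mul_eq_left] at h1; exact h1) hh.t_ne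
    all_goals tauto
  have hd : ∀ x, f x = (if x⁻¹ * t * x = t then f x else 0) +
      (if x⁻¹ * t * x = u then f x else 0) + (if x⁻¹ * t * x = t * u then f x else 0) := by
    intro x
    by_cases h0 : f x = 0
    · simp [h0]
    rcases hsupp x h0 with h | h | h
    · rw [if_pos h, if_neg (by rw [h]; exact hh.t_ne_u), if_neg (by rw [h]; exact hh.t_ne_tu)]
      simp
    · rw [if_pos h, if_neg (by rw [h]; exact hh.t_ne_u.symm), if_neg (by rw [h]; exact hh.u_ne_tu)]
      simp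
    · rw [if_pos h, if_neg (by rw [h]; exact hh.t_ne_tu.symm),
        if_neg (by rw [h]; exact hh.u_ne_tu.symm)]
      simp
  have hshift : ∀ (a b : G), z * a * z⁻¹ = b →
      ∀ g : G → ℂ, ∑ x : G, (if x⁻¹ * t * x = b then g x else 0) =
        ∑ x : G, (if x⁻¹ * t * x = a then g (x * z⁻¹) else 0) := by
    intro a b hab g
    rw [← Equiv.sum_comp (Equiv.mulRight z⁻¹) (fun x => if x⁻¹ * t * x = b then g x else 0)]
    refine Finset.sum_congr rfl fun x _ => ?_
    simp only [Equiv.coe_mulRight]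
    refine if_congr ⟨fun h => ?_, fun h => ?_⟩ rfl rfl
    · rw [← hab, mul_inv_rev, inv_inv] at h
      have h' : z * (x⁻¹ * t * x) * z⁻¹ = z * a * z⁻¹ := by rw [← h]; group
      exact mul_left_cancel (mul_right_cancel h')
    · rw [← hab, ← h]; group
  have hC : ∀ g : G → ℂ, ∑ x : G, (if x⁻¹ * t * x = t then g x else 0) =
      ∑ c : ↥(centralizer ({t} : Set G)), g c := by
    intro g
    rw [← Finset.sum_filter]
    refine Finset.sum_subtype _ (fun x => ?_) g
    simp only [Finset.mem_filter, Finset.mem_univ, true_and, mem_centralizer_singleton_iff]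
    constructor
    · intro h
      calc x * t = x * (x⁻¹ * t * x) := by rw [h]
        _ = t * x := by group
    · intro h
      rw [mul_assoc, ← h, inv_mul_cancel_left]
  rw [Fintype.sum_congr _ _ hd, Finset.sum_add_distrib, Finset.sum_add_distrib,
    hshift t u hh.zt, hshift u (t * u) hh.zu, hshift t u hh.zt, hC, hC, hC,
    ← Finset.sum_add_distrib, ← Finset.sum_add_distrib]
  refine Finset.sum_congr rfl fun c _ => ?_
  obtain ⟨c, hc⟩ := c
  show f c + f (c * z⁻¹) + f (c * z⁻¹ * z⁻¹) = hh.Phi ω (c⁻¹ * y * c)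
  set e := c⁻¹ * y * c with he
  have hct : c * t = t * c := mem_centralizer_singleton_iff.1 hc
  have g0 : c⁻¹ * (t * y) * c = t * e := by
    calc c⁻¹ * (t * y) * c = c⁻¹ * (t * c) * (c⁻¹ * y * c) := by group
      _ = t * e := by rw [← hct, inv_mul_cancel_left]
  have g1 : (c * z⁻¹)⁻¹ * (t * y) * (c * z⁻¹) = z * (t * e) * z⁻¹ := by rw [← g0]; group
  have g2 : (c * z⁻¹ * z⁻¹)⁻¹ * (t * y) * (c * z⁻¹ * z⁻¹) = z * (z * (t * e) * z⁻¹) * z⁻¹ := by
    rw [← g0]; simp only [mul_inv_rev, inv_inv, mul_assoc]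
  have heK : e ∈ K := hh.conj_mem_K hc (hh.Y_le hy)
  have hem : e ^ Nat.card Y = 1 := by
    have := conj_pow (i := Nat.card Y) (a := c⁻¹) (b := y)
    rw [inv_inv] at this
    rw [he, this, hh.pow_card_eq hy, mul_one, inv_mul_cancel]
  by_cases heY : e ∈ Y
  · rw [Phi, dif_pos heY]
    set ey : Y := ⟨e, heY⟩
    have u1 : z * (t * e) * z⁻¹ = u * (hh.rho ey : G) := by
      rw [show ((hh.rho ey : Y) : G) = z * e * z⁻¹ from rfl, ← hh.zt]; group
    have u2 : z * (z * (t * e) * z⁻¹) * z⁻¹ = t * (u * (hh.rho (hh.rho ey) : G)) := by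
      rw [u1, show ((hh.rho (hh.rho ey) : Y) : G) = z * (hh.rho ey : G) * z⁻¹ from rfl,
        ← mul_assoc t, ← hh.zu]
      group
    simp only [hf, g0, g1, g2, u2]
    rw [u1]
    rw [show E (t * e) = -4 from
        (extendByZero_of_mem _ (hh.wsplit.flip (hh.ysplit.incl ey)).2).trans (hh.P_ty ω ey),
      show E (u * (hh.rho ey : G)) = 2 * (1 - (ω (hh.rho ey) : ℂ)) from
        (extendByZero_of_mem _ (hh.wsplit.incl (hh.ysplit.flip _)).2).trans (hh.P_uy ω _),
      show E (t * (u * (hh.rho (hh.rho ey) : G))) = 2 * (1 - (ω (hh.rho (hh.rho ey)) : ℂ)) from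
        (extendByZero_of_mem _ (hh.wsplit.flip (hh.ysplit.flip _)).2).trans (hh.P_tuy ω _)]
    simp only [phi, wa, wb, MonoidHom.comp_apply]
    ring
  · rw [Phi, dif_neg heY]
    have hz : ∀ g, z * g * z⁻¹ ∈ centralizer (Y : Set G) → g ∈ centralizer (Y : Set G) := by
      intro g hg
      rw [mem_centralizer_iff] at hg ⊢
      intro a ha
      have h := hg _ (hh.zY a ha)
      have h' : z * (a * g) * z⁻¹ = z * (g * a) * z⁻¹ := by
        calc z * (a * g) * z⁻¹ = z * a * z⁻¹ * (z * g * z⁻¹) := by group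
          _ = z * g * z⁻¹ * (z * a * z⁻¹) := h
          _ = z * (g * a) * z⁻¹ := by group
      exact mul_left_cancel (mul_right_cancel h')
    have hte : t * e ∉ centralizer (Y : Set G) := fun h => heY (hh.mem_Y_of_centralizes heK hem
      (by have := mul_mem hh.t_mem_centY h; rwa [hh.tsplit.cancel] at this))
    simp only [hf, g0, g1, g2]
    have n0 : t * e ∉ centralizer {t} ⊓ centralizer (Y : Set G) := fun h => hte h.2
    have n1 : z * (t * e) * z⁻¹ ∉ centralizer {t} ⊓ centralizer (Y : Set G) := fun h =>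
      hte (hz _ h.2)
    have n2 : z * (z * (t * e) * z⁻¹) * z⁻¹ ∉ centralizer {t} ⊓ centralizer (Y : Set G) :=
      fun h => hte (hz _ (hz _ h.2))
    rw [hE, extendByZero_of_not_mem _ n0, extendByZero_of_not_mem _ n1,
      extendByZero_of_not_mem _ n2]
    simp

theorem indW_t [Fintype G] :
    hh.indW ω t = ((q : ℂ) + 1)⁻¹ * (Nat.card (centralizer ({t} : Set G)) * -4) := by
  have h := hh.indW_ty_sum ω (one_mem Y)
  rw [mul_one] at h
  rw [h, Fintype.sum_congr _ (fun _ => (-4 : ℂ)) fun c => by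
    rw [mul_one, inv_mul_cancel, Phi, dif_pos (one_mem Y)]; exact hh.phi_one ω]
  simp [Nat.card_eq_fintype_card]

theorem indW_ty [Fintype G] {y : Y} (hy : y ≠ 1) :
    hh.indW ω (t * y) = hh.phi ω y + hh.phi ω y⁻¹ := by
  classical
  have hy' : (y : G) ≠ 1 := fun e => hy (Subtype.ext e)
  have hyi : (y : G)⁻¹ ≠ y := fun e => hy' (hh.eq_one_of_sq y.2 (inv_eq_iff_mul_eq_one.1 e))
  rw [hh.indW_ty_sum ω y.2, hh.tsplit.sum_eq]
  have e1 : ∀ k : K, ((hh.tsplit.flip k : ↥(centralizer ({t} : Set G))) : G)⁻¹ * y *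
      (hh.tsplit.flip k : G) = (k : G)⁻¹ * y * k := fun k => by
    show (t * (k : G))⁻¹ * y * (t * k) = _
    calc (t * (k : G))⁻¹ * y * (t * k) = (k : G)⁻¹ * (t⁻¹ * (y * t)) * k := by group
      _ = (k : G)⁻¹ * y * k := by rw [← hh.t_comm_K (hh.Y_le y.2), inv_mul_cancel_left]
  have e2 : ∀ k : K, hh.Phi ω ((k : G)⁻¹ * y * k) =
      (if (k : G)⁻¹ * y * k = y then hh.phi ω y else 0) +
      (if (k : G)⁻¹ * y * k = (y : G)⁻¹ then hh.phi ω y⁻¹ else 0) := fun k => by
    by_cases hm : (k : G)⁻¹ * y * k ∈ Y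
    · rw [Phi, dif_pos hm]
      have hc := hh.conj_y y y.2 _ (inv_mem k.2) (by rwa [inv_inv])
      rw [inv_inv] at hc
      rcases hc with h | h
      · rw [if_pos h, if_neg (by rw [h]; exact hyi.symm), add_zero]
        exact congrArg _ (Subtype.ext h)
      · rw [if_pos h, if_neg (by rw [h]; exact hyi), zero_add]
        exact congrArg _ (Subtype.ext h)
    · rw [Phi, dif_neg hm, if_neg (fun h => hm (by rw [h]; exact y.2)),
        if_neg (fun h => hm (by rw [h]; exact inv_mem y.2)), add_zero]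
  have c1 : 2 * Nat.card {k : K // (k : G)⁻¹ * y * k = y} = q + 1 := by
    rw [← hh.cardY, show {k : K // (k : G)⁻¹ * y * k = y} = _ from rfl,
      Nat.card_congr (β := ↥(K ⊓ centralizer (Y : Set G)))
        { toFun := fun k => ⟨(k.1 : G), hh.cent_y y y.2 hy' k.1 k.1.2 (by
            calc (k.1 : G) * y * (k.1 : G)⁻¹
                = (k.1 : G) * ((k.1 : G)⁻¹ * y * k.1) * (k.1 : G)⁻¹ := by rw [k.2]
              _ = y := by group)⟩
          invFun := fun g => ⟨⟨g, g.2.1⟩, by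
            show (g : G)⁻¹ * y * g = y
            rw [mul_assoc, mem_centralizer_iff.1 g.2.2 y y.2, inv_mul_cancel_left]⟩
          left_inv := fun k => rfl
          right_inv := fun g => rfl },
      hh.ysplit.card_eq]
    ring
  have c2 : 2 * Nat.card {k : K // (k : G)⁻¹ * y * k = (y : G)⁻¹} = q + 1 := by
    rw [← hh.inv_card y y.2 hy']
    congr 1
    refine Nat.card_congr (Equiv.subtypeEquivRight fun k => ⟨fun h => ?_, fun h => ?_⟩)
    · have := congrArg Inv.inv h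
      simp only [mul_inv_rev, inv_inv] at this
      calc (k : G) * y * (k : G)⁻¹
          = (k : G) * ((k : G)⁻¹ * ((y : G)⁻¹ * k)) * (k : G)⁻¹ := by rw [this]
        _ = (y : G)⁻¹ := by group
    · have := congrArg Inv.inv h
      simp only [mul_inv_rev, inv_inv] at this
      calc (k : G)⁻¹ * y * k = (k : G)⁻¹ * ((k : G) * ((y : G)⁻¹ * (k : G)⁻¹)) * k := by rw [this]
        _ = (y : G)⁻¹ := by group
  simp only [e1, show ∀ k : K, ((hh.tsplit.incl k : ↥(centralizer ({t} : Set G))) : G) = k from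
    fun _ => rfl, ← two_mul, e2, ← Finset.mul_sum, Finset.sum_add_distrib, Finset.sum_ite,
    Finset.sum_const, nsmul_eq_mul, smul_zero, mul_zero, add_zero]
  rw [← Fintype.card_subtype, ← Fintype.card_subtype, ← Nat.card_eq_fintype_card,
    ← Nat.card_eq_fintype_card]
  have d1 : (2 : ℂ) * (Nat.card {k : K // (k : G)⁻¹ * y * k = y} : ℂ) = (q : ℂ) + 1 := by
    exact_mod_cast c1
  have d2 : (2 : ℂ) * (Nat.card {k : K // (k : G)⁻¹ * y * k = (y : G)⁻¹} : ℂ) = (q : ℂ) + 1 := by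
    exact_mod_cast c2
  have hq : (q : ℂ) + 1 ≠ 0 := Nat.cast_add_one_ne_zero q
  rw [show ∀ a b c d : ℂ, 2 * (a * c + b * d) = 2 * a * c + 2 * b * d from by intros; ring, d1, d2,
    ← mul_add, inv_mul_cancel_left₀ hq]

/-! ### The function induced from `C` -/

/-- The function on `C`. -/
noncomputable def F0 (g0 : K → ℂ) : ↥(centralizer ({t} : Set G)) → ℂ := fun c =>
  2 * (1 - (hh.tsplit.sign c : ℂ)) * g0 (hh.tsplit.proj c)

theorem F0_incl (g0 : K → ℂ) (k : K) : hh.F0 g0 (hh.tsplit.incl k) = 0 := by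
  simp [F0, hh.tsplit.sign_incl]

theorem F0_flip (g0 : K → ℂ) (k : K) : hh.F0 g0 (hh.tsplit.flip k) = 4 * g0 k := by
  simp [F0, hh.tsplit.sign_flip, hh.tsplit.proj_flip]; norm_num

theorem isGeneralized_F0 {g0 : K → ℂ} (hg : Cfsg.IsGeneralizedCharacter K g0) :
    Cfsg.IsGeneralizedCharacter _ (hh.F0 g0) := by
  have h := IsGeneralized.intCast_smul (IsGeneralized.mul
    (IsGeneralized.sub isGeneralized_one (IsCharacter.isGeneralized
      (isCharacter_ofHom hh.tsplit.sign))) (IsGeneralized.comp hg hh.tsplit.proj)) 2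
  convert h using 1
  funext c
  simp [F0, mul_assoc]

theorem pow_three_tk {k : G} (hk : k ∈ K) (h : k ^ 3 = 1) : (t * k) ^ 3 = t := by
  rw [Commute.mul_pow (hh.t_comm_K hk), h, mul_one, pow_succ, pow_two, hh.t_sq, one_mul]

/-- A nonzero term of the function induced from `C` lies over an element of `tK` with cube `t`. -/
theorem cube_of_F0_ne {g0 : K → ℂ} (hg : ∀ k, k ≠ 1 → orderOf k ≠ 3 → g0 k = 0) {g : G}
    (h : Cfsg.extendByZero _ (hh.F0 g0) g ≠ 0) : g ^ 3 = t := by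
  have hm : g ∈ centralizer ({t} : Set G) := by
    by_contra hn
    exact h (extendByZero_of_not_mem _ hn)
  rw [extendByZero_of_mem _ hm] at h
  have hg' : g ∉ K := fun hk => h (hh.F0_incl g0 ⟨g, hk⟩)
  set k : K := ⟨t * g, hh.tsplit.mul_mem_of_notMem hm hg'⟩ with hk
  have e : (⟨g, hm⟩ : ↥(centralizer ({t} : Set G))) = hh.tsplit.flip k :=
    Subtype.ext (hh.tsplit.cancel g).symm
  rw [e, hh.F0_flip] at h
  have h3 : k ^ 3 = 1 := by
    by_contra h3
    exact h (by rw [hg k (fun e => h3 (by rw [e, one_pow]))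
      (fun e => h3 (e ▸ pow_orderOf_eq_one k)), mul_zero])
  have := hh.pow_three_tk k.2 (by simpa using congrArg Subtype.val h3)
  rwa [show t * (k : G) = g from hh.tsplit.cancel g] at this

/-- The function induced from `C`. -/
noncomputable def indC [Fintype G] (g0 : K → ℂ) : G → ℂ := Cfsg.indFun _ (hh.F0 g0)

theorem inner_indC [Fintype G] [Fintype K] (g0 : K → ℂ) {ψ : G → ℂ}
    (hψ : Cfsg.IsClassFunction G ψ) :
    Cfsg.classInner (hh.indC g0) ψ = (Nat.card (centralizer ({t} : Set G)) : ℂ)⁻¹ *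
      ∑ k : K, 4 * g0 k * conj (ψ (t * k)) := by
  classical
  rw [indC, classInner_indFun _ hψ, classInner_def, hh.tsplit.sum_eq]
  congr 1
  refine Finset.sum_congr rfl fun k _ => ?_
  rw [hh.F0_incl, hh.F0_flip, zero_mul, zero_add]
  rfl

theorem indC_tk [Fintype G] {g0 : K → ℂ} (hgen : Cfsg.IsGeneralizedCharacter K g0)
    (hg : ∀ k, k ≠ 1 → orderOf k ≠ 3 → g0 k = 0) {k : K} (hk : k ^ 3 = 1) :
    hh.indC g0 (t * k) = 4 * g0 k := by
  classical
  have hk' : (k : G) ^ 3 = 1 := by simpa using congrArg Subtype.val hk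
  rw [indC, indFun_def]
  have hterm : ∀ x : G, Cfsg.extendByZero _ (hh.F0 g0) (x⁻¹ * (t * k) * x) =
      if x ∈ centralizer ({t} : Set G) then 4 * g0 k else 0 := by
    intro x
    split_ifs with hx
    · have hm : t * (k : G) ∈ centralizer ({t} : Set G) := (hh.tsplit.flip k).2
      rw [extendByZero_of_mem _ (mul_mem (mul_mem (inv_mem hx) hm) hx), ← hh.F0_flip g0 k]
      have := IsGeneralized.isClassFunction (hh.isGeneralized_F0 hgen) (hh.tsplit.flip k)
        (⟨x, hx⟩ : ↥(centralizer ({t} : Set G)))⁻¹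
      rw [← this]
      congr 1
      ext
      simp [TwoSplit.flip, mul_assoc]
    · by_contra hne
      have h := hh.cube_of_F0_ne hg hne
      have := conj_pow (i := 3) (a := x⁻¹) (b := t * (k : G))
      rw [inv_inv] at this
      rw [this, hh.pow_three_tk k.2 hk'] at h
      exact hx (mem_centralizer_singleton_iff.2 (by
        calc x * t = x * (x⁻¹ * t * x) := by rw [h]
          _ = t * x := by group))
  rw [Fintype.sum_congr _ _ hterm, ← Finset.sum_filter, Finset.sum_const, nsmul_eq_mul,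
    ← Fintype.card_subtype, ← Nat.card_eq_fintype_card]
  rw [inv_mul_cancel_left₀]
  exact_mod_cast (Nat.card_pos (α := centralizer ({t} : Set G))).ne'

theorem indC_ty [Fintype G] {g0 : K → ℂ} (hg : ∀ k, k ≠ 1 → orderOf k ≠ 3 → g0 k = 0) {y : G}
    (hy : y ∈ Y) (hy1 : y ≠ 1) : hh.indC g0 (t * y) = 0 := by
  classical
  rw [indC, indFun_def, Finset.sum_eq_zero (fun x _ => ?_), mul_zero]
  by_contra hne
  have h := hh.cube_of_F0_ne hg hne
  have hp := conj_pow (i := 3) (a := x⁻¹) (b := t * y)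
  rw [inv_inv] at hp
  rw [hp] at h
  have h6 := congrArg (fun g => g * g) h
  simp only [hh.t_sq] at h6
  have hp2 := conj_pow (i := 6) (a := x⁻¹) (b := t * y)
  rw [inv_inv] at hp2
  rw [← hp, ← pow_add, hp2] at h6
  have : (t * y) ^ 6 = 1 := by
    calc (t * y) ^ 6 = x * (x⁻¹ * (t * y) ^ 6 * x) * x⁻¹ := by group
      _ = 1 := by rw [h6, mul_one, mul_inv_cancel]
  rw [Commute.mul_pow (hh.t_comm_K (hh.Y_le hy)), show t ^ 6 = 1 by
    rw [show 6 = 2 * 3 from rfl, pow_mul, pow_two, hh.t_sq, one_pow], one_mul] at this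
  exact hy1 (hh.eq_one_of_pow_six hy this)

theorem indW_tk [Fintype G] {k : K} (hk : orderOf k = 3) : hh.indW ω (t * k) = 0 := by
  classical
  have hk3 : (k : G) ^ 3 = 1 := by
    simpa [hk] using congrArg Subtype.val (pow_orderOf_eq_one k)
  rw [indW, indFun_def, Finset.sum_eq_zero (fun x _ => ?_), mul_zero]
  by_contra hne
  have hm : x⁻¹ * (t * k) * x ∈ centralizer {t} ⊓ centralizer (Y : Set G) := by
    by_contra hn
    exact hne (extendByZero_of_not_mem _ hn)
  obtain ⟨a, y, hy, -, he, ha, hay⟩ := hh.eq_one_or_of_mem_W hm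
  have hp : ∀ n, (x⁻¹ * (t * k) * x) ^ n = x⁻¹ * (t * k) ^ n * x := fun n => by
    have := conj_pow (i := n) (a := x⁻¹) (b := t * (k : G))
    rwa [inv_inv] at this
  have h6 : (t * (k : G)) ^ 6 = 1 := by
    rw [show 6 = 3 * 2 from rfl, pow_mul, hh.pow_three_tk k.2 hk3, pow_two, hh.t_sq]
  have hy6 : y ^ 6 = 1 := by
    have h := hp 6
    rw [h6, mul_one, inv_mul_cancel, he, Commute.mul_pow hay, show a ^ 6 = 1 by
      rw [show 6 = 2 * 3 from rfl, pow_mul, pow_two, ha, one_pow], one_mul] at h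
    exact h
  have hy1 := hh.eq_one_of_pow_six hy hy6
  have h2 := hp 2
  rw [he, hy1, mul_one, pow_two, ha] at h2
  have h3 : (t * (k : G)) ^ 2 = 1 := by
    calc (t * (k : G)) ^ 2 = x * (x⁻¹ * (t * k) ^ 2 * x) * x⁻¹ := by group
      _ = 1 := by rw [← h2, mul_one, mul_inv_cancel]
  rw [Commute.mul_pow (hh.t_comm_K k.2), pow_two t, hh.t_sq, one_mul] at h3
  have h4 : k ^ 2 = 1 := Subtype.ext (by simpa using h3)
  have := orderOf_dvd_of_pow_eq_one h4
  rw [hk] at this
  norm_num at this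

/-! ### Products of two involutions -/

theorem isConj_iff_invol (i : G) : IsConj t i ↔ i * i = 1 ∧ i ≠ 1 := by
  refine ⟨fun h => ?_, fun h => hh.conj_t i h.1 h.2⟩
  obtain ⟨c, rfl⟩ := isConj_iff.1 h
  refine ⟨?_, fun e => hh.t_ne ?_⟩
  · calc c * t * c⁻¹ * (c * t * c⁻¹) = c * (t * t) * c⁻¹ := by group
      _ = 1 := by rw [hh.t_sq, mul_one, mul_inv_cancel]
  · rwa [mul_inv_eq_one, mul_eq_left] at e

theorem prods_eq (g : G) : prods t g =
    Nat.card {i : G // i * i = 1 ∧ i ≠ 1 ∧ i * g * i = g⁻¹ ∧ i * g ≠ 1} := by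
  refine Nat.card_congr
    { toFun := fun p => ⟨p.1.1, ?_⟩
      invFun := fun i => ⟨(i.1, i.1 * g), ?_⟩
      left_inv := fun p => ?_
      right_inv := fun i => rfl }
  · obtain ⟨⟨a, b⟩, ha, hb, hab⟩ := p
    rw [hh.isConj_iff_invol] at ha hb
    simp only at ha hb hab ⊢
    subst hab
    have hai : a⁻¹ = a := inv_eq_of_mul_eq_one_right ha.1
    have hbi : b⁻¹ = b := inv_eq_of_mul_eq_one_right hb.1
    refine ⟨ha.1, ha.2, ?_, ?_⟩
    · rw [← mul_assoc, ha.1, one_mul, mul_inv_rev, hai, hbi]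
    · rw [← mul_assoc, ha.1, one_mul]; exact hb.2
  · obtain ⟨i, h1, h2, h3, h4⟩ := i
    simp only [hh.isConj_iff_invol]
    refine ⟨⟨h1, h2⟩, ⟨?_, h4⟩, by rw [← mul_assoc, h1, one_mul]⟩
    rw [← mul_assoc, h3, inv_mul_cancel]
  · obtain ⟨⟨a, b⟩, ha, hb, hab⟩ := p
    rw [hh.isConj_iff_invol] at ha
    simp only at ha hab
    exact Subtype.ext (Prod.ext rfl (by show a * g = b; rw [← hab, ← mul_assoc, ha.1, one_mul]))

theorem mem_C_of_invert {i g : G} {m : ℕ} (hi : i * i = 1) (hg : g ^ m = t)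
    (h : i * g * i = g⁻¹) : i ∈ centralizer ({t} : Set G) := by
  have hii : i⁻¹ = i := inv_eq_of_mul_eq_one_right hi
  have := conj_pow (i := m) (a := i) (b := g)
  rw [hii, h, inv_pow, hg, inv_eq_of_mul_eq_one_right hh.t_sq] at this
  exact mem_centralizer_singleton_iff.2 (by
    calc i * t = i * t * (i * i) := by rw [hi, mul_one]
      _ = t * i := by rw [← mul_assoc, ← this])

theorem card_split [Finite G] {p : G → Prop} (hC : ∀ i, p i → i ∈ centralizer ({t} : Set G))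
    (hp : ∀ k ∈ K, p (t * k) ↔ p k) :
    Nat.card {i : G // p i} = 2 * Nat.card {k : K // p k} := by
  rw [two_mul, ← Nat.card_sum]
  refine (Nat.card_eq_of_bijective (Sum.elim (fun k => (⟨(k.1 : G), k.2⟩ : {i : G // p i}))
    (fun k => ⟨t * (k.1 : G), (hp _ k.1.2).2 k.2⟩)) ⟨?_, ?_⟩).symm
  · rintro (a | a) (b | b) e <;> have e' := congrArg Subtype.val e <;> simp only [Sum.elim_inl,
      Sum.elim_inr] at e'
    · exact congrArg _ (Subtype.ext (Subtype.ext e'))
    · exact absurd (e' ▸ a.1.2) (hh.tsplit.mul_notMem b.1.2)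
    · exact absurd (e'.symm ▸ b.1.2) (hh.tsplit.mul_notMem a.1.2)
    · exact congrArg _ (Subtype.ext (Subtype.ext (mul_left_cancel e')))
  · rintro ⟨i, hi⟩
    rcases hh.tsplit.cover i (hC i hi) with h | h
    · exact ⟨Sum.inl ⟨⟨i, h⟩, hi⟩, rfl⟩
    · exact ⟨Sum.inr ⟨⟨t * i, h⟩, (hp _ h).1 (by rwa [hh.tsplit.cancel])⟩,
        Subtype.ext (hh.tsplit.cancel i)⟩

theorem sq_flip {k : G} (hk : k ∈ K) : t * k * (t * k) = k * k := by
  calc t * k * (t * k) = t * k * (k * t) := by rw [← hh.t_comm_K hk]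
    _ = t * (k * k) * t := by group
    _ = k * k := by rw [hh.t_comm_K (mul_mem hk hk), mul_assoc, hh.t_sq, mul_one]

theorem sandwich_flip {k g : G} (hk : k ∈ K) (hg : g * t = t * g) :
    t * k * g * (t * k) = k * g * k := by
  calc t * k * g * (t * k) = t * k * (g * t) * k := by group
    _ = (t * k) * t * g * k := by rw [hg]; group
    _ = k * g * k := by rw [hh.t_comm_K hk, mul_assoc k t t, hh.t_sq, mul_one]

theorem prods_t [Finite G] : prods t t + q = q ^ 2 := by
  have hti : t⁻¹ = t := inv_eq_of_mul_eq_one_right hh.t_sq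
  rw [hh.prods_eq, ← hh.cardInv, add_left_inj]
  rw [hh.card_split (p := fun i => i * i = 1 ∧ i ≠ 1 ∧ i * t * i = t⁻¹ ∧ i * t ≠ 1)
    (fun i hi => hh.mem_C_of_invert hi.1 (pow_one t) hi.2.2.1) fun k hk => ?_]
  · congr 1
    refine Nat.card_congr (Equiv.subtypeEquivRight fun k => ?_)
    have e : (k : G) * t * k = t * ((k : G) * k) := by rw [← hh.t_comm_K k.2, mul_assoc]
    simp only [Subtype.ext_iff, Subgroup.coe_mul, Subgroup.coe_one, Ne]
    refine ⟨fun h => ⟨h.1, h.2.1⟩, fun h => ⟨h.1, h.2, by rw [e, h.1, mul_one, hti], fun he => ?_⟩⟩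
    exact hh.tsplit.notMem (by
      rw [show t = (k : G) from by rw [← hti]; exact (eq_inv_of_mul_eq_one_left he).symm]; exact k.2)
  · have hkt : t * k * t = k := by rw [hh.t_comm_K hk, mul_assoc, hh.t_sq, mul_one]
    constructor
    · rintro ⟨h1, h2, h3, h4⟩
      rw [hh.sq_flip hk] at h1
      rw [hkt] at h4
      refine ⟨h1, h4, by rw [← hh.sandwich_flip hk rfl]; exact h3, fun he => ?_⟩
      exact h2 (by rw [hh.t_comm_K hk]; exact he)
    · rintro ⟨h1, h2, h3, h4⟩
      rw [hh.sq_flip hk, hh.sandwich_flip hk rfl, hkt]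
      exact ⟨h1, fun he => h4 (by rw [← hh.t_comm_K hk]; exact he), h3, h2⟩

theorem prods_ty [Finite G] {y : G} (hy : y ∈ Y) (hy1 : y ≠ 1) :
    prods t (t * y) = q + 1 := by
  have hty := hh.t_comm_K (hh.Y_le hy)
  have hinv : (t * y)⁻¹ = t * y⁻¹ := by
    rw [mul_inv_rev, inv_eq_of_mul_eq_one_right hh.t_sq,
      hh.t_comm_K (inv_mem (hh.Y_le hy))]
  have hne : ∀ k : G, k ∈ K → k * y * k⁻¹ = y⁻¹ → k ≠ 1 := by
    rintro k - h rfl
    simp only [one_mul, inv_one, mul_one] at h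
    exact hy1 (hh.eq_one_of_sq hy (inv_eq_iff_mul_eq_one.1 h.symm))
  rw [hh.prods_eq, hh.card_split
    (p := fun i => i * i = 1 ∧ i ≠ 1 ∧ i * (t * y) * i = (t * y)⁻¹ ∧ i * (t * y) ≠ 1)
    (fun i hi => hh.mem_C_of_invert hi.1 (hh.pow_mul_self hh.t_sq hty hy) hi.2.2.1) fun k hk => ?_]
  · rw [← hh.inv_card y hy hy1]
    congr 1
    refine Nat.card_congr (Equiv.subtypeEquivRight fun k => ?_)
    have e : (k : G) * (t * y) * k = t * ((k : G) * y * k) := by
      rw [← mul_assoc, ← hh.t_comm_K k.2, mul_assoc t, mul_assoc]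
    constructor
    · rintro ⟨h1, -, h3, -⟩
      rw [inv_eq_of_mul_eq_one_right h1]
      rw [e, hinv] at h3
      exact mul_left_cancel h3
    · intro h
      have h1 := hh.inv_sq y hy hy1 k k.2 h
      refine ⟨h1, hne k k.2 h, ?_, fun he => ?_⟩
      · rw [e, hinv]
        congr 1
        rwa [inv_eq_of_mul_eq_one_right h1] at h
      · have hkt : t * ((k : G) * y) = 1 := by rw [← mul_assoc, hh.t_comm_K k.2, mul_assoc]; exact he
        exact hh.tsplit.notMem (by
          rw [eq_inv_of_mul_eq_one_left hkt]; exact inv_mem (mul_mem k.2 (hh.Y_le hy)))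
  · have hg : t * y * t = t * (t * y) := by rw [mul_assoc, ← hty]
    rw [hh.sq_flip hk, hh.sandwich_flip hk hg]
    refine and_congr_right fun h1 => ⟨fun h => ?_, fun h => ?_⟩
    · obtain ⟨-, h3, -⟩ := h
      rw [show k * (t * y) * k = t * (k * y * k) by
        rw [← mul_assoc, ← hh.t_comm_K hk, mul_assoc t, mul_assoc], hinv] at h3
      have h3' := mul_left_cancel h3
      have hk' : k * y * k⁻¹ = y⁻¹ := by rwa [inv_eq_of_mul_eq_one_right h1]
      refine ⟨hne k hk hk', by rw [← mul_assoc k, ← hh.t_comm_K hk, mul_assoc t k y,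
        mul_assoc t, h3', hinv], fun he => ?_⟩
      exact hh.tsplit.notMem (by
        have hkt : t * (k * y) = 1 := by rw [← mul_assoc, hh.t_comm_K hk, mul_assoc]; exact he
        rw [eq_inv_of_mul_eq_one_left hkt]; exact inv_mem (mul_mem hk (hh.Y_le hy)))
    · obtain ⟨hk1, h3, -⟩ := h
      refine ⟨fun he => ?_, h3, fun he => ?_⟩
      · exact hh.tsplit.notMem (by rw [eq_inv_of_mul_eq_one_left he]; exact inv_mem hk)
      · rw [show k * (t * y) * k = t * (k * y * k) by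
          rw [← mul_assoc, ← hh.t_comm_K hk, mul_assoc t, mul_assoc], hinv] at h3
        have hkt : k * y = 1 := by
          calc k * y = t * (t * (k * y)) := (hh.tsplit.cancel _).symm
            _ = t * (k * (t * y)) := by rw [← mul_assoc t k y, hh.t_comm_K hk, mul_assoc]
            _ = t * k * (t * y) := by rw [mul_assoc]
            _ = 1 := he
        have hky : k = y⁻¹ := eq_inv_of_mul_eq_one_left hkt
        refine hk1 ?_
        rw [hky, hh.eq_one_of_sq (inv_mem hy) (by rw [← hky]; exact h1)]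

theorem prods_tk [Finite G] {k : K} (hk : orderOf k = 3) : prods t (t * k) = 0 := by
  have hk3 : (k : G) ^ 3 = 1 := by
    simpa [hk] using congrArg Subtype.val (pow_orderOf_eq_one k)
  rw [hh.prods_eq, Nat.card_eq_zero]
  refine Or.inl ⟨?_⟩
  rintro ⟨i, h1, -, h3, -⟩
  have hi := hh.mem_C_of_invert h1 (hh.pow_three_tk k.2 hk3) h3
  have hinv : (t * (k : G))⁻¹ = t * (k : G)⁻¹ := by
    rw [mul_inv_rev, inv_eq_of_mul_eq_one_right hh.t_sq, hh.t_comm_K (inv_mem k.2)]
  have hord : orderOf (k : G) = 3 := by rw [orderOf_submonoid]; exact hk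
  rw [hinv] at h3
  rcases hh.tsplit.cover i hi with h | h
  · rw [← mul_assoc, ← hh.t_comm_K h, mul_assoc t, mul_assoc] at h3
    exact hh.no_inv k k.2 hord i h h1 (mul_left_cancel h3)
  · have hj : t * i * (t * i) = 1 := by
      rw [← hh.sq_flip h, hh.tsplit.cancel]; exact h1
    have hkt : t * (k : G) * t = t * (t * k) := by rw [mul_assoc, ← hh.t_comm_K k.2]
    have e : i * (t * (k : G)) * i = t * (t * i * k * (t * i)) := by
      conv_lhs => rw [← hh.tsplit.cancel i]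
      rw [hh.sandwich_flip h hkt, ← mul_assoc (t * i), ← hh.t_comm_K h, mul_assoc t,
        mul_assoc]
    rw [e] at h3
    exact hh.no_inv k k.2 hord _ h hj (mul_left_cancel h3)

theorem exists_omega [Finite G] : ∃ ω : Y →* ℂˣ, Function.Injective ω := by
  haveI := hh.cyclicY
  obtain ⟨g, hg⟩ := IsCyclic.exists_generator (α := Y)
  have hpos : orderOf g ≠ 0 := (orderOf_pos g).ne'
  have hprim := Complex.isPrimitiveRoot_exp (orderOf g) hpos
  set ζ := (hprim.isUnit hpos).unit with hζ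
  have hζord : orderOf ζ = orderOf g := by
    rw [← orderOf_units, hζ, IsUnit.unit_spec, ← hprim.eq_orderOf]
  refine ⟨monoidHomOfForallMemZpowers hg (g' := ζ) hζord.dvd,
    (injective_iff_map_eq_one _).2 fun x hx => ?_⟩
  obtain ⟨k, rfl⟩ := Subgroup.mem_zpowers_iff.1 (hg x)
  rw [map_zpow, monoidHomOfForallMemZpowers_apply_gen, ← orderOf_dvd_iff_zpow_eq_one, hζord] at hx
  exact orderOf_dvd_iff_zpow_eq_one.1 hx

theorem exists_int_apply [Finite G] {χ : G → ℂ} (hχ : Cfsg.IsIrrCharacter G χ) :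
    ∃ a : ℤ, χ t = a := by
  obtain ⟨s, -, hs, hk⟩ := IsCharacter.exists_roots (IsIrrCharacter.isCharacter hχ) t
  have h1 : χ t = s.sum := by simpa using hk 1
  have hord : orderOf t ∣ 2 := orderOf_dvd_of_pow_eq_one (by rw [pow_two, hh.t_sq])
  rw [h1]
  clear h1 hk
  induction s using Multiset.induction with
  | empty => exact ⟨0, by simp⟩
  | cons a s ih =>
    obtain ⟨b, hb⟩ := ih fun z hz => hs z (Multiset.mem_cons_of_mem hz)
    obtain ⟨m, hm⟩ := hord
    have ha : a ^ 2 = 1 := by rw [hm, pow_mul, hs a (Multiset.mem_cons_self a s), one_pow]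
    rcases sq_eq_one_iff.1 ha with rfl | rfl
    · exact ⟨1 + b, by rw [Multiset.sum_cons, hb]; push_cast; ring⟩
    · exact ⟨-1 + b, by rw [Multiset.sum_cons, hb]; push_cast; ring⟩

theorem q_cube_cast [Finite G] :
    (Nat.card (centralizer ({t} : Set G)) : ℂ) = (q : ℂ) * ((q : ℂ) ^ 2 - 1) := by
  have h : (Nat.card (centralizer ({t} : Set G)) : ℂ) + q = (q : ℂ) ^ 3 := by
    exact_mod_cast hh.card_C
  linear_combination h

theorem sum_g0 [Fintype K] {g0 : K → ℂ} (h1 : g0 1 = (q : ℂ) ^ 2 - 1)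
    (h3 : ∀ k, orderOf k = 3 → g0 k = -1) (h0 : ∀ k, k ≠ 1 → orderOf k ≠ 3 → g0 k = 0)
    (F : K → ℂ) (a b : ℂ) (ha : F 1 = a) (hb : ∀ k, orderOf k = 3 → F k = b) :
    ∑ k : K, 4 * g0 k * F k = 4 * ((q : ℂ) ^ 2 - 1) * (a - b) := by
  have hc : (Nat.card {k : K // orderOf k = 3} : ℂ) + 1 = (q : ℂ) ^ 2 := by
    exact_mod_cast hh.card3
  have e : ∀ k : K, 4 * g0 k * F k = (if k = 1 then 4 * ((q : ℂ) ^ 2 - 1) * a else 0) +
      (if orderOf k = 3 then -4 * b else 0) := fun k => by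
    by_cases hk : k = 1
    · subst hk; rw [if_pos rfl, if_neg (by simp), h1, ha, add_zero]
    by_cases hk3 : orderOf k = 3
    · rw [if_neg hk, if_pos hk3, h3 k hk3, hb k hk3]; ring
    · rw [if_neg hk, if_neg hk3, h0 k hk hk3]; ring
  rw [Fintype.sum_congr _ _ e, Finset.sum_add_distrib, Finset.sum_ite_eq' Finset.univ (1 : K),
    if_pos (Finset.mem_univ _), ← Finset.sum_filter, Finset.sum_const, nsmul_eq_mul,
    ← Fintype.card_subtype, ← Nat.card_eq_fintype_card]
  linear_combination (-4 * b) * hc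

/-- The index of `C(t)` is not prime to `q`. -/
theorem not_coprime [Finite G] :
    ¬ Nat.Coprime (centralizer ({t} : Set G)).index q := by
  intro hcop
  haveI : Fintype G := Fintype.ofFinite G
  haveI : Fintype K := Fintype.ofFinite K
  haveI : Fintype Y := Fintype.ofFinite Y
  obtain ⟨ω, hω⟩ := hh.exists_omega
  obtain ⟨g0, hgen, h1, h3, h0⟩ := hh.gen
  set h : G → ℂ := hh.indW ω + hh.indC g0 with hh'
  have hqc : (q : ℂ) ≠ 0 := by
    have := hh.two_le
    exact_mod_cast (by omega : q ≠ 0)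
  have hq1 : (q : ℂ) + 1 ≠ 0 := Nat.cast_add_one_ne_zero q
  have hqm : (q : ℂ) - 1 ≠ 0 := by
    have := hh.two_le
    rw [sub_ne_zero]; exact_mod_cast (by omega : q ≠ 1)
  have hC := hh.q_cube_cast
  have hQ : (q : ℂ) ^ 2 - 1 ≠ 0 := by
    rw [show (q : ℂ) ^ 2 - 1 = ((q : ℂ) + 1) * ((q : ℂ) - 1) by ring]
    exact mul_ne_zero hq1 hqm
  have hg : Cfsg.IsGeneralizedCharacter G h :=
    IsGeneralized.add (IsGeneralized.indFun (hh.isGeneralized_P ω))
      (IsGeneralized.indFun (hh.isGeneralized_F0 hgen))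
  have hcl := IsGeneralized.isClassFunction hg
  have hone : h 1 = 0 := by
    have e1 : hh.P ω 1 = 0 := by simp [P]
    have e2 : hh.F0 g0 1 = 0 := by simp [F0]
    simp [hh', indW, indC, indFun_one, e1, e2]
  have ht : h t = 4 * ((q : ℂ) - 1) := by
    have e : hh.indC g0 t = 4 * ((q : ℂ) ^ 2 - 1) := by
      have := hh.indC_tk hgen h0 (k := 1) (one_pow 3)
      rwa [Subgroup.coe_one, mul_one, h1] at this
    rw [hh', Pi.add_apply, e, hh.indW_t, hC]
    field_simp
    ring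
  have hy : ∀ y : Y, y ≠ 1 → h (t * y) = hh.phi ω y + hh.phi ω y⁻¹ := fun y hy => by
    rw [hh', Pi.add_apply, hh.indW_ty ω hy,
      hh.indC_ty h0 y.2 (fun e => hy (Subtype.ext e)), add_zero]
  have hk : ∀ k : K, orderOf k = 3 → h (t * k) = -4 := fun k hk => by
    rw [hh', Pi.add_apply, hh.indW_tk ω hk,
      hh.indC_tk hgen h0 (by simpa [hk] using pow_orderOf_eq_one k), h3 k hk]
    ring
  have hY : (4 : ℂ) * (Nat.card Y : ℂ) = (q : ℂ) + 1 := by exact_mod_cast hh.cardY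
  have hnorm : Cfsg.classInner h h = 2 := by
    have e1 : ∑ y : Y, hh.phi ω y * conj (h (t * y)) =
        -16 * ((q : ℂ) - 1) + 8 * (Nat.card Y : ℂ) - 32 := by
      have e : ∀ y : Y, hh.phi ω y * conj (h (t * y)) =
          hh.phi ω y * hh.phi ω y + hh.phi ω y * hh.phi ω y⁻¹ +
            (if y = 1 then -16 * ((q : ℂ) - 1) - 32 else 0) := fun y => by
        by_cases h' : y = 1
        · subst h'
          rw [if_pos rfl, inv_one, hh.phi_one, Subgroup.coe_one, mul_one, ht]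
          simp only [map_mul, map_sub, map_ofNat, map_natCast, map_one]
          ring
        · rw [if_neg h', hy y h', map_add, hh.conj_phi, hh.conj_phi, inv_inv]
          ring
      rw [Fintype.sum_congr _ _ e, Finset.sum_add_distrib, Finset.sum_add_distrib,
        hh.sum_phi_sq hω, hh.sum_phi_inv hω, Finset.sum_ite_eq' Finset.univ (1 : Y),
        if_pos (Finset.mem_univ _)]
      ring
    have e2 : ∑ k : K, 4 * g0 k * conj (h (t * k)) =
        4 * ((q : ℂ) ^ 2 - 1) * (4 * ((q : ℂ) - 1) - -4) :=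
      hh.sum_g0 h1 h3 h0 (fun k : K => conj (h (t * k))) _ _ (by
          rw [Subgroup.coe_one, mul_one, ht]
          simp only [map_mul, map_sub, map_ofNat, map_natCast, map_one])
        (fun k hk' => by rw [hk k hk']; simp only [map_neg, map_ofNat])
    conv_lhs => arg 1; rw [hh']
    rw [classInner_add_left, hh.inner_indW ω hcl, hh.inner_indC g0 hcl, e1, e2, hC]
    field_simp
    linear_combination (2 * (q : ℂ)) * hY
  obtain ⟨A, B, hA, hB, hne, hAB⟩ := IsGeneralized.exists_sub hg hnorm hone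
  set cf : G → ℂ := fun g => (prods t g : ℂ) with hcf
  set K0 : ℂ := (Nat.card {x : G // IsConj t x} : ℂ) * (Nat.card {x : G // IsConj t x} : ℂ) /
    (Nat.card G : ℂ) with hK0
  have hform : ∀ g, cf g = K0 * ∑ χ ∈ irrFinset G, χ t * χ t * conj (χ g) / χ 1 := fun g =>
    card_class_products t t g
  have hcfcl : Cfsg.IsClassFunction G cf := fun g x => by
    rw [hform, hform]
    congr 1
    exact Finset.sum_congr rfl fun χ hχ => by
      rw [IsIrrCharacter.isClassFunction (mem_irrFinset.1 hχ) g x]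
  have hconj : ∀ g, conj (cf g) = cf g := fun g => by simp [hcf]
  have hsum : Cfsg.classInner h cf = K0 * (A t * A t / A 1 - B t * B t / B 1) := by
    rw [classInner_def]
    simp only [hconj]
    simp only [hform, Finset.mul_sum]
    rw [Finset.sum_comm]
    have e : ∀ χ ∈ irrFinset G, ∑ g, (Nat.card G : ℂ)⁻¹ *
        (h g * (K0 * (χ t * χ t * conj (χ g) / χ 1))) =
        K0 * (χ t * χ t / χ 1) *
          ((if χ = A then 1 else 0) - if χ = B then 1 else 0) := fun χ hχ => by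
      have hi : Cfsg.classInner h χ = (if χ = A then 1 else 0) - if χ = B then 1 else 0 := by
        rw [hAB, classInner_sub_left, IsIrrCharacter.classInner_eq hA (mem_irrFinset.1 hχ),
          IsIrrCharacter.classInner_eq hB (mem_irrFinset.1 hχ)]
        congr 1 <;> exact if_congr eq_comm rfl rfl
      rw [← hi, classInner_def, Finset.mul_sum, Finset.mul_sum]
      exact Finset.sum_congr rfl fun g _ => by ring
    rw [Finset.sum_congr rfl e]
    simp only [mul_sub, Finset.sum_sub_distrib, mul_ite, mul_one, mul_zero, Finset.sum_ite_eq',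
      mem_irrFinset.2 hA, mem_irrFinset.2 hB, if_true]
  have hval : Cfsg.classInner h cf = 8 * (q : ℂ) ^ 2 * ((q : ℂ) - 1) /
      (Nat.card (centralizer ({t} : Set G)) : ℂ) := by
    have c1 : (prods t t : ℂ) + q = (q : ℂ) ^ 2 := by exact_mod_cast hh.prods_t
    have e1 : ∑ y : Y, hh.phi ω y * conj (cf (t * y)) =
        -4 * ((q : ℂ) ^ 2 - (q : ℂ)) + 4 * ((q : ℂ) + 1) := by
      have e : ∀ y : Y, hh.phi ω y * conj (cf (t * y)) = ((q : ℂ) + 1) * hh.phi ω y +
          (if y = 1 then -4 * ((q : ℂ) ^ 2 - (q : ℂ)) + 4 * ((q : ℂ) + 1) else 0) := fun y => by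
        rw [hconj]
        by_cases h' : y = 1
        · subst h'
          rw [if_pos rfl, hh.phi_one, Subgroup.coe_one, mul_one]
          show -4 * (prods t t : ℂ) = _
          linear_combination (-4 : ℂ) * c1
        · rw [if_neg h', add_zero, mul_comm]
          show (prods t (t * y) : ℂ) * _ = _
          rw [hh.prods_ty y.2 (fun e => h' (Subtype.ext e))]
          push_cast; ring
      rw [Fintype.sum_congr _ _ e, Finset.sum_add_distrib, ← Finset.mul_sum, hh.sum_phi hω,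
        Finset.sum_ite_eq' Finset.univ (1 : Y), if_pos (Finset.mem_univ _)]
      ring
    have e2 : ∑ k : K, 4 * g0 k * conj (cf (t * k)) =
        4 * ((q : ℂ) ^ 2 - 1) * (((q : ℂ) ^ 2 - (q : ℂ)) - 0) :=
      hh.sum_g0 h1 h3 h0 (fun k : K => conj (cf (t * k))) _ _ (by
          rw [hconj, Subgroup.coe_one, mul_one]
          show (prods t t : ℂ) = _
          linear_combination c1)
        (fun k hk' => by rw [hconj]; simp [hcf, hh.prods_tk hk'])
    conv_lhs => arg 1; rw [hh']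
    rw [classInner_add_left, hh.inner_indW ω hcfcl, hh.inner_indC g0 hcfcl, e1, e2, hC]
    field_simp
    ring
  obtain ⟨a, ha⟩ := hh.exists_int_apply hA
  obtain ⟨b, hb⟩ := hh.exists_int_apply hB
  obtain ⟨d, hd0, hd⟩ := IsIrrCharacter.exists_degree hA
  have hdB : B 1 = (d : ℂ) := by
    have := congrFun hAB 1
    rw [hone, Pi.sub_apply, hd] at this
    linear_combination this
  have hsub : a - b = 4 * ((q : ℤ) - 1) := by
    have := congrFun hAB t
    rw [ht, Pi.sub_apply, ha, hb] at this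
    exact_mod_cast this.symm
  set n := (centralizer ({t} : Set G)).index with hn
  have hK0' : K0 = (n : ℂ) / (Nat.card (centralizer ({t} : Set G)) : ℂ) := by
    have hG : (Nat.card G : ℂ) = Nat.card (centralizer ({t} : Set G)) * (n : ℂ) := by
      rw [← Nat.cast_mul, hn, Subgroup.card_mul_index]
    have hn0 : (n : ℂ) ≠ 0 := by rw [hn]; exact_mod_cast Subgroup.index_ne_zero_of_finite
    rw [hK0, card_conj_class, hG, ← hn]
    field_simp
  have hmain : (n : ℤ) * (a ^ 2 - b ^ 2) = 8 * (q : ℤ) ^ 2 * ((q : ℤ) - 1) * d := by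
    have hd' : (d : ℂ) ≠ 0 := by exact_mod_cast hd0.ne'
    have hc0 : (Nat.card (centralizer ({t} : Set G)) : ℂ) ≠ 0 := by
      exact_mod_cast (Nat.card_pos (α := centralizer ({t} : Set G))).ne'
    rw [hval, hd, hdB, ha, hb, hK0'] at hsum
    field_simp at hsum
    have : ((n : ℤ) : ℂ) * (((a : ℂ)) ^ 2 - (b : ℂ) ^ 2) =
        8 * (q : ℂ) ^ 2 * ((q : ℂ) - 1) * d := by
      push_cast; linear_combination -hsum
    exact_mod_cast this
  have hS : (n : ℤ) * (a + b) = 2 * (q : ℤ) ^ 2 * d := by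
    have h2 := hh.two_le
    refine mul_left_cancel₀ (a := 4 * ((q : ℤ) - 1)) (by omega) ?_
    linear_combination hmain - ((n : ℤ) * (a + b)) * hsub
  have hbound : a ^ 2 + b ^ 2 + q ≤ (q : ℤ) ^ 3 := by
    have key := sum_irr_mul_conj (G := G) t t
    rw [if_pos (IsConj.refl t)] at key
    have hre := congrArg Complex.re key
    rw [Complex.re_sum, Complex.natCast_re] at hre
    have hle := Finset.sum_le_sum_of_subset_of_nonneg (f := fun χ => (χ t * conj (χ t)).re)
      (s := {A, B}) (t := irrFinset G)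
      (by simp [Finset.insert_subset_iff, mem_irrFinset, hA, hB])
      (fun χ _ _ => by rw [Complex.mul_conj, Complex.ofReal_re]; exact Complex.normSq_nonneg _)
    rw [hre, Finset.sum_pair hne, ha, hb] at hle
    simp only [Complex.mul_re, Complex.intCast_re, Complex.intCast_im, Complex.conj_re,
      Complex.conj_im, mul_zero, sub_zero, neg_zero] at hle
    have h2 : a ^ 2 + b ^ 2 ≤ (Nat.card (centralizer ({t} : Set G)) : ℤ) := by
      rw [pow_two, pow_two]
      exact_mod_cast hle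
    have h3 : (Nat.card (centralizer ({t} : Set G)) : ℤ) + q = (q : ℤ) ^ 3 := by
      exact_mod_cast hh.card_C
    omega
  have hdvd : (q : ℤ) ^ 2 ∣ a + b := by
    refine (Int.isCoprime_iff_nat_coprime.2 ?_).dvd_of_dvd_mul_left ⟨2 * d, by rw [hS]; ring⟩
    rw [Int.natAbs_pow, Int.natAbs_natCast, Int.natAbs_natCast]
    exact (hcop.symm).pow_left 2
  have hne0 : a + b ≠ 0 := by
    intro e
    rw [e, mul_zero] at hS
    have h2 := hh.two_le
    have hqi : (0 : ℤ) < q := by omega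
    have hdi : (0 : ℤ) < d := by exact_mod_cast hd0
    have : (0 : ℤ) < 2 * (q : ℤ) ^ 2 * d := by positivity
    omega
  obtain ⟨c, hc⟩ := hdvd
  have hc0 : c ≠ 0 := fun e => hne0 (by rw [hc, e, mul_zero])
  have hc1 : 1 ≤ c ^ 2 := by
    rcases lt_or_gt_of_ne hc0 with h' | h' <;> nlinarith
  have h2 : (2 : ℤ) ≤ q := by exact_mod_cast hh.two_le
  have hq4 : (q : ℤ) ^ 4 ≤ (a + b) ^ 2 := by
    rw [hc, mul_pow, show ((q : ℤ) ^ 2) ^ 2 = (q : ℤ) ^ 4 by ring]
    exact le_mul_of_one_le_right (by positivity) hc1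
  nlinarith [sq_nonneg (a - b), hq4, hbound, h2, pow_pos (show (0:ℤ) < q by omega) 3,
    mul_le_mul_of_nonneg_right h2 (pow_nonneg (show (0:ℤ) ≤ q by omega) 3)]

end ReeHyp

end CfsgLib.GoldFree
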