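import Cfsg.Agent.GoldschmidtFree.ReeChar
import Cfsg.Agent.GoldschmidtFree.ReeK
import Cfsg.Agent.GoldschmidtFree.ReeFour
import Cfsg.Agent.Invol.CentralTransfer
import Cfsg.Prelude.Def_LocalEven

/-!
# A group of Ree type has an element of order three inverted by an involution
-/

set_option autoImplicit false
set_option linter.unusedSectionVars false
set_option linter.style.haveILetI false
set_option linter.style.setOption false
set_option maxHeartbeats 1000000

namespace CfsgLib.GoldFree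

open Subgroup CfsgLib.ZJ
open scoped commutatorElement

universe u

variable {G : Type u} [Group G]

/-! ### Generalities -/

theorem sqrt_fix {M : Subgroup G} (hodd : Odd (Nat.card M)) {i x : G} (hi : i * i = 1)
    (hy : x⁻¹ * (i * x * i) ∈ M) : ∃ c ∈ M, i * (x * c) * i = x * c ∧ i * c * i = c⁻¹ := by
  obtain ⟨k, hk⟩ := hodd
  set y := x⁻¹ * (i * x * i) with hydef
  have hii : i⁻¹ = i := inv_eq_of_mul_eq_one_right hi
  have hinv : i * y * i = y⁻¹ := by
    calc i * y * i = i * x⁻¹ * i * x * (i * i) := by rw [hydef]; group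
      _ = y⁻¹ := by rw [hi, mul_one, hydef, mul_inv_rev, inv_inv, mul_inv_rev, mul_inv_rev, hii]; group
  have hpow : ∀ n : ℕ, i * y ^ n * i = (y ^ n)⁻¹ := by
    intro n
    have h := conj_pow (i := n) (a := i) (b := y)
    rw [hii, hinv, inv_pow] at h
    exact h.symm
  have hy1 : y ^ (2 * k + 1) = 1 := by
    have : (⟨y, hy⟩ : M) ^ Nat.card M = 1 := pow_card_eq_one'
    rw [← hk]
    exact (SubmonoidClass.coe_pow (⟨y, hy⟩ : M) _).symm.trans (congrArg Subtype.val this)
  refine ⟨y ^ (k + 1), pow_mem hy _, ?_, hpow _⟩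
  have e : y * (y ^ (k + 1))⁻¹ = y ^ (k + 1) := by
    rw [mul_inv_eq_iff_eq_mul, ← pow_add, show k + 1 + (k + 1) = (2 * k + 1) + 1 by ring, pow_succ,
      hy1, one_mul]
  calc i * (x * y ^ (k + 1)) * i = i * x * (i * i) * y ^ (k + 1) * i := by rw [hi, mul_one]; group
    _ = x * y * (i * y ^ (k + 1) * i) := by rw [hydef]; group
    _ = x * y ^ (k + 1) := by rw [hpow, mul_assoc x y, e]

theorem orderOf_sq_dvd {i : G} (hi : i * i = 1) (hi1 : i ≠ 1) : orderOf i = 2 :=
  orderOf_eq_prime (by rw [pow_two, hi]) hi1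

theorem inverts_of {g x : G} {k : ℕ} (hg : g * g = 1) (hx : x ≠ 1) (hk : x ^ 3 ^ k = 1)
    (h : g * x * g = x⁻¹) : Inverts 3 G :=
  ⟨g, x, hx, ⟨k, hk⟩, by rw [inv_eq_of_mul_eq_one_right hg]; exact h⟩

/-- The local hypotheses of a group of Ree type. -/
structure RS (t : G) (K : Subgroup G) (q : ℕ) : Prop where
  simple : IsSimpleGroup G
  nonab : ¬ IsMulCommutative G
  split : TwoSplit t K (centralizer {t})
  index_odd : Odd (centralizer ({t} : Set G)).index
  kf : KFacts K q
  qpow : ∃ f, q = 3 ^ f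
  qmod : q % 8 = 3
  q_ge : 27 ≤ q

namespace RS

variable {t : G} {K : Subgroup G} {q : ℕ} (hs : RS t K q)

include hs

theorem t_sq : t * t = 1 := hs.split.sq

theorem t_ne : t ≠ 1 := fun e => hs.split.notMem (e ▸ one_mem K)

theorem tK {k : G} (hk : k ∈ K) : t * k = k * t := hs.split.comm k hk

theorem three_dvd : 3 ∣ q := by
  obtain ⟨f, hf⟩ := hs.qpow
  rcases f with _ | f
  · have := hs.q_ge; omega
  · exact hf ▸ dvd_pow_self 3 (by omega)

theorem coprime_of_not_three_dvd {m : ℕ} (h : ¬ 3 ∣ m) : Nat.Coprime m q := by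
  obtain ⟨f, hf⟩ := hs.qpow
  rw [hf]
  exact (Nat.prime_three.coprime_iff_not_dvd.2 h).symm.pow_right f

variable [Finite G]

theorem card_C : Nat.card (centralizer ({t} : Set G)) + q = q ^ 3 := by
  rw [hs.split.card_eq, hs.kf.card_eq]

theorem sixteen_not_dvd : 8 ∣ Nat.card (centralizer ({t} : Set G)) ∧
    ¬ 16 ∣ Nat.card (centralizer ({t} : Set G)) := by
  obtain ⟨a, ha⟩ : ∃ a, q = 8 * a + 3 := ⟨q / 8, by have := hs.qmod; omega⟩
  have h := hs.card_C
  have hc : Nat.card (centralizer ({t} : Set G)) =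
      16 * (32 * a ^ 3 + 36 * a ^ 2 + 13 * a + 1) + 8 := by
    rw [ha] at h; ring_nf at h ⊢; omega
  omega

/-- A 3-subgroup of `C(t)` has order at most `q`. -/
theorem three_group_le {R : Subgroup G} (hR : IsPGroup 3 R) (hle : R ≤ centralizer {t}) :
    Nat.card R ≤ q := by
  haveI : Fact (Nat.Prime 3) := ⟨Nat.prime_three⟩
  obtain ⟨k, hk⟩ := IsPGroup.iff_card.1 hR
  have hd : Nat.card R ∣ Nat.card (centralizer ({t} : Set G)) := card_dvd_of_le hle
  have h := hs.card_C
  have hC : Nat.card (centralizer ({t} : Set G)) = q * (q ^ 2 - 1) := by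
    rw [Nat.mul_sub, mul_one, ← pow_succ']; show _ = q ^ 3 - q; omega
  rw [hC, hk] at hd
  have h3 : ¬ 3 ∣ q ^ 2 - 1 := by
    obtain ⟨b, hb⟩ := hs.three_dvd
    have := hs.q_ge
    rw [hb, mul_pow]
    have : 0 < b ^ 2 := pow_pos (by omega) 2
    omega
  rw [hk]
  exact Nat.le_of_dvd (by have := hs.q_ge; omega)
    (((Nat.prime_three.coprime_iff_not_dvd.2 h3).pow_left k).dvd_of_dvd_mul_right hd)

theorem card_dvd_C {R : Subgroup G} (hle : R ≤ centralizer {t}) :
    Nat.card R ∣ Nat.card (centralizer ({t} : Set G)) := card_dvd_of_le hle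

/-- The involution data: a four group in `K` with an element of order three. -/
theorem klein : ∃ a b w : G, a ∈ K ∧ b ∈ K ∧ w ∈ K ∧ a * a = 1 ∧ a ≠ 1 ∧ b * b = 1 ∧ b ≠ 1 ∧
    a ≠ b ∧ a * b = b * a ∧ w ^ 3 = 1 ∧ w * a * w⁻¹ = b ∧ w * b * w⁻¹ = a * b := by
  obtain ⟨a, b, w, h1, h2, h3, h4, h5, h6, h7, h8, h9⟩ := hs.kf.klein
  refine ⟨a, b, w, a.2, b.2, w.2, congrArg Subtype.val h1, fun e => h2 (Subtype.ext e),
    congrArg Subtype.val h3, fun e => h4 (Subtype.ext e), fun e => h5 (Subtype.ext e),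
    congrArg Subtype.val h6, ?_, congrArg Subtype.val h8, congrArg Subtype.val h9⟩
  simpa using congrArg Subtype.val h7

/-- A Sylow 2-subgroup: `E = ⟨t, a, b⟩`. -/
theorem exists_sylow : ∃ (E : Sylow 2 G) (a b w : G), a ∈ K ∧ b ∈ K ∧ w ∈ K ∧
    a * a = 1 ∧ a ≠ 1 ∧ b * b = 1 ∧ b ≠ 1 ∧ a ≠ b ∧ a * b = b * a ∧ w ^ 3 = 1 ∧
    w * a * w⁻¹ = b ∧ w * b * w⁻¹ = a * b ∧
    ∀ x, x ∈ (E : Subgroup G) ↔ (x = 1 ∨ x = a ∨ x = b ∨ x = a * b ∨
      x = t ∨ x = t * a ∨ x = t * b ∨ x = t * (a * b)) := by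
  classical
  haveI : Fact (Nat.Prime 2) := ⟨Nat.prime_two⟩
  obtain ⟨a, b, w, ha, hb, hw, a2, a1, b2, b1, hab, hcomm, w3, hwa, hwb⟩ := hs.klein
  have hab2 : a * b * (a * b) = 1 := by
    rw [mul_assoc, ← mul_assoc b, ← hcomm, mul_assoc a b b, b2, mul_one, a2]
  have hi : ∀ {x : G}, x * x = 1 → x⁻¹ = x := fun h => inv_eq_of_mul_eq_one_right h
  let V0 : Subgroup G :=
    { carrier := {x | x = 1 ∨ x = a ∨ x = b ∨ x = a * b}
      one_mem' := Or.inl rfl
      mul_mem' := by
        have e1 : b * a = a * b := hcomm.symm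
        have e2 : a * (a * b) = b := by rw [← mul_assoc, a2, one_mul]
        have e3 : b * (a * b) = a := by rw [hcomm, ← mul_assoc, b2, one_mul]
        have e4 : a * b * a = b := by rw [hcomm, mul_assoc, a2, mul_one]
        have e5 : a * b * b = a := by rw [mul_assoc, b2, mul_one]
        rintro x y (rfl | rfl | rfl | rfl) (rfl | rfl | rfl | rfl) <;>
          simp only [Set.mem_ofPred_eq, one_mul, mul_one, a2, b2, e1, e2, e3, e4, e5, hab2,
            true_or, or_true]
      inv_mem' := by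
        rintro x (rfl | rfl | rfl | rfl) <;>
          simp only [Set.mem_ofPred_eq, inv_one, hi a2, hi b2, hi hab2, true_or, or_true] }
  have hV0 : ∀ x, x ∈ V0 ↔ (x = 1 ∨ x = a ∨ x = b ∨ x = a * b) := fun x => Iff.rfl
  have hV0K : ∀ x ∈ V0, x ∈ K := by
    rintro x (rfl | rfl | rfl | rfl)
    exacts [one_mem _, ha, hb, mul_mem ha hb]
  have hV04 : Nat.card V0 = 4 := by
    rw [← SetLike.coe_sort_coe, show (V0 : Set G) = {1, a, b, a * b} by ext x; simp [hV0],
      Nat.card_coe_set_eq]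
    have h1 : a * b ≠ 1 := fun e => hab (by rw [eq_inv_of_mul_eq_one_right e, hi a2])
    have h2 : a ≠ a * b := fun e => b1 (left_eq_mul.1 e)
    have h3 : b ≠ a * b := fun e => a1 (right_eq_mul.1 e)
    rw [Set.ncard_insert_of_notMem (by simp [Ne.symm a1, Ne.symm b1, Ne.symm h1]),
      Set.ncard_insert_of_notMem (by simp [hab, h2]), Set.ncard_pair h3]
  let E0 : Subgroup G :=
    { carrier := {x | x ∈ V0 ∨ t * x ∈ V0}
      one_mem' := Or.inl V0.one_mem
      mul_mem' := by
        intro x y hx hy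
        rcases hx with hx | hx <;> rcases hy with hy | hy
        · exact Or.inl (mul_mem hx hy)
        · exact Or.inr (by
            rw [← mul_assoc, hs.tK (hV0K x hx), mul_assoc]; exact mul_mem hx hy)
        · exact Or.inr (by rw [← mul_assoc]; exact mul_mem hx hy)
        · refine Or.inl ?_
          have e := mul_mem hx hy
          have hxt : t * x * t = x := (hs.tK (hV0K _ hx)).symm.trans (hs.split.cancel x)
          rwa [← mul_assoc, hxt] at e
      inv_mem' := by
        intro x hx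
        rcases hx with hx | hx
        · exact Or.inl (inv_mem hx)
        · refine Or.inr ?_
          have h := inv_mem hx
          rw [mul_inv_rev, hi hs.t_sq] at h
          have hk := hs.tK (hV0K _ h)
          rw [mul_assoc, hs.t_sq, mul_one] at hk
          rw [← hk, hs.split.cancel]
          exact h }
  have hsplit : TwoSplit t V0 E0 :=
    ⟨fun x hx => Or.inl hx, Or.inr (by rw [hs.t_sq]; exact one_mem _),
      fun h => hs.split.notMem (hV0K t h), hs.t_sq, fun x hx => hs.tK (hV0K x hx), fun x hx => hx⟩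
  have hE8 : Nat.card E0 = 8 := by rw [hsplit.card_eq, hV04]
  have hmult : (Nat.card G).factorization 2 = 3 := by
    have hG : Nat.card G = Nat.card (centralizer ({t} : Set G)) *
        (centralizer ({t} : Set G)).index := (card_mul_index _).symm
    obtain ⟨h8, h16⟩ := hs.sixteen_not_dvd
    have hn : ¬ 2 ∣ (centralizer ({t} : Set G)).index := by
      rw [Nat.two_dvd_ne_zero, ← Nat.odd_iff]; exact hs.index_odd
    have hC0 : Nat.card (centralizer ({t} : Set G)) ≠ 0 := Nat.card_pos.ne'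
    rw [hG, Nat.factorization_mul hC0 index_ne_zero_of_finite, Finsupp.add_apply,
      Nat.factorization_eq_zero_of_not_dvd hn, add_zero]
    refine le_antisymm ?_ ?_
    · by_contra h
      exact h16 ((Nat.prime_two.pow_dvd_iff_le_factorization hC0 (k := 4)).2 (by omega))
    · exact (Nat.prime_two.pow_dvd_iff_le_factorization hC0 (k := 3)).1 h8
  refine ⟨Sylow.ofCard E0 (by rw [hE8, hmult]; norm_num), a, b, w, ha, hb, hw, a2, a1, b2, b1,
    hab, hcomm, w3, hwa, hwb, fun x => ?_⟩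
  show (x ∈ V0 ∨ t * x ∈ V0) ↔ _
  simp only [hV0]
  have e : ∀ c : G, t * x = c ↔ x = t * c := fun c =>
    ⟨fun h => by rw [← h, hs.split.cancel], fun h => by rw [h, hs.split.cancel]⟩
  simp only [e, mul_one]
  tauto

theorem two_group_sq {P : Subgroup G} (hP : IsPGroup 2 P) {x : G} (hx : x ∈ P) : x * x = 1 := by
  haveI : Fact (Nat.Prime 2) := ⟨Nat.prime_two⟩
  obtain ⟨E, a, b, w, ha, hb, -, a2, -, b2, -, -, hcomm, -, -, -, hE⟩ := hs.exists_sylow
  obtain ⟨R, hR⟩ := hP.exists_le_sylow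
  obtain ⟨g, hg⟩ := MulAction.exists_smul_eq G E R
  have hxR := hR hx
  rw [← hg, Sylow.coe_subgroup_smul] at hxR
  obtain ⟨e, he, rfl⟩ := hxR
  have hab2 : a * b * (a * b) = 1 := by
    rw [mul_assoc, ← mul_assoc b, ← hcomm, mul_assoc a b b, b2, mul_one, a2]
  have hsq : ∀ {k : G}, k ∈ K → k * k = 1 → t * k * (t * k) = 1 := fun {k} hk h => by
    calc t * k * (t * k) = t * k * (k * t) := by rw [← hs.tK hk]
      _ = t * (k * k) * t := by group
      _ = 1 := by rw [h, mul_one, hs.t_sq]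
  have he2 : e * e = 1 := by
    rcases (hE e).1 he with rfl | rfl | rfl | rfl | rfl | rfl | rfl | rfl
    exacts [one_mul 1, a2, b2, hab2, hs.t_sq, hsq ha a2, hsq hb b2, hsq (mul_mem ha hb) hab2]
  show MulAut.conj g e * MulAut.conj g e = 1
  rw [← map_mul, he2, map_one]

theorem two_group_comm {P : Subgroup G} (hP : IsPGroup 2 P) {x y : G} (hx : x ∈ P) (hy : y ∈ P) :
    x * y = y * x := by
  rw [← inv_eq_of_mul_eq_one_right (hs.two_group_sq hP (mul_mem hx hy)), mul_inv_rev,
    inv_eq_of_mul_eq_one_right (hs.two_group_sq hP hx),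
    inv_eq_of_mul_eq_one_right (hs.two_group_sq hP hy)]

/-- All involutions are conjugate to `t`. -/
theorem conj_t (i : G) (hi : i * i = 1) (hi1 : i ≠ 1) : IsConj t i := by
  classical
  haveI : Fact (Nat.Prime 2) := ⟨Nat.prime_two⟩
  haveI := hs.simple
  obtain ⟨E, a, b, w, ha, hb, hw, a2, a1, b2, b1, hab, hcomm, w3, hwa, hwb, hE⟩ := hs.exists_sylow
  set N := normalizer ((E : Subgroup G) : Set G) with hN
  have hp : IsPGroup 2 (zpowers i) :=
    IsPGroup.of_card (n := 1) (by rw [Nat.card_zpowers, pow_one, orderOf_sq_dvd hi hi1])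
  obtain ⟨R, hR⟩ := hp.exists_le_sylow
  obtain ⟨g, hg⟩ := MulAction.exists_smul_eq G E R
  have hiR : i ∈ (R : Subgroup G) := hR (mem_zpowers i)
  rw [← hg, Sylow.coe_subgroup_smul] at hiR
  obtain ⟨e, he, rfl⟩ := hiR
  have he1 : e ≠ 1 := fun h => hi1 (by rw [h]; exact map_one (MulAut.conj g))
  refine IsConj.trans ?_ (isConj_iff.2 ⟨g, rfl⟩)
  -- the orbit of `t` under the normaliser of `E`
  suffices h : ∀ e ∈ (E : Subgroup G), e ≠ 1 → ∃ n ∈ N, n * t * n⁻¹ = e by
    obtain ⟨n, -, hn⟩ := h e he he1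
    exact isConj_iff.2 ⟨n, hn⟩
  have htE : t ∈ (E : Subgroup G) := (hE t).2 (by tauto)
  let O : Set G := {x | ∃ n ∈ N, n * t * n⁻¹ = x}
  have hOE : ∀ x ∈ O, x ∈ (E : Subgroup G) ∧ x ≠ 1 := by
    rintro x ⟨n, hn, rfl⟩
    exact ⟨(mem_normalizer_iff.1 hn t).1 htE, fun h => hs.t_ne (conj_eq_one_iff.1 h)⟩
  have htO : t ∈ O := ⟨1, one_mem _, by group⟩
  have hwt : w * t * w⁻¹ = t := by rw [← hs.tK hw, mul_inv_cancel_right]
  have hwab : w * (a * b) * w⁻¹ = a := by
    calc w * (a * b) * w⁻¹ = w * a * w⁻¹ * (w * b * w⁻¹) := by group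
      _ = a := by rw [hwa, hwb, hcomm, ← mul_assoc, b2, one_mul]
  have hmul : ∀ x y : G, w * x * w⁻¹ = y → w * (t * x) * w⁻¹ = t * y := fun x y h => by
    rw [← h, ← mul_assoc w t x, ← hs.tK hw]; group
  have hwN : w ∈ N := by
    have hle : ∀ x ∈ (E : Subgroup G), w * x * w⁻¹ ∈ (E : Subgroup G) := by
      intro x hx
      rcases (hE x).1 hx with rfl | rfl | rfl | rfl | rfl | rfl | rfl | rfl
      · rw [mul_one, mul_inv_cancel]; exact one_mem _
      · rw [hwa]; exact (hE _).2 (by tauto)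
      · rw [hwb]; exact (hE _).2 (by tauto)
      · rw [hwab]; exact (hE _).2 (by tauto)
      · rw [hwt]; exact htE
      · rw [hmul _ _ hwa]; exact (hE _).2 (by tauto)
      · rw [hmul _ _ hwb]; exact (hE _).2 (by tauto)
      · rw [hmul _ _ hwab]; exact (hE _).2 (by tauto)
    refine mem_normalizer_iff.2 fun x => ⟨hle x, fun hx => ?_⟩
    have h := hle _ (hle _ hx)
    have e : w * (w * (w * x * w⁻¹) * w⁻¹) * w⁻¹ = (w ^ 3) * x * (w ^ 3)⁻¹ := by
      simp only [pow_succ, pow_zero, one_mul, mul_inv_rev, mul_assoc]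
    rw [e, w3, one_mul, inv_one, mul_one] at h
    exact h
  have hOw : ∀ x ∈ O, w * x * w⁻¹ ∈ O := by
    rintro x ⟨n, hn, rfl⟩
    exact ⟨w * n, mul_mem hwN hn, by group⟩
  have hodd : Odd O.ncard := by
    have hst : O.ncard = ((centralizer ({t} : Set G)).subgroupOf N).index := by
      rw [← Nat.card_coe_set_eq, index_eq_card]
      symm
      refine Nat.card_eq_of_bijective
        (fun c : N ⧸ (centralizer ({t} : Set G)).subgroupOf N =>
          Quotient.liftOn' c (fun n : N => (⟨(n : G) * t * (n : G)⁻¹, n, n.2, rfl⟩ : O))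
            (fun m n hmn => Subtype.ext (by
              rw [QuotientGroup.leftRel_apply, mem_subgroupOf, mem_centralizer_singleton_iff] at hmn
              simp only [Subgroup.coe_mul, Subgroup.coe_inv] at hmn
              show (m : G) * t * (m : G)⁻¹ = (n : G) * t * (n : G)⁻¹
              calc (m : G) * t * (m : G)⁻¹
                  = (m : G) * (t * ((m : G)⁻¹ * n)) * (n : G)⁻¹ := by group
                _ = (n : G) * t * (n : G)⁻¹ := by rw [← hmn]; group)))
        ⟨?_, ?_⟩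
      · intro c d
        induction c using QuotientGroup.induction_on with
        | _ m =>
          induction d using QuotientGroup.induction_on with
          | _ n =>
            intro h
            have h' : (m : G) * t * (m : G)⁻¹ = (n : G) * t * (n : G)⁻¹ := congrArg Subtype.val h
            rw [QuotientGroup.eq, mem_subgroupOf, mem_centralizer_singleton_iff]
            simp only [Subgroup.coe_mul, Subgroup.coe_inv]
            calc (m : G)⁻¹ * n * t = (m : G)⁻¹ * ((n : G) * t * (n : G)⁻¹) * n := by group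
              _ = t * ((m : G)⁻¹ * n) := by rw [← h']; group
      · rintro ⟨x, n, hn, rfl⟩
        exact ⟨((⟨n, hn⟩ : N) : N ⧸ (centralizer ({t} : Set G)).subgroupOf N), rfl⟩
    rw [hst, Nat.odd_iff, ← Nat.two_dvd_ne_zero]
    intro h2
    have hle : (E : Subgroup G).subgroupOf N ≤ (centralizer ({t} : Set G)).subgroupOf N := by
      intro x hx
      rw [mem_subgroupOf] at hx ⊢
      exact mem_centralizer_singleton_iff.2 (hs.two_group_comm E.isPGroup' hx htE)
    exact E.not_dvd_index (h2.trans ((index_dvd_of_le hle).trans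
      (relIndex_dvd_index_of_le le_normalizer)))
  have hab2 : a * b ≠ 1 := fun e => hab (by
    rw [eq_inv_of_mul_eq_one_right e, inv_eq_of_mul_eq_one_right a2])
  have hA : a ∈ O ∨ b ∈ O ∨ a * b ∈ O → a ∈ O ∧ b ∈ O ∧ a * b ∈ O := by
    intro h
    have s1 : a ∈ O → b ∈ O := fun h => hwa ▸ hOw a h
    have s2 : b ∈ O → a * b ∈ O := fun h => hwb ▸ hOw b h
    have s3 : a * b ∈ O → a ∈ O := fun h => hwab ▸ hOw _ h
    tauto
  have hB : t * a ∈ O ∨ t * b ∈ O ∨ t * (a * b) ∈ O →
      t * a ∈ O ∧ t * b ∈ O ∧ t * (a * b) ∈ O := by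
    intro h
    have s1 : t * a ∈ O → t * b ∈ O := fun h => hmul _ _ hwa ▸ hOw _ h
    have s2 : t * b ∈ O → t * (a * b) ∈ O := fun h => hmul _ _ hwb ▸ hOw _ h
    have s3 : t * (a * b) ∈ O → t * a ∈ O := fun h => hmul _ _ hwab ▸ hOw _ h
    tauto
  have h4 : ∀ x y z : G, x ∈ K → y ∈ K → z ∈ K → x ≠ 1 → y ≠ 1 → z ≠ 1 → x ≠ y → x ≠ z → y ≠ z →
      O ≠ {t, x, y, z} ∧ O ≠ {t, t * x, t * y, t * z} := by
    intro x y z hx hy hz x1 y1 z1 hxy hxz hyz
    have n : ∀ k ∈ K, t ≠ k := fun k hk e => hs.split.notMem (e ▸ hk)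
    have n' : ∀ k : G, k ≠ 1 → t ≠ t * k := fun k hk e => hk (left_eq_mul.1 e)
    constructor <;> intro h <;> rw [h] at hodd
    · rw [Set.ncard_insert_of_notMem (by simp [n x hx, n y hy, n z hz]),
        Set.ncard_insert_of_notMem (by simp [hxy, hxz]), Set.ncard_pair hyz] at hodd
      exact absurd hodd (by decide)
    · rw [Set.ncard_insert_of_notMem (by simp [n' x x1, n' y y1, n' z z1]),
        Set.ncard_insert_of_notMem (by simp [hxy, hxz]),
        Set.ncard_pair (fun e => hyz (mul_left_cancel e))] at hodd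
      exact absurd hodd (by decide)
  have hKd := h4 a b (a * b) ha hb (mul_mem ha hb) a1 b1 hab2 hab
    (fun e => b1 (left_eq_mul.1 e)) (fun e => a1 (right_eq_mul.1 e))
  -- `t` is not fixed by the normaliser
  have hnfix : ∃ x ∈ O, x ≠ t := by
    by_contra hcon
    push Not at hcon
    have hEC : (E : Subgroup G) ≤ centralizer ({t} : Set G) := fun x hx =>
      mem_centralizer_singleton_iff.2 (hs.two_group_comm E.isPGroup' hx htE)
    let φ : (E : Subgroup G) →* ℂˣ := hs.split.sign.comp (Subgroup.inclusion hEC)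
    have hV : MonoidHom.transfer φ t = φ ⟨t, htE⟩ :=
      CfsgLib.CentralTransfer.transfer_central_involution φ htE (by rw [pow_two, hs.t_sq])
        (fun x hx => hs.two_group_comm E.isPGroup' hx htE) (fun n hn h => by
          congr 1
          refine Subtype.ext ?_
          have := hcon _ ⟨n⁻¹, inv_mem hn, rfl⟩
          rwa [inv_inv] at this)
    have hφ : φ ⟨t, htE⟩ = -1 :=
      hs.split.sign_of_notMem (d := Subgroup.inclusion hEC ⟨t, htE⟩) hs.split.notMem
    have hker : t ∈ (MonoidHom.transfer φ).ker := by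
      have hcomm : (commutator G).Normal := inferInstance
      rcases hcomm.eq_bot_or_eq_top with h | h
      · exfalso
        refine hs.nonab ⟨⟨fun x y => ?_⟩⟩
        have : ⁅x, y⁆ ∈ commutator G := commutator_mem_commutator (mem_top x) (mem_top y)
        rw [h, mem_bot] at this
        exact commutatorElement_eq_one_iff_mul_comm.1 this
      · exact Abelianization.commutator_subset_ker _ (h ▸ mem_top t)
    rw [MonoidHom.mem_ker, hV, hφ] at hker
    have := congrArg Units.val hker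
    norm_num at this
  obtain ⟨x, hxO, hxt⟩ := hnfix
  have hsub : ∀ y ∈ O, y = t ∨ y = a ∨ y = b ∨ y = a * b ∨ y = t * a ∨ y = t * b ∨
      y = t * (a * b) := by
    intro y hy
    obtain ⟨h1, h2⟩ := hOE y hy
    have := (hE y).1 h1
    tauto
  have hall : (a ∈ O ∧ b ∈ O ∧ a * b ∈ O) ∧ t * a ∈ O ∧ t * b ∈ O ∧ t * (a * b) ∈ O := by
    by_cases hcA : a ∈ O ∨ b ∈ O ∨ a * b ∈ O <;>
      by_cases hcB : t * a ∈ O ∨ t * b ∈ O ∨ t * (a * b) ∈ O
    · exact ⟨hA hcA, hB hcB⟩
    · exfalso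
      refine hKd.1 (Set.Subset.antisymm (fun y hy => ?_) ?_)
      · rcases hsub y hy with h | h | h | h | h | h | h
        · exact Or.inl h
        · exact Or.inr (Or.inl h)
        · exact Or.inr (Or.inr (Or.inl h))
        · exact Or.inr (Or.inr (Or.inr h))
        · exact absurd (Or.inl (h ▸ hy)) hcB
        · exact absurd (Or.inr (Or.inl (h ▸ hy))) hcB
        · exact absurd (Or.inr (Or.inr (h ▸ hy))) hcB
      · obtain ⟨h1, h2, h3⟩ := hA hcA
        rintro y (rfl | rfl | rfl | rfl) <;> assumption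
    · exfalso
      refine hKd.2 (Set.Subset.antisymm (fun y hy => ?_) ?_)
      · rcases hsub y hy with h | h | h | h | h | h | h
        · exact Or.inl h
        · exact absurd (Or.inl (h ▸ hy)) hcA
        · exact absurd (Or.inr (Or.inl (h ▸ hy))) hcA
        · exact absurd (Or.inr (Or.inr (h ▸ hy))) hcA
        · exact Or.inr (Or.inl h)
        · exact Or.inr (Or.inr (Or.inl h))
        · exact Or.inr (Or.inr (Or.inr h))
      · obtain ⟨h1, h2, h3⟩ := hB hcB
        rintro y (rfl | rfl | rfl | rfl) <;> assumption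
    · exfalso
      rcases hsub x hxO with h | h | h | h | h | h | h
      · exact hxt h
      · exact hcA (Or.inl (h ▸ hxO))
      · exact hcA (Or.inr (Or.inl (h ▸ hxO)))
      · exact hcA (Or.inr (Or.inr (h ▸ hxO)))
      · exact hcB (Or.inl (h ▸ hxO))
      · exact hcB (Or.inr (Or.inl (h ▸ hxO)))
      · exact hcB (Or.inr (Or.inr (h ▸ hxO)))
  intro y hy hy1
  rcases (hE y).1 hy with rfl | rfl | rfl | rfl | rfl | rfl | rfl | rfl
  exacts [absurd rfl hy1, hall.1.1, hall.1.2.1, hall.1.2.2, htO, hall.2.1, hall.2.2.1, hall.2.2.2]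

theorem eq_of_comm_involution {P : Subgroup G} (hP : IsPGroup 2 P) {i x : G} (hi : i ∈ P)
    (hx : x ∈ P) (h : x * i = i * x → x * x = 1 → x = 1 ∨ x = i) : x = 1 ∨ x = i :=
  h (hs.two_group_comm hP hx hi) (hs.two_group_sq hP hx)

/-- A subgroup whose involutions commuting with `i` reduce to `i` has a normal odd half. -/
theorem exists_half (H : Subgroup G) {i : G} (hiH : i ∈ H) (hi : i * i = 1) (hi1 : i ≠ 1)
    (hP : ∀ x ∈ H, x * x = 1 → x * i = i * x → x = 1 ∨ x = i) :
    ∃ D : Subgroup G, D ≤ H ∧ Odd (Nat.card D) ∧ i ∉ D ∧ (∀ x ∈ H, x ∈ D ∨ i * x ∈ D) ∧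
      (∀ h ∈ H, ∀ x ∈ D, h * x * h⁻¹ ∈ D) ∧ ∀ x ∈ H, ∀ k : ℕ, Odd k → x ^ k = 1 → x ∈ D := by
  classical
  haveI : Fact (Nat.Prime 2) := ⟨Nat.prime_two⟩
  set i' : H := ⟨i, hiH⟩ with hi'
  have hp : IsPGroup 2 (zpowers i') := IsPGroup.of_card (n := 1) (by
    rw [Nat.card_zpowers, pow_one, ← orderOf_submonoid]; exact orderOf_sq_dvd hi hi1)
  obtain ⟨P, hP'⟩ := hp.exists_le_sylow
  have hPi : ∀ x ∈ (P : Subgroup H), x = 1 ∨ x = i' := by
    intro x hx
    have hPG : IsPGroup 2 ((P : Subgroup H).map H.subtype) := P.isPGroup'.map _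
    rcases hs.eq_of_comm_involution hPG (i := i) (x := x)
      ⟨i', hP' (mem_zpowers i'), rfl⟩ ⟨x, hx, rfl⟩
      (fun h1 h2 => hP x x.2 h2 h1) with h | h
    · exact Or.inl (Subtype.ext h)
    · exact Or.inr (Subtype.ext h)
  have hiP : i' ∈ (P : Subgroup H) := hP' (mem_zpowers i')
  have hi'1 : i' ≠ 1 := fun e => hi1 (congrArg Subtype.val e)
  have hcard : Nat.card (P : Subgroup H) = 2 := by
    rw [← SetLike.coe_sort_coe, Nat.card_coe_set_eq,
      show ((P : Subgroup H) : Set H) = {1, i'} from Set.ext fun x =>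
        ⟨fun h => hPi x h, fun h => by rcases h with rfl | rfl; exacts [one_mem _, hiP]⟩,
      Set.ncard_pair hi'1.symm]
  have hle : normalizer ((P : Subgroup H) : Set H) ≤ centralizer ((P : Subgroup H) : Set H) := by
    intro n hn
    rw [mem_centralizer_iff]
    intro x hx
    rcases hPi x hx with rfl | rfl
    · rw [one_mul, mul_one]
    · rcases hPi _ ((mem_normalizer_iff.1 hn i').1 hiP) with h | h
      · exact absurd (conj_eq_one_iff.1 h) hi'1
      · exact (mul_inv_eq_iff_eq_mul.1 h).symm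
  have hc := MonoidHom.ker_transferSylow_isComplement' P hle
  set D' := (MonoidHom.transferSylow P hle).ker with hD'
  have hodd : Odd (Nat.card D') := by
    rw [Nat.odd_iff, ← Nat.two_dvd_ne_zero]
    intro h2
    exact P.not_dvd_index (by rwa [hc.index_eq_card])
  have hidx : D'.index = 2 := by rw [hc.symm.index_eq_card, hcard]
  have hiD : i' ∉ D' := fun h => hi'1 (CfsgLib.CentFour.eq_one_of_sq_of_odd hodd h
    (Subtype.ext (by simpa [pow_two] using hi)))
  have hnorm : D'.Normal := MonoidHom.normal_ker _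
  clear_value D'
  refine ⟨D'.map H.subtype, map_subtype_le D', ?_, ?_, ?_, ?_, ?_⟩
  · rwa [card_map_of_injective H.subtype_injective]
  · rintro ⟨x, hx, he⟩
    exact hiD (by rwa [show i' = x from Subtype.ext he.symm])
  · intro x hx
    by_cases h : (⟨x, hx⟩ : H) ∈ D'
    · exact Or.inl ⟨_, h, rfl⟩
    · have hm : i' * (⟨x, hx⟩ : H) ∈ D' := (mul_mem_iff_of_index_two hidx).2 (iff_of_false hiD h)
      exact Or.inr ⟨i' * ⟨x, hx⟩, hm, rfl⟩
  · rintro h hh _ ⟨x, hx, rfl⟩
    exact ⟨⟨h, hh⟩ * x * ⟨h, hh⟩⁻¹, hnorm.conj_mem x hx _, rfl⟩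
  · intro x hx k hk hxk
    refine ⟨⟨x, hx⟩, ?_, rfl⟩
    by_contra h
    have hne : ∀ n : ℕ, Odd n → (⟨x, hx⟩ : H) ^ n ∉ D' := by
      rintro n ⟨r, rfl⟩ hm
      rw [pow_succ, pow_mul] at hm
      have : ((⟨x, hx⟩ : H) ^ 2) ^ r ∈ D' := pow_mem (by
        rw [pow_two]; exact (mul_mem_iff_of_index_two hidx).2 Iff.rfl) r
      exact h ((D'.mul_mem_cancel_left this).1 hm)
    exact hne k hk (by
      rw [show (⟨x, hx⟩ : H) ^ k = 1 from Subtype.ext hxk]; exact one_mem _)

/-- A 3-subgroup of order `q` in `K`, equal to the centralisers in `K` of its elements. -/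
theorem exists_T0 : ∃ T : Subgroup G, T ≤ K ∧ Nat.card T = q ∧ IsPGroup 3 T ∧
    (∀ a ∈ T, ∀ b ∈ T, a * b = b * a) ∧
    (∀ a ∈ T, orderOf a = 3 → ∀ k ∈ K, k * a = a * k → k ∈ T) := by
  classical
  haveI : Fact (Nat.Prime 3) := ⟨Nat.prime_three⟩
  have h := hs.kf.card3
  have hq : 27 * 27 ≤ q ^ 2 := by rw [pow_two]; exact Nat.mul_le_mul hs.q_ge hs.q_ge
  obtain ⟨⟨k0, hk0⟩⟩ := (Nat.card_pos_iff.1 (show 0 < Nat.card {k : K // orderOf k = 3} by omega)).1
  obtain ⟨hcard, hab⟩ := hs.kf.cent3 k0 hk0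
  set T' := centralizer ({k0} : Set K) with hT'
  refine ⟨T'.map K.subtype, map_subtype_le T',
    by rw [card_map_of_injective K.subtype_injective, hcard], ?_, ?_, ?_⟩
  · obtain ⟨f, hf⟩ := hs.qpow
    exact IsPGroup.of_card (n := f) (by rw [card_map_of_injective K.subtype_injective, hcard, hf])
  · rintro _ ⟨a, ha, rfl⟩ _ ⟨b, hb, rfl⟩
    rw [← map_mul, hab a ha b hb, map_mul]
  · rintro _ ⟨a, ha, rfl⟩ ha3 k hk hka
    have ha3' : orderOf a = 3 := by rwa [coe_subtype, orderOf_submonoid] at ha3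
    obtain ⟨hca, -⟩ := hs.kf.cent3 a ha3'
    have heq : T' = centralizer ({a} : Set K) :=
      eq_of_le_of_card_ge (fun x hx => mem_centralizer_singleton_iff.2 (hab x hx a ha))
        (by rw [hca, hcard])
    exact ⟨⟨k, hk⟩, heq.symm ▸ mem_centralizer_singleton_iff.2 (Subtype.ext hka), rfl⟩

theorem no_involution_normalizes {T : Subgroup G} (hTK : T ≤ K) (hT : Nat.card T = q)
    (hp : IsPGroup 3 T) {k : G} (hk : k ∈ K) (hk2 : k * k = 1) (hk1 : k ≠ 1)
    (hn : ∀ x ∈ T, k * x * k⁻¹ ∈ T) : False := by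
  classical
  haveI : Fact (Nat.Prime 3) := ⟨Nat.prime_three⟩
  have hki : k⁻¹ = k := inv_eq_of_mul_eq_one_right hk2
  have hord3 : ∀ x ∈ T, x ≠ 1 → ∃ n : ℕ, orderOf (x ^ n) = 3 := by
    intro x hx hx1
    obtain ⟨j, hj⟩ := hp ⟨x, hx⟩
    have hj' : x ^ 3 ^ j = 1 := by simpa using congrArg Subtype.val hj
    obtain ⟨r, hr⟩ := (Nat.dvd_prime_pow Nat.prime_three).1 (orderOf_dvd_of_pow_eq_one hj')
    rcases r with _ | r
    · exact absurd (orderOf_eq_one_iff.1 (by simpa using hr.2)) hx1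
    · exact ⟨3 ^ r, by
        rw [orderOf_pow_of_dvd (by positivity) (by rw [hr.2, pow_succ]; exact Dvd.intro 3 rfl), hr.2,
          pow_succ, Nat.mul_div_cancel_left _ (by positivity)]⟩
  -- no element of order three commutes with `k`
  have hnc : ∀ x ∈ T, orderOf x = 3 → k * x ≠ x * k := by
    intro x hx hx3 hc
    obtain ⟨hcard, -⟩ := hs.kf.cent3 ⟨x, hTK hx⟩ (by rw [← orderOf_submonoid]; exact hx3)
    set C := centralizer ({(⟨x, hTK hx⟩ : K)} : Set K)
    set k' : C := ⟨⟨k, hk⟩, mem_centralizer_singleton_iff.2 (Subtype.ext hc)⟩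
    have h2 : orderOf k' = 2 := by
      rw [← orderOf_submonoid, ← orderOf_submonoid]; exact orderOf_sq_dvd hk2 hk1
    have := orderOf_dvd_natCard k'
    rw [hcard, h2] at this
    have := hs.qmod
    omega
  obtain ⟨x, hx, hx1⟩ := (bot_or_exists_ne_one T).resolve_left fun h => by
    rw [h, card_bot] at hT; have := hs.q_ge; omega
  obtain ⟨n, hn3⟩ := hord3 x hx hx1
  set a := x ^ n with ha
  have haT : a ∈ T := pow_mem hx n
  set c := k * a * k⁻¹ * a⁻¹ with hc
  have hcT : c ∈ T := mul_mem (hn a haT) (inv_mem haT)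
  have hc1 : c ≠ 1 := fun e => hnc a haT hn3 (by
    rw [hc, mul_inv_eq_one] at e; exact mul_inv_eq_iff_eq_mul.1 e)
  have hcinv : k * c * k = c⁻¹ := by
    calc k * c * k = (k * k) * a * (k⁻¹ * a⁻¹ * k) := by rw [hc]; group
      _ = c⁻¹ := by rw [hk2, one_mul, hc, hki]; simp [mul_assoc, hki]
  obtain ⟨m, hm⟩ := hord3 c hcT hc1
  refine hs.kf.no_inv ⟨c ^ m, hTK (pow_mem hcT m)⟩ (by rw [← orderOf_submonoid]; exact hm)
    ⟨k, hk⟩ (Subtype.ext hk2) (Subtype.ext ?_)
  show k * c ^ m * k = (c ^ m)⁻¹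
  have h := conj_pow (i := m) (a := k) (b := c)
  rw [hki, hcinv, inv_pow] at h
  exact h.symm

/-- If `3` divides the index of `C(t)`, an element of order a power of three is inverted. -/
theorem inverts_of_dvd (h3 : 3 ∣ (centralizer ({t} : Set G)).index) : Inverts 3 G := by
  classical
  haveI : Fact (Nat.Prime 3) := ⟨Nat.prime_three⟩
  haveI : Fact (Nat.Prime 2) := ⟨Nat.prime_two⟩
  obtain ⟨T, hTK, hT, hTp, hTab, -⟩ := hs.exists_T0
  obtain ⟨S, hTS⟩ := hTp.exists_le_sylow
  set H := normalizer (T : Set G) with hH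
  have hlt : T < (S : Subgroup G) := by
    refine lt_of_le_of_ne hTS fun e => S.not_dvd_index ?_
    have hd : (centralizer ({t} : Set G)).index ∣ T.index :=
      index_dvd_of_le (hTK.trans hs.split.le)
    rw [← e]
    exact h3.trans hd
  obtain ⟨R, hRp, hTR, hRH⟩ : ∃ R : Subgroup G, IsPGroup 3 R ∧ q < Nat.card R ∧ R ≤ H := by
    have hnc : NormalizerCondition (S : Subgroup G) :=
      normalizerCondition_of_isNilpotent (h := S.isPGroup'.isNilpotent)
    have hTS' : T.subgroupOf (S : Subgroup G) < ⊤ := lt_top_iff_ne_top.2 fun e =>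
      hlt.ne (le_antisymm hTS (subgroupOf_eq_top.1 e))
    have hlt' := hnc _ hTS'
    set R' := normalizer ((T.subgroupOf (S : Subgroup G)) : Set (S : Subgroup G))
    refine ⟨R'.map (S : Subgroup G).subtype, (S.isPGroup'.to_subgroup R').map _, ?_, ?_⟩
    · rw [card_map_of_injective (S : Subgroup G).subtype_injective, ← hT,
        ← Nat.card_congr (subgroupOfEquivOfLe hTS).toEquiv]
      by_contra hle
      exact hlt'.ne (eq_of_le_of_card_ge le_normalizer (le_of_not_gt hle))
    · rintro _ ⟨r, hr, rfl⟩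
      refine mem_normalizer_iff.2 fun x => ⟨fun hx => ?_, fun hx => ?_⟩
      · exact mem_subgroupOf.1 ((mem_normalizer_iff.1 hr ⟨x, hTS hx⟩).1 (mem_subgroupOf.2 hx))
      · have hxS : x ∈ (S : Subgroup G) := by
          have := mul_mem (mul_mem (inv_mem r.2) (hTS hx)) r.2
          simpa [mul_assoc] using this
        exact mem_subgroupOf.1 ((mem_normalizer_iff.1 hr ⟨x, hxS⟩).2 (mem_subgroupOf.2 hx))
  have htH : t ∈ H := mem_normalizer_iff.2 fun x => by
    constructor <;> intro hx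
    · rwa [hs.tK (hTK hx), mul_inv_cancel_right]
    · have := hs.tK (hTK hx)
      rw [inv_eq_of_mul_eq_one_right hs.t_sq] at hx this
      have e : x = t * x * t := by
        calc x = t * (t * x * t) * t := by rw [← mul_assoc, ← mul_assoc, hs.t_sq, one_mul, mul_assoc, hs.t_sq, mul_one]
          _ = t * x * t * t * t := by rw [this]
          _ = t * x * t := by rw [mul_assoc _ t t, hs.t_sq, mul_one]
      rw [e]; exact hx
  have hP : ∀ x ∈ H, x * x = 1 → x * t = t * x → x = 1 ∨ x = t := by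
    intro x hx hx2 hxt
    have hnorm : ∀ {k : G}, k ∈ K → k ∈ H → k * k = 1 → k = 1 := fun hk hkH hk2 => by
      by_contra hk1
      exact hs.no_involution_normalizes hTK hT hTp hk hk2 hk1
        fun y hy => (mem_normalizer_iff.1 hkH y).1 hy
    rcases hs.split.cover x (mem_centralizer_singleton_iff.2 hxt) with hk | hk
    · exact Or.inl (hnorm hk hx hx2)
    · right
      have h := hnorm hk (mul_mem htH hx) (by
        rw [mul_assoc, ← mul_assoc x t, hxt, mul_assoc t x x, hx2, mul_one, hs.t_sq])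
      calc x = t * (t * x) := (hs.split.cancel x).symm
        _ = t := by rw [h, mul_one]
  obtain ⟨D, hDH, hDodd, htD, hcov, hDn, hDodd'⟩ := hs.exists_half H htH hs.t_sq hs.t_ne hP
  have hRD : R ≤ D := fun x hx => by
    obtain ⟨j, hj⟩ := hRp ⟨x, hx⟩
    exact hDodd' x (hRH hx) (3 ^ j) (Odd.pow (by decide)) (by simpa using congrArg Subtype.val hj)
  obtain ⟨P, hRP⟩ := (hRp.comap_subtype (K := D)).exists_le_sylow
  -- `t` acts on `D`, and some conjugate of it fixes `P`
  have htD' : ∀ x ∈ D, t * x * t ∈ D := fun x hx => by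
    have := hDn t htH x hx
    rwa [inv_eq_of_mul_eq_one_right hs.t_sq] at this
  let θ : D ≃* D :=
    { toFun := fun x => ⟨t * x * t, htD' x x.2⟩
      invFun := fun x => ⟨t * x * t, htD' x x.2⟩
      left_inv := fun x => Subtype.ext (by
        show t * (t * (x : G) * t) * t = x
        rw [← mul_assoc, ← mul_assoc, hs.t_sq, one_mul, mul_assoc, hs.t_sq, mul_one])
      right_inv := fun x => Subtype.ext (by
        show t * (t * (x : G) * t) * t = x
        rw [← mul_assoc, ← mul_assoc, hs.t_sq, one_mul, mul_assoc, hs.t_sq, mul_one])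
      map_mul' := fun x y => Subtype.ext (by
        show t * ((x : G) * y) * t = t * x * t * (t * y * t)
        calc t * ((x : G) * y) * t = t * x * (t * t) * y * t := by rw [hs.t_sq, mul_one]; group
          _ = t * x * t * (t * y * t) := by group) }
  let act : Sylow 3 D → Sylow 3 D := fun Q => Q.comapOfInjective θ.toMonoidHom θ.injective
    (fun x _ => ⟨θ.symm x, θ.apply_symm_apply x⟩)
  have hinv : ∀ Q, act (act Q) = Q := fun Q => Sylow.ext (Subgroup.ext fun x => by
    show θ (θ x) ∈ (Q : Subgroup D) ↔ x ∈ (Q : Subgroup D)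
    rw [show θ (θ x) = x from θ.left_inv x])
  obtain ⟨Q, hQ⟩ : ∃ Q, act Q = Q := by
    by_contra hcon
    push Not at hcon
    haveI := Fintype.ofFinite (Sylow 3 D)
    have hev : Even (Fintype.card (Sylow 3 D)) := by
      have := Equiv.Perm.card_compl_support_modEq (p := 2) (n := 1)
        (σ := Function.Involutive.toPerm act hinv)
        (by rw [pow_one, pow_two]; exact Equiv.ext hinv)
      have hsupp : (Function.Involutive.toPerm act hinv).supportᶜ = ∅ :=
        Finset.eq_empty_of_forall_notMem fun Q hQ => hcon Q (by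
          rw [Finset.mem_compl, Equiv.Perm.mem_support, not_not] at hQ
          exact hQ)
      rw [hsupp, Finset.card_empty] at this
      exact Nat.even_iff.2 this.symm
    have hdvd : Nat.card (Sylow 3 D) ∣ Nat.card D := by
      rw [Sylow.card_eq_index_normalizer P]; exact index_dvd_card _
    rw [Nat.card_eq_fintype_card] at hdvd
    exact Nat.not_even_iff_odd.2 hDodd ((even_iff_two_dvd.1 hev).trans hdvd |> even_iff_two_dvd.2)
  have hQcard : q < Nat.card (Q : Subgroup D) := by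
    rw [Q.card_eq_multiplicity, ← P.card_eq_multiplicity]
    refine lt_of_lt_of_le ?_ (card_le_of_le hRP)
    exact lt_of_lt_of_eq hTR (Nat.card_congr (subgroupOfEquivOfLe hRD).toEquiv).symm
  set QG := (Q : Subgroup D).map D.subtype with hQG
  have hQGt : ∀ x ∈ QG, t * x * t ∈ QG := by
    rintro _ ⟨x, hx, rfl⟩
    refine ⟨θ x, ?_, rfl⟩
    rw [← hQ] at hx
    exact hx
  obtain ⟨x, hxQ, hxt⟩ : ∃ x ∈ QG, t * x * t ≠ x := by
    by_contra hcon
    push Not at hcon
    have := hs.three_group_le (R := QG) (Q.isPGroup'.map _) fun x hx =>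
      mem_centralizer_singleton_iff.2 (by
        calc x * t = t * x * t * t := by rw [hcon x hx]
          _ = t * x := by rw [mul_assoc, hs.t_sq, mul_one])
    rw [hQG, card_map_of_injective D.subtype_injective] at this
    omega
  have hy : x⁻¹ * (t * x * t) ∈ QG := mul_mem (inv_mem hxQ) (hQGt x hxQ)
  obtain ⟨j, hj⟩ := (Q.isPGroup'.map D.subtype) ⟨_, hy⟩
  refine inverts_of (k := j) hs.t_sq (x := x⁻¹ * (t * x * t))
    (fun e => hxt (inv_mul_eq_one.1 e).symm) ?_ ?_
  · simpa using congrArg Subtype.val hj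
  · calc t * (x⁻¹ * (t * x * t)) * t = t * x⁻¹ * t * x * (t * t) := by group
      _ = (x⁻¹ * (t * x * t))⁻¹ := by
        simp [hs.t_sq, mul_assoc, inv_eq_of_mul_eq_one_right hs.t_sq]

end RS

end CfsgLib.GoldFree
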