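import Cfsg.Agent.ZJ.DihedralSection
import Cfsg.Agent.QdUnitary.Involve

/-!
# Sections isomorphic to `S₄` and `S₃`
-/

set_option autoImplicit false
set_option linter.unusedSectionVars false
set_option linter.style.haveILetI false

namespace CfsgLib.GoldFree

open Subgroup

/-- The pairing of `{0,1,2,3}` containing `{a, b}`, numbered by the partner of `0`. -/
def pairIdx (a b : Fin 4) : Fin 3 :=
  ⟨((if a.val = 0 then b.val else if b.val = 0 then a.val else 6 - a.val - b.val) - 1) % 3,
    Nat.mod_lt _ (by norm_num)⟩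

/-- The action of `S₄` on the three pairings. -/
def pairFun (σ : Equiv.Perm (Fin 4)) (i : Fin 3) : Fin 3 := pairIdx (σ 0) (σ i.succ)

theorem pairFun_mul : ∀ σ τ : Equiv.Perm (Fin 4), ∀ i, pairFun (σ * τ) i = pairFun σ (pairFun τ i) := by
  decide +kernel

theorem pairFun_one : ∀ i, pairFun 1 i = i := by decide +kernel

/-- The homomorphism from `S₄` onto `S₃`. -/
def pairHom : Equiv.Perm (Fin 4) →* Equiv.Perm (Fin 3) where
  toFun σ :=
    { toFun := pairFun σ
      invFun := pairFun σ⁻¹
      left_inv := fun i => by rw [← pairFun_mul, inv_mul_cancel, pairFun_one]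
      right_inv := fun i => by rw [← pairFun_mul, mul_inv_cancel, pairFun_one] }
  map_one' := Equiv.ext pairFun_one
  map_mul' σ τ := Equiv.ext (pairFun_mul σ τ)

theorem pairHom_surjective : Function.Surjective pairHom := by decide +kernel

theorem pairHom_double : pairHom (Equiv.swap 0 1 * Equiv.swap 2 3) = 1 := by decide +kernel

variable {G : Type*} [Group G] [Finite G]

/-- A group with no element of order four involves no symmetric group of degree four. -/
theorem not_involves_four_of_orders (h : ∀ g : G, orderOf g ≠ 4) :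
    ¬ Cfsg.Involves (Equiv.Perm (Fin 4)) G := by
  intro hinv
  obtain ⟨K, f, hf⟩ := CfsgLib.ZJ.exists_surjective_of_involves hinv
  obtain ⟨x, hx⟩ := hf (finRotate 4)
  have h1 : orderOf (f x) ∣ orderOf x := orderOf_map_dvd f x
  have h4 : orderOf (f x) = 4 := by
    rw [hx]
    haveI : Fact (Nat.Prime 2) := ⟨Nat.prime_two⟩
    exact orderOf_eq_prime_pow (p := 2) (n := 1) (by decide +kernel) (by decide +kernel)
  rw [h4] at h1
  refine h ((x ^ (orderOf x / 4) : K) : G) ?_
  rw [orderOf_submonoid, orderOf_pow_of_dvd ?_ (Nat.div_dvd_of_dvd h1), Nat.div_div_self h1]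
  · exact (orderOf_pos x).ne'
  · exact (Nat.div_pos (Nat.le_of_dvd (orderOf_pos x) h1) (by norm_num)).ne'

/-- If, for every nontrivial 2-subgroup, the 2-elements of its normaliser lie in one 2-subgroup,
then no section is a symmetric group of degree four. -/
theorem not_involves_four_of_condition
    (hcond : ∀ P : Subgroup G, P ≠ ⊥ → IsPGroup 2 P → ∃ W : Subgroup G, IsPGroup 2 W ∧
      ∀ g ∈ normalizer (P : Set G), (∃ j, g ^ 2 ^ j = 1) → g ∈ W) :
    ¬ Cfsg.Involves (Equiv.Perm (Fin 4)) G := by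
  classical
  haveI : Fact (Nat.Prime 2) := ⟨Nat.prime_two⟩
  intro hinv
  obtain ⟨K, f, hf⟩ := CfsgLib.ZJ.exists_surjective_of_involves hinv
  set g := pairHom.comp f with hg
  have hgs : Function.Surjective g := pairHom_surjective.comp hf
  obtain ⟨d, hd⟩ := hf (Equiv.swap 0 1 * Equiv.swap 2 3)
  have hdM : d ∈ g.ker := by
    rw [MonoidHom.mem_ker, hg, MonoidHom.comp_apply, hd, pairHom_double]
  obtain ⟨P⟩ := (inferInstance : Nonempty (Sylow 2 g.ker))
  have hP : (P : Subgroup g.ker) ≠ ⊥ := by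
    refine P.ne_bot_of_dvd_card ?_
    have h2 : orderOf (f d) = 2 := by
      rw [hd]; exact orderOf_eq_prime (by decide +kernel) (by decide +kernel)
    rw [← h2]
    exact (orderOf_map_dvd f d).trans
      (by rw [← Subgroup.orderOf_mk d hdM]; exact orderOf_dvd_natCard _)
  set PK : Subgroup K := (P : Subgroup g.ker).map g.ker.subtype with hPK
  have hfr : normalizer (PK : Set K) ⊔ g.ker = ⊤ := Sylow.normalizer_sup_eq_top P
  set PG : Subgroup G := PK.map K.subtype with hPG
  have hPG1 : PG ≠ ⊥ := by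
    rw [hPG, ne_eq, map_eq_bot_iff_of_injective _ K.subtype_injective, hPK,
      map_eq_bot_iff_of_injective _ g.ker.subtype_injective]
    exact hP
  obtain ⟨W, hW, hWm⟩ := hcond PG hPG1 ((P.isPGroup'.map _).map _)
  let r : normalizer (PK : Set K) →* Equiv.Perm (Fin 3) := g.comp (normalizer (PK : Set K)).subtype
  have hrs : Function.Surjective r := by
    intro y
    obtain ⟨k, rfl⟩ := hgs y
    obtain ⟨a, ha, b, hb, rfl⟩ := Subgroup.mem_sup_of_normal_right.1 (hfr.ge (mem_top k))
    exact ⟨⟨a, ha⟩, by rw [map_mul, MonoidHom.mem_ker.1 hb, mul_one]; rfl⟩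
  have hlift : ∀ y : Equiv.Perm (Fin 3), y * y = 1 →
      ∃ x : normalizer (PK : Set K), ((x : K) : G) ∈ W ∧ r x = y := by
    intro y hy
    obtain ⟨x, ⟨j, hj⟩, hx⟩ := CfsgLib.QdUnitary.exists_pPower_lift (p := 2) r 1
      (y := y) (by rw [pow_one, pow_two, hy]) (hrs y)
    refine ⟨x, hWm _ ?_ ⟨j, by
      simpa using congrArg (fun z : normalizer (PK : Set K) => ((z : K) : G)) hj⟩, hx⟩
    exact le_normalizer_map K.subtype (mem_map_of_mem K.subtype x.2)
  obtain ⟨x, hxW, hx⟩ := hlift (Equiv.swap 0 1) (by decide)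
  obtain ⟨y, hyW, hy⟩ := hlift (Equiv.swap 1 2) (by decide)
  obtain ⟨j, hj⟩ := hW ⟨((x : K) : G) * (y : K), mul_mem hxW hyW⟩
  have hj' : (x * y) ^ 2 ^ j = 1 := Subtype.ext (Subtype.ext (by simpa using congrArg Subtype.val hj))
  have hc := congrArg r hj'
  rw [map_pow, map_mul, hx, hy, map_one] at hc
  have h3 : orderOf (Equiv.swap (0 : Fin 3) 1 * Equiv.swap 1 2) = 3 := by
    haveI : Fact (Nat.Prime 3) := ⟨Nat.prime_three⟩
    exact orderOf_eq_prime (by decide) (by decide)
  have hd3 := orderOf_dvd_of_pow_eq_one hc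
  rw [h3] at hd3
  have := Nat.prime_three.dvd_of_dvd_pow hd3
  norm_num at this

/-- No inverted element when three does not divide the order. -/
theorem not_inverts_of_not_dvd (h : ¬ 3 ∣ Nat.card G) : ¬ CfsgLib.ZJ.Inverts 3 G := by
  rintro ⟨g, x, hx, ⟨k, hk⟩, -⟩
  obtain ⟨r, -, hr⟩ := (Nat.dvd_prime_pow Nat.prime_three).1 (orderOf_dvd_of_pow_eq_one hk)
  rcases r with _ | r
  · exact hx (orderOf_eq_one_iff.1 (by simpa using hr))
  · exact h ((Dvd.intro_left _ (pow_succ 3 r).symm).trans (hr ▸ orderOf_dvd_natCard x))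

end CfsgLib.GoldFree
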