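import Cfsg.Agent.Char.Generalized
import Mathlib.GroupTheory.Subgroup.Centralizer
import Mathlib.Algebra.BigOperators.Fin

/-!
# Splitting off a central involution

`TwoSplit a H D` says `D = ⟨a⟩ × H` for an involution `a`: the sign, the projection, sums.
-/

set_option autoImplicit false

namespace CfsgLib.GoldFree

universe u

variable {G : Type u} [Group G]

/-- `D` is the direct product of `⟨a⟩` (order two) and `H`. -/
structure TwoSplit (a : G) (H D : Subgroup G) : Prop where
  le : H ≤ D
  mem : a ∈ D
  notMem : a ∉ H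
  sq : a * a = 1
  comm : ∀ h ∈ H, a * h = h * a
  cover : ∀ d ∈ D, d ∈ H ∨ a * d ∈ H

namespace TwoSplit

variable {a : G} {H D : Subgroup G} (s : TwoSplit a H D)

include s

theorem inv_eq : a⁻¹ = a := inv_eq_of_mul_eq_one_right s.sq

theorem cancel (d : G) : a * (a * d) = d := by rw [← mul_assoc, s.sq, one_mul]

theorem comm' {d : G} (hd : d ∈ D) : a * d = d * a := by
  rcases s.cover d hd with h | h
  · exact s.comm d h
  · have := s.comm _ h
    rw [s.cancel] at this
    calc a * d = a * d * a * a := by rw [mul_assoc (a * d), s.sq, mul_one]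
      _ = d * a := by rw [← this]

theorem mul_notMem {h : G} (hh : h ∈ H) : a * h ∉ H := fun e =>
  s.notMem (by have := mul_mem e (inv_mem hh); rwa [mul_inv_cancel_right] at this)

theorem mul_mem_of_notMem {d : G} (hd : d ∈ D) (h : d ∉ H) : a * d ∈ H :=
  (s.cover d hd).resolve_left h

open Classical in
/-- `1` on `H` and `-1` outside. -/
noncomputable def sign : D →* ℂˣ where
  toFun d := if (d : G) ∈ H then 1 else -1
  map_one' := if_pos H.one_mem
  map_mul' x y := by
    by_cases hx : (x : G) ∈ H <;> by_cases hy : (y : G) ∈ H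
    · simp [hx, hy, mul_mem hx hy]
    · have : ((x * y : D) : G) ∉ H := fun e => hy ((Subgroup.mul_mem_cancel_left H hx).1 e)
      rw [if_neg this, if_pos hx, if_neg hy, one_mul]
    · have : ((x * y : D) : G) ∉ H := fun e => hx ((Subgroup.mul_mem_cancel_right H hy).1 e)
      rw [if_neg this, if_pos hy, if_neg hx, mul_one]
    · have : ((x * y : D) : G) ∈ H := by
        have e := mul_mem (s.mul_mem_of_notMem x.2 hx) (s.mul_mem_of_notMem y.2 hy)
        rwa [s.comm' x.2, mul_assoc, s.cancel] at e
      rw [if_pos this, if_neg hx, if_neg hy, neg_mul_neg, one_mul]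

open Classical in
/-- The projection onto `H`. -/
noncomputable def proj : D →* H where
  toFun d := if h : (d : G) ∈ H then ⟨d, h⟩ else ⟨a * d, s.mul_mem_of_notMem d.2 h⟩
  map_one' := dif_pos H.one_mem
  map_mul' x y := by
    by_cases hx : (x : G) ∈ H <;> by_cases hy : (y : G) ∈ H
    · have : ((x * y : D) : G) ∈ H := mul_mem hx hy
      rw [dif_pos this, dif_pos hx, dif_pos hy]; rfl
    · have : ((x * y : D) : G) ∉ H := fun e => hy ((Subgroup.mul_mem_cancel_left H hx).1 e)
      rw [dif_neg this, dif_pos hx, dif_neg hy]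
      ext
      simp only [Subgroup.coe_mul]
      rw [← mul_assoc, ← mul_assoc, s.comm x hx]
    · have : ((x * y : D) : G) ∉ H := fun e => hx ((Subgroup.mul_mem_cancel_right H hy).1 e)
      rw [dif_neg this, dif_neg hx, dif_pos hy]
      ext
      simp only [Subgroup.coe_mul]
      rw [← mul_assoc]
    · have : ((x * y : D) : G) ∈ H := by
        have e := mul_mem (s.mul_mem_of_notMem x.2 hx) (s.mul_mem_of_notMem y.2 hy)
        rwa [s.comm' x.2, mul_assoc, s.cancel] at e
      rw [dif_pos this, dif_neg hx, dif_neg hy]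
      ext
      simp only [Subgroup.coe_mul]
      rw [s.comm' x.2, mul_assoc (x : G) a, s.cancel]

theorem sign_of_mem {d : D} (h : (d : G) ∈ H) : s.sign d = 1 := if_pos h

theorem sign_of_notMem {d : D} (h : (d : G) ∉ H) : s.sign d = -1 := if_neg h

theorem proj_of_mem {d : D} (h : (d : G) ∈ H) : s.proj d = ⟨d, h⟩ := dif_pos h

theorem proj_of_notMem {d : D} (h : (d : G) ∉ H) :
    s.proj d = ⟨a * d, s.mul_mem_of_notMem d.2 h⟩ := dif_neg h

/-- The element `a * h`. -/
def flip (h : H) : D := ⟨a * h, mul_mem s.mem (s.le h.2)⟩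

/-- The element `h`. -/
def incl (h : H) : D := ⟨h, s.le h.2⟩

theorem sign_incl (h : H) : s.sign (s.incl h) = 1 := s.sign_of_mem h.2

theorem sign_flip (h : H) : s.sign (s.flip h) = -1 := s.sign_of_notMem (s.mul_notMem h.2)

theorem proj_incl (h : H) : s.proj (s.incl h) = h := s.proj_of_mem h.2

theorem proj_flip (h : H) : s.proj (s.flip h) = h := by
  rw [s.proj_of_notMem (d := s.flip h) (s.mul_notMem h.2)]
  exact Subtype.ext (s.cancel h)

theorem bijective_elim :
    Function.Bijective (Sum.elim s.incl s.flip : H ⊕ H → D) := by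
  constructor
  · rintro (x | x) (y | y) e
    · exact congrArg Sum.inl (by simpa [s.proj_incl] using congrArg s.proj e)
    · have e' : (x : G) = a * (y : G) := congrArg Subtype.val e
      exact absurd (e' ▸ x.2) (s.mul_notMem y.2)
    · have e' : a * (x : G) = (y : G) := congrArg Subtype.val e
      exact absurd (e'.symm ▸ y.2) (s.mul_notMem x.2)
    · exact congrArg Sum.inr (by simpa [s.proj_flip] using congrArg s.proj e)
  · intro d
    by_cases h : (d : G) ∈ H
    · exact ⟨Sum.inl ⟨d, h⟩, rfl⟩
    · exact ⟨Sum.inr ⟨a * d, s.mul_mem_of_notMem d.2 h⟩, Subtype.ext (s.cancel d)⟩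

theorem sum_eq [Fintype H] [Fintype D] {M : Type*} [AddCommMonoid M] (f : D → M) :
    ∑ d, f d = ∑ h : H, (f (s.incl h) + f (s.flip h)) := by
  rw [← Fintype.sum_bijective _ s.bijective_elim (fun x => f (Sum.elim s.incl s.flip x)) f
    fun _ => rfl, Fintype.sum_sum_type, Finset.sum_add_distrib]
  rfl

theorem card_eq [Finite G] : Nat.card D = 2 * Nat.card H := by
  rw [← Nat.card_eq_of_bijective _ s.bijective_elim, Nat.card_sum, two_mul]

end TwoSplit

end CfsgLib.GoldFree
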